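import Cfsg.Agent.Lib.CyclicBlock.Count

/-!
# The regular inner products of a block with cyclic defect group

With the signs of the relation, `|D|` times the matrix of the regular inner products of the
nonexceptional members is `|D| I - m J`, `m` being the number of the exceptional ones.
-/

set_option autoImplicit false
set_option linter.unusedSectionVars false
set_option linter.style.haveILetI false
set_option maxHeartbeats 1000000

namespace CfsgLib.CyclicBlock.Data

open Cfsg CfsgLib.Characters CfsgLib.Blocks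
open scoped Classical ComplexConjugate

universe u

variable {G : Type u} [Group G] [Fintype G] {p : ℕ} [hp : Fact p.Prime] {M : Ideal AlgInt}
  [M.IsMaximal] {hM : IsPModular p M} {B : Set (IrrCharacter G)}

/-- A signed basis of the regular parts and the form of their inner products. -/
theorem exists_gram (L : Data hM B) [Fintype L.K] :
    ∃ (X : Finset (IrrCharacter G)) (f : IrrCharacter G → G → ℂ) (m : ℕ),
      1 ≤ m ∧ X.card = blockRank p B ∧
      (∀ η ∈ B, ∃ n : IrrCharacter G → ℤ, ∀ x : G, ¬ p ∣ orderOf x →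
        (η : G → ℂ) x = ∑ θ ∈ X, (n θ : ℂ) * f θ x) ∧
      ∀ w : IrrCharacter G → ℂ, 2 * ((p : ℂ) ^ blockDefect p B * (Nat.card G : ℂ)⁻¹ *
          ∑ x ∈ Finset.univ.filter (fun x : G => ¬ p ∣ orderOf x),
            (∑ θ ∈ X, w θ * f θ x) * conj (∑ θ ∈ X, w θ * f θ x)) =
        2 * ∑ θ ∈ X, w θ * conj (w θ) +
          (m : ℂ) * ∑ θ ∈ X, ∑ φ ∈ X, (w θ - w φ) * conj (w θ - w φ) := by
  obtain ⟨-, Xs, Ys, hB, hdis, hXc, hYc, hag, δ, δ₀, hδ, hδ₀, hrel, -, -⟩ :=
    L.exists_relation L.blockRank_eq.ge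
  set X := Xs.toFinset with hX
  set Y := Ys.toFinset with hY
  have hXY : ∀ θ, θ ∈ B ↔ θ ∈ X ∨ θ ∈ Y := fun θ => by simp [hX, hY, hB]
  set f : IrrCharacter G → G → ℂ := fun θ x => (δ θ : ℂ) * (θ : G → ℂ) x with hf
  set e := L.inertia
  set m := (Nat.card L.D - 1) / e
  have hXe : X.card = e := by rw [hX, ← Set.ncard_eq_toFinset_card', ← hXc, Nat.card_coe_set_eq]
  have hYm : Y.card = m := by rw [hY, ← Set.ncard_eq_toFinset_card', ← hYc, Nat.card_coe_set_eq]
  have hd : p ^ blockDefect p B = Nat.card L.D := (BlockCover.natCard_defect hM L.hB L.hD).symm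
  have hpD : p ≤ Nat.card L.D := by
    have h := Subgroup.card_le_of_le L.hZD
    rwa [L.hZc] at h
  have hediv : e ∣ Nat.card L.D - 1 := by
    refine L.inertia_dvd.trans ?_
    rw [← hd]
    simpa using Nat.sub_dvd_pow_sub_pow p 1 (blockDefect p B)
  have hem : e * m + 1 = Nat.card L.D := by
    rw [Nat.mul_div_cancel' hediv]; have := hp.out.two_le; omega
  have hm1 : 1 ≤ m := Nat.one_le_iff_ne_zero.2 fun h0 => by
    have := hp.out.two_le; rw [h0, mul_zero] at hem; omega
  have hsq : ∀ θ ∈ X, (δ θ : ℂ) * (δ θ : ℂ) = 1 := fun θ hθ => by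
    rcases hδ θ (by simpa [hX] using hθ) with h | h <;> simp [h]
  have hsq0 : (δ₀ : ℂ) * (δ₀ : ℂ) = 1 := by rcases hδ₀ with h | h <;> simp [h]
  -- the members of `Y` at the regular elements
  have hY' : ∀ ψ ∈ Y, ∀ x : G, ¬ p ∣ orderOf x →
      (ψ : G → ℂ) x = -(δ₀ : ℂ) * ∑ θ ∈ X, f θ x := by
    intro ψ hψ x hx
    have h := hrel ψ (by simpa [hY] using hψ) x hx
    rw [finsum_mem_eq_toFinset_sum] at h
    linear_combination (δ₀ : ℂ) * h - (ψ : G → ℂ) x * hsq0
  have hspan : ∀ η ∈ B, ∃ n : IrrCharacter G → ℤ, ∀ x : G, ¬ p ∣ orderOf x →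
      (η : G → ℂ) x = ∑ θ ∈ X, (n θ : ℂ) * f θ x := by
    intro η hη
    rcases (hXY η).1 hη with h | h
    · refine ⟨fun θ => if θ = η then δ η else 0, fun x _ => ?_⟩
      rw [Finset.sum_eq_single η (fun θ _ hne => by simp [hne]) (fun h' => absurd h h')]
      simp [hf, ← mul_assoc, hsq η h]
    · refine ⟨fun _ => -δ₀, fun x hx => ?_⟩
      rw [hY' η h x hx, Finset.mul_sum]
      push_cast
      rfl
  have hpr : ∀ (g : G → ℂ) (y : G), pRegularPart p g y = if p ∣ orderOf y then 0 else g y := by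
    intro g y
    by_cases h : p ∣ orderOf y <;> simp [pRegularPart, IsPRegular, h]
  refine ⟨X, f, m, hm1, by rw [hXe, L.blockRank_eq], hspan, ?_⟩
  -- the regular parts are independent
  set R := Finset.univ.filter (fun x : G => ¬ p ∣ orderOf x) with hR
  set F : X → G → ℂ := fun θ => pRegularPart p (f θ.1) with hF
  have hind : LinearIndependent ℂ F := by
    rw [linearIndependent_iff_card_le_finrank_span, Fintype.card_coe, hXe,
      show e = blockRank p B from L.blockRank_eq.symm]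
    refine Submodule.finrank_mono (Submodule.span_le.2 ?_)
    rintro _ ⟨η, hη, rfl⟩
    obtain ⟨n, hn⟩ := hspan η hη
    have he : pRegularPart p (η : G → ℂ) = ∑ θ : X, (n θ.1 : ℂ) • F θ := by
      funext x
      simp only [Finset.sum_apply, Pi.smul_apply, smul_eq_mul, hF, hpr]
      by_cases hx : p ∣ orderOf x
      · simp [if_pos hx]
      · simp only [if_neg hx]
        rw [Finset.sum_coe_sort X fun θ => (n θ : ℂ) * f θ x]
        exact hn x hx
    show pRegularPart p (η : G → ℂ) ∈ _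
    rw [he]
    exact Submodule.sum_mem _ fun θ _ => Submodule.smul_mem _ _ (Submodule.subset_span ⟨θ, rfl⟩)
  set H : IrrCharacter G → IrrCharacter G → ℂ := fun θ φ =>
    (Nat.card G : ℂ)⁻¹ * ∑ x ∈ R, f θ x * conj (f φ x) with hH
  -- expanding a regular part over the block
  have hexp : ∀ θ ∈ X, ∀ x ∈ R, f θ x = ∑ φ ∈ X, (H θ φ + (m : ℂ) * ∑ φ' ∈ X, H θ φ') * f φ x := by
    intro θ hθ x hx
    have hxr := (Finset.mem_filter.1 hx).2
    have hcl : IsClassFunction G (pRegularPart p (f θ)) := fun g t => by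
      have ho : orderOf (t * g * t⁻¹) = orderOf g := (MulAut.conj t).orderOf_eq g
      simp only [hpr, ho, hf, irr_isClassFunction θ g t]
    have hci : ∀ ψ : IrrCharacter G, classInner (pRegularPart p (f θ)) (ψ : G → ℂ) =
        (Nat.card G : ℂ)⁻¹ * ∑ y ∈ R, f θ y * conj ((ψ : G → ℂ) y) := fun ψ => by
      rw [classInner, hR, Finset.sum_filter]
      congr 1
      refine Finset.sum_congr rfl fun y _ => ?_
      simp only [hpr]
      by_cases h : p ∣ orderOf y <;> simp [h]
    have hout : ∀ ψ : IrrCharacter G, ψ ∉ B →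
        classInner (pRegularPart p (f θ)) (ψ : G → ℂ) = 0 := fun ψ hψ => by
      rw [hci]
      simp only [hf, mul_assoc, ← Finset.mul_sum]
      rw [hR, sum_regular_eq_zero_of_not_sameBlock hM fun h => hψ
        ((IsPBlock.mem_iff hM L.hB ((hXY θ).2 (Or.inl hθ)) ψ).2 h), mul_zero, mul_zero]
    have hexp := congrFun (classFunction_eq_sum hcl) x
    simp only [Finset.sum_apply, Pi.smul_apply, smul_eq_mul] at hexp
    rw [hpr, if_neg hxr] at hexp
    rw [← Finset.sum_subset (Finset.subset_univ (X ∪ Y)) fun ψ _ hψ => by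
      rw [hout ψ (fun h => hψ (Finset.mem_union.2 ((hXY ψ).1 h))), zero_mul], Finset.sum_union (by simpa [hX, hY] using hdis)] at hexp
    refine hexp.trans ?_
    simp only [add_mul, Finset.sum_add_distrib, ← Finset.mul_sum]
    refine congrArg₂ (· + ·) ?_ ?_
    · refine Finset.sum_congr rfl fun φ hφ => ?_
      rw [hci φ]
      simp only [hH, hf, map_mul, map_intCast]
      rw [show (Nat.card G : ℂ)⁻¹ * (∑ y ∈ R, (δ θ : ℂ) * (θ : G → ℂ) y *
          ((δ φ : ℂ) * conj ((φ : G → ℂ) y))) =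
          (δ φ : ℂ) * ((Nat.card G : ℂ)⁻¹ * ∑ y ∈ R, (δ θ : ℂ) * (θ : G → ℂ) y *
            conj ((φ : G → ℂ) y)) by
        simp only [Finset.mul_sum]; exact Finset.sum_congr rfl fun y _ => by ring]
      linear_combination (-(Nat.card G : ℂ)⁻¹ * (∑ y ∈ R, (δ θ : ℂ) * (θ : G → ℂ) y *
            conj ((φ : G → ℂ) y)) * (φ : G → ℂ) x) * hsq φ hφ
    · rw [Finset.sum_congr rfl fun ψ hψ => show _ = (∑ φ' ∈ X, H θ φ') * ∑ φ ∈ X, f φ x by
        rw [hci ψ, hY' ψ hψ x hxr, Finset.sum_congr rfl fun y hy => by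
          rw [hY' ψ hψ y (Finset.mem_filter.1 hy).2]]
        simp only [hH, ← Finset.mul_sum]
        rw [Finset.sum_comm (f := fun φ' y => f θ y * conj (f φ' y))]
        simp only [← Finset.mul_sum, map_mul, map_neg, map_intCast, map_sum]
        rw [show (∑ y ∈ R, f θ y * (-(δ₀ : ℂ) * ∑ φ' ∈ X, conj (f φ' y))) =
          -(δ₀ : ℂ) * ∑ y ∈ R, f θ y * ∑ φ' ∈ X, conj (f φ' y) by
          rw [Finset.mul_sum (a := -(δ₀ : ℂ))]
          exact Finset.sum_congr rfl fun y _ => by ring]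
        linear_combination ((Nat.card G : ℂ)⁻¹ * (∑ y ∈ R, f θ y * ∑ φ' ∈ X, conj (f φ' y)) *
          ∑ φ ∈ X, f φ x) * hsq0]
      rw [Finset.sum_const, hYm, nsmul_eq_mul, mul_assoc, Finset.mul_sum]
  have hHeq : ∀ θ ∈ X, ∀ φ ∈ X, H θ φ + (m : ℂ) * ∑ φ' ∈ X, H θ φ' = if θ = φ then 1 else 0 := by
    intro θ hθ φ hφ
    set a : X → ℂ := fun φ => H θ φ.1 + (m : ℂ) * ∑ φ' ∈ X, H θ φ' - if θ = φ.1 then 1 else 0
    have h0 : ∑ φ : X, a φ • F φ = 0 := by
      funext x
      simp only [Finset.sum_apply, Pi.smul_apply, smul_eq_mul, Pi.zero_apply, hF, hpr]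
      by_cases hx : p ∣ orderOf x
      · simp [hx]
      · simp only [a, if_neg hx, sub_mul, Finset.sum_sub_distrib]
        rw [Finset.sum_coe_sort X fun φ => (H θ φ + (m : ℂ) * ∑ φ' ∈ X, H θ φ') * f φ x,
          Finset.sum_coe_sort X fun φ => (if θ = φ then (1 : ℂ) else 0) * f φ x,
          ← hexp θ hθ x (Finset.mem_filter.2 ⟨Finset.mem_univ x, hx⟩)]
        simp [hθ]
    exact sub_eq_zero.1 (Fintype.linearIndependent_iff.1 hind a h0 ⟨φ, hφ⟩)
  have hDc : (p : ℂ) ^ blockDefect p B = (e : ℂ) * m + 1 := by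
    exact_mod_cast hd.trans hem.symm
  have hval : ∀ θ ∈ X, ∀ φ ∈ X, (p : ℂ) ^ blockDefect p B * H θ φ =
      (if θ = φ then (p : ℂ) ^ blockDefect p B else 0) - m := by
    intro θ hθ φ hφ
    have hsum : ((e : ℂ) * m + 1) * ∑ φ' ∈ X, H θ φ' = 1 := by
      have h := Finset.sum_congr rfl fun φ hφ => hHeq θ hθ φ hφ
      rw [Finset.sum_add_distrib, Finset.sum_const, hXe, nsmul_eq_mul, Finset.sum_ite_eq,
        if_pos hθ] at h
      linear_combination h
    have h := hHeq θ hθ φ hφ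
    split_ifs at h ⊢ with hc <;> rw [hDc] <;>
      linear_combination ((e : ℂ) * m + 1) * h - (m : ℂ) * hsum
  intro w
  have hquad : (p : ℂ) ^ blockDefect p B * (Nat.card G : ℂ)⁻¹ *
      ∑ x ∈ R, (∑ θ ∈ X, w θ * f θ x) * conj (∑ θ ∈ X, w θ * f θ x) =
      ∑ θ ∈ X, ∑ φ ∈ X, w θ * conj (w φ) * ((p : ℂ) ^ blockDefect p B * H θ φ) := by
    simp only [hH, map_sum, map_mul, Finset.sum_mul_sum]
    simp only [Finset.mul_sum]
    rw [Finset.sum_comm]
    refine Finset.sum_congr rfl fun θ _ => ?_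
    rw [Finset.sum_comm]
    exact Finset.sum_congr rfl fun φ _ => Finset.sum_congr rfl fun x _ => by ring
  rw [hquad, Finset.sum_congr rfl fun θ hθ => Finset.sum_congr rfl fun φ hφ => by
    rw [hval θ hθ φ hφ]]
  simp only [mul_sub, Finset.sum_sub_distrib, mul_ite, mul_zero, Finset.sum_ite_eq]
  rw [Finset.sum_ite_of_true (fun _ h => h)]
  simp only [map_sub, sub_mul, mul_sub, Finset.sum_sub_distrib, Finset.sum_const, hXe,
    nsmul_eq_mul, ← Finset.mul_sum, ← Finset.sum_mul, hDc]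
  ring

end CfsgLib.CyclicBlock.Data
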