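import Cfsg.Agent.Lib.BrauerPairs.Setup
import Mathlib.Algebra.Polynomial.AlgebraMap
import Mathlib.Algebra.CharP.Lemmas
import Mathlib.GroupTheory.SpecificGroups.Cyclic

/-!
# A central nilpotent element of high index in a nilpotent block with cyclic defect group

For a block `f` of `K` below a pair `(D, e)` with `D` cyclic and `e` fixed in `N_K(D)` by `C(D)`
only, some central nilpotent element of the block has a power `|D| - 1` that is not zero.
-/

set_option autoImplicit false
set_option linter.unusedSectionVars false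

namespace CfsgLib.BrauerPairs

open MonoidAlgebra

variable {k : Type*} [Field k] {G : Type*} [Group G]

/-- A power `X ^ n - 1` in characteristic `p` for `n` a power of `p`. -/
theorem sub_one_pow_sub_one {R : Type*} [Ring R] {p : ℕ} [Fact p.Prime] [Algebra k R] [CharP k p]
    (x : R) {n a : ℕ} (hn : n = p ^ a) :
    (x - 1) ^ (n - 1) = ∑ j ∈ Finset.range n, x ^ j ∧ (x - 1) ^ n = x ^ n - 1 := by
  set T : Polynomial k := Polynomial.X with hT
  have h1 : (T - 1) ^ n = T ^ n - 1 := by
    rw [hn, sub_pow_char_pow, one_pow]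
  have hne : T - 1 ≠ 0 := by
    rw [hT, ← map_one Polynomial.C]
    exact Polynomial.X_sub_C_ne_zero 1
  have h2 : (T - 1) ^ (n - 1) = ∑ j ∈ Finset.range n, T ^ j := by
    refine mul_right_cancel₀ hne ?_
    rw [geom_sum_mul, ← pow_succ, Nat.sub_add_cancel (by
      rw [hn]; exact Nat.one_le_pow _ _ (Fact.out : p.Prime).pos), h1]
  have h1' := congrArg (Polynomial.aeval x) h1
  have h2' := congrArg (Polynomial.aeval x) h2
  simp only [hT, map_pow, map_sub, map_one, map_sum, Polynomial.aeval_X] at h1' h2'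
  exact ⟨h2', h1'⟩

variable [Fintype G]

/-- An element of `k[C]` killed by the sum of `D` is a multiple of `u - 1`. -/
theorem exists_mul_sub_one {D : Subgroup G} {u : G} (hu : ∀ d ∈ D, ∃ j : ℕ, u ^ j = d)
    {x : MonoidAlgebra k G} [Fintype D] (hxs : x ∈ suppAlg k (cz D)) (hD : D ≤ cz D)
    (hsum : ∀ g : G, ∑ d : D, x.coeff ((d : G)⁻¹ * g) = 0) :
    ∃ y ∈ suppAlg k (cz D), x = (single u (1 : k) - 1) * y := by
  classical
  -- a representative of the coset
  let r : G → G := fun g => (Quotient.out (Quotient.mk (QuotientGroup.rightRel D) g))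
  have hrel : ∀ g, g * (r g)⁻¹ ∈ D := fun g =>
    QuotientGroup.rightRel_apply.1 (Quotient.exact (Quotient.out_eq (Quotient.mk (QuotientGroup.rightRel D) g)))
  have hr : ∀ g (d : D), r ((d : G)⁻¹ * g) = r g := fun g d => by
    refine congrArg Quotient.out (Quotient.sound ?_)
    show QuotientGroup.rightRel D _ _
    rw [QuotientGroup.rightRel_apply]
    simp
  have hzero : ∑ g : G, single (r g) (x.coeff g) = 0 := by
    ext z
    rw [coeff_sum, Finsupp.finsetSum_apply, coeff_zero, Finsupp.zero_apply]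
    simp only [coeff_single, Finsupp.single_apply]
    rw [← Finset.sum_filter]
    rcases Finset.eq_empty_or_nonempty (Finset.univ.filter fun g => r g = z) with h | ⟨g₀, hg₀⟩
    · rw [h, Finset.sum_empty]
    · obtain ⟨-, hg₀⟩ := Finset.mem_filter.1 hg₀
      rw [← hsum g₀]
      symm
      refine Finset.sum_bij (fun (d : D) _ => (d : G)⁻¹ * g₀) (fun d _ => ?_) (fun d _ d' _ h => ?_)
        (fun g hg => ?_) (fun d _ => rfl)
      · exact Finset.mem_filter.2 ⟨Finset.mem_univ _, by rw [hr, hg₀]⟩
      · exact Subtype.ext (inv_injective (mul_right_cancel h))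
      · obtain ⟨-, hg⟩ := Finset.mem_filter.1 hg
        have h1 := hrel g₀
        rw [hg₀] at h1
        have h2 := hrel g
        rw [hg] at h2
        refine ⟨⟨g₀ * g⁻¹, ?_⟩, Finset.mem_univ _, by simp⟩
        have := D.mul_mem h1 (D.inv_mem h2)
        simpa [mul_assoc] using this
  choose j hj using fun g => hu _ (hrel g)
  have hsub : ∀ g, single g (x.coeff g) - single (r g) (x.coeff g) =
      (single u (1 : k) - 1) *
        ((∑ i ∈ Finset.range (j g), single u (1 : k) ^ i) * single (r g) (x.coeff g)) := by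
    intro g
    rw [← mul_assoc, mul_geom_sum, sub_mul, one_mul, single_pow, one_pow, hj g, single_mul_single,
      one_mul, inv_mul_cancel_right]
  refine ⟨∑ g ∈ Finset.univ.filter (fun g => g ∈ cz D),
    (∑ i ∈ Finset.range (j g), single u (1 : k) ^ i) * single (r g) (x.coeff g),
    Subalgebra.sum_mem _ fun g hg => ?_, ?_⟩
  · obtain ⟨-, hg⟩ := Finset.mem_filter.1 hg
    have hrg : r g ∈ cz D := by
      have := (cz D).mul_mem ((cz D).inv_mem (hD (hrel g))) hg
      simpa using this
    refine Subalgebra.mul_mem _ (Subalgebra.sum_mem _ fun i hi => ?_) (single_mem_suppAlg hrg _)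
    rw [single_pow, one_pow]
    refine single_mem_suppAlg ?_ _
    rcases Nat.eq_zero_or_pos i with h0 | h0
    · rw [h0, pow_zero]; exact (cz D).one_mem
    · refine Subgroup.pow_mem _ ?_ _
      have : u ^ (j g) ∈ cz D := hD (hj g ▸ hrel g)
      exact mem_cz.2 fun q hq => by
        obtain ⟨t, rfl⟩ := hu q hq
        exact ((Commute.refl u).pow_left t).eq
  · rw [Finset.mul_sum]
    simp only [← hsub]
    rw [Finset.sum_filter_of_ne, Finset.sum_sub_distrib, hzero, sub_zero]
    · ext z
      simp [coeff_sum, Finsupp.finsetSum_apply, Finsupp.single_apply]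
    · intro g _ hne
      by_contra hg
      apply hne
      rw [coeff_eq_zero_of_mem_suppAlg hxs hg]
      simp

variable {p : ℕ} [hp : Fact p.Prime] [CharP k p]

/-- The trace from `C(D)` to `N` of a fixed element times `e`, when `C(D)` is the stabiliser. -/
theorem relTr_mul_eq_of_stab {D N : Subgroup G} (hN : N ≤ Subgroup.normalizer (D : Set G))
    {e x : MonoidAlgebra k G} (he : IsBlockIdem (cz D) e) (hx : x ∈ fixAlg k (cz D))
    (hstab : ∀ g ∈ N, conjA g e = e → g ∈ cz D) :
    relTr k (cz D) N (x * e) * e = x * e := by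
  classical
  have hxe : x * e ∈ fixAlg k (cz D) := Subalgebra.mul_mem _ hx he.fixed
  rw [relTr_eq_sum, Finset.sum_mul, Finset.sum_eq_single (QuotientGroup.mk (1 : N))]
  · rw [conjA_out_eq hxe, Subgroup.coe_one, conjA_one_left, mul_assoc, he.idem]
  · intro q _ hq
    have hb := he.conjA ((q.out : N) : G)
    rw [← cz_map_conj, map_conj_eq_self (hN (q.out).2)] at hb
    rw [conjA_mul, mul_assoc, hb.mul_eq_zero he, mul_zero]
    intro h
    apply hq
    rw [← q.out_eq', QuotientGroup.eq, Subgroup.mem_subgroupOf]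
    simpa using Subgroup.inv_mem _ (hstab _ (q.out).2 h)
  · simp

/-- The nilpotent element. -/
theorem exists_eta {D K : Subgroup G} {n a : ℕ} (hn : Nat.card D = n) (hna : n = p ^ a)
    (hcyc : IsCyclic D) (hDC : D ≤ cz D) (hCK : cz D ≤ K)
    {e f : MonoidAlgebra k G} (he : IsBlockIdem (cz D) e) (hf : IsBlockIdem K f)
    (hcov : brMap k D f * e = e)
    (hstab : ∀ g ∈ K ⊓ Subgroup.normalizer (D : Set G), conjA g e = e → g ∈ cz D)
    (htr : InTr D D (cz D) e) :
    ∃ η, η ∈ suppAlg k K ∧ η ∈ fixAlg k K ∧ η * f = η ∧ IsNilpotent η ∧ η ^ (n - 1) ≠ 0 := by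
  classical
  have hp1 := hp.out
  have hpg : IsPGroup p D := IsPGroup.of_card (hn.trans hna)
  obtain ⟨⟨u, huD⟩, hu⟩ := hcyc.exists_generator
  have hu' : ∀ d ∈ D, ∃ j : ℕ, u ^ j = d := by
    intro d hd
    obtain ⟨j, hj⟩ := mem_powers_iff_mem_zpowers.2 (hu ⟨d, hd⟩)
    exact ⟨j, congrArg Subtype.val hj⟩
  have hou : orderOf u = n := by
    rw [← hn, ← orderOf_eq_card_of_forall_mem_zpowers hu, Subgroup.orderOf_mk]
  set U := single u (1 : k) with hU
  have hUn : U ^ n = 1 := by rw [hU, single_pow, one_pow, ← hou, pow_orderOf_eq_one, one_def]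
  have hUs : U ∈ suppAlg k (cz D) := single_mem_suppAlg (hDC huD) 1
  have hUf : U ∈ fixAlg k (cz D) := by
    intro g hg
    rw [conjA, hU, single_mul_single, single_mul_single, one_mul, one_mul,
      ← mem_cz.1 hg u huD, mul_inv_cancel_right]
  -- the trace
  obtain ⟨v₀, hv₀, hv₀f, htr₀⟩ := htr
  set v := v₀ * e
  have hv : v ∈ suppAlg k (cz D) := Subalgebra.mul_mem _ hv₀ he.supp
  have hvtr : relTr k D (cz D) v = e := by rw [← relTr_mul_right he.fixed, htr₀, he.idem]
  set w := U * v
  have hw : w ∈ suppAlg k (cz D) := Subalgebra.mul_mem _ hUs hv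
  have hwf : w ∈ fixAlg k D := fixed_of_supp_cz hw
  set τ := relTr k D K w
  have hDK : D ≤ K := hDC.trans hCK
  have hτs : τ ∈ suppAlg k K :=
    relTr_mem_suppAlg Subgroup.le_normalizer (suppAlg_mono hCK hw)
  have hτf : τ ∈ fixAlg k K := relTr_mem_fixAlg hwf
  have hbr : brMap k D τ * e = U * e := by
    rw [brMap_relTr_self hpg hDK hwf, brMap_eq_self hw,
      ← relTr_relTr hDC (le_inf hCK (cz_le_normalizer D)) hwf,
      show relTr k D (cz D) w = U * e by rw [← relTr_mul_left hUf, hvtr],
      relTr_mul_eq_of_stab inf_le_right he hUf hstab]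
  obtain ⟨c, hc⟩ := hf.locally τ hτs hτf
  set η := τ * f - f with hη
  have hfD : f ∈ fixAlg k D := fixAlg_anti hDK hf.fixed
  have hτD : τ ∈ fixAlg k D := fixAlg_anti hDK hτf
  have hbrf : brMap k D f * e = e := hcov
  have hzD : τ * f - c • f ∈ fixAlg k D :=
    Subalgebra.sub_mem _ (Subalgebra.mul_mem _ hτD hfD) (Subalgebra.smul_mem _ hfD c)
  have hbrz : ∀ r : k, brMap k D (τ * f - r • f) * e = (U - r • 1) * e := fun r => by
    rw [map_sub, map_smul, brMap_mul hpg hτD hfD, sub_mul, smul_mul_assoc, hbrf, mul_assoc, hbrf,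
      hbr, sub_mul, smul_mul_assoc, one_mul]
  -- `c = 1`
  have hUe : Commute U e := commute_of_supp_fix hUs he.fixed
  have hnilU : IsNilpotent ((U - 1) * e) := by
    refine ⟨n, ?_⟩
    rw [((hUe.sub_left (Commute.one_left e))).mul_pow, (sub_one_pow_sub_one (k := k) U hna).2, hUn,
      sub_self, zero_mul]
  have hbrcomm : Commute (brMap k D (τ * f - c • f)) e :=
    commute_of_supp_fix (brMap_mem_suppAlg _ _) he.fixed
  have hnilc : IsNilpotent ((U - c • 1) * e) := by
    rw [← hbrz]
    obtain ⟨m, hm⟩ := hc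
    refine ⟨m, ?_⟩
    rw [hbrcomm.mul_pow, ← brMap_pow hpg hzD, hm, map_zero, zero_mul]
  have hc1 : c = 1 := by
    by_contra hne
    have hd : IsNilpotent ((1 - c) • e) := by
      rw [show (1 - c) • e = (U - c • 1) * e - (U - 1) * e by
        simp only [sub_mul, smul_mul_assoc, one_mul, sub_smul, one_smul]; abel]
      refine Commute.isNilpotent_sub ?_ hnilc hnilU
      have h1 : Commute (U - c • 1) (U - 1) :=
        ((Commute.refl U).sub_right (Commute.one_right U)).sub_left
          ((Commute.one_left (U - 1)).smul_left c)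
      exact ((h1.mul_right (hUe.sub_left ((Commute.one_left e).smul_left c))).mul_left
        ((((hUe.symm).sub_right (Commute.one_right e)).mul_right (Commute.refl e))))
    obtain ⟨m, hm⟩ := hd
    rw [_root_.smul_pow, smul_eq_zero] at hm
    rcases hm with hm | hm
    · exact hne (sub_eq_zero.1 (eq_zero_of_pow_eq_zero hm)).symm
    · exact he.ne_zero (eq_zero_of_nilpotent_idem ⟨m, hm⟩ he.idem)
  subst hc1
  rw [one_smul] at hc hbrcomm hzD
  refine ⟨η, Subalgebra.sub_mem _ (Subalgebra.mul_mem _ hτs hf.supp) hf.supp,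
    Subalgebra.sub_mem _ (Subalgebra.mul_mem _ hτf hf.fixed) hf.fixed,
    by rw [hη, sub_mul, mul_assoc, hf.idem], hc, fun h0 => ?_⟩
  have hbrη : brMap k D η * e = (U - 1) * e := by simpa [hη] using hbrz 1
  have hpos : 1 ≤ n := hna ▸ Nat.one_le_pow _ _ hp1.pos
  have hS : (U - 1) ^ (n - 1) * e = 0 := by
    rcases Nat.eq_zero_or_pos (n - 1) with h | h
    · rw [h, pow_zero] at h0
      have := hf.ne_zero
      exact absurd (by rw [← one_mul f, h0, zero_mul]) this
    · have he' : e ^ (n - 1) = e := by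
        obtain ⟨i, hi⟩ := Nat.exists_eq_succ_of_ne_zero h.ne'
        rw [hi]
        exact IsIdempotentElem.pow_succ_eq i he.idem
      have h1 := congrArg (fun z => z ^ (n - 1)) hbrη
      rw [← hη] at hbrcomm hzD
      rw [hbrcomm.mul_pow, ← brMap_pow hpg hzD, h0, map_zero, zero_mul,
        (hUe.sub_left (Commute.one_left e)).mul_pow, he'] at h1
      exact h1.symm
  have hsum : ∀ g : G, ∑ d : D, e.coeff ((d : G)⁻¹ * g) = 0 := by
    intro g
    have h1 := congrArg (fun z : MonoidAlgebra k G => z.coeff g) hS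
    rw [(sub_one_pow_sub_one (k := k) U hna).1, Finset.sum_mul] at h1
    simp only [coeff_sum, Finsupp.finsetSum_apply, coeff_zero, Finsupp.zero_apply, hU, single_pow,
      one_pow] at h1
    have hterm : ∀ i : ℕ, (single (u ^ i) (1 : k) * e).coeff g = e.coeff ((u ^ i)⁻¹ * g) :=
      fun i => by
        rw [coeff_single_mul_eq_mul_coeff (x := e) ((u ^ i)⁻¹ * g)
          (fun m _ => ⟨fun h => by rw [← h]; simp, fun h => by rw [h]; simp⟩), one_mul]
    simp only [hterm] at h1
    rw [← h1]
    have hinj : Set.InjOn (fun i : ℕ => u ^ i) (Finset.range n) := fun i hi j hj h => by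
      rw [Finset.coe_range, ← hou, Set.mem_Iio] at hi hj
      exact pow_injOn_Iio_orderOf hi hj h
    symm
    refine Finset.sum_bij (fun i _ => (⟨u ^ i, D.pow_mem huD i⟩ : D)) (fun i _ => Finset.mem_univ _)
      (fun i hi j hj h => hinj hi hj (congrArg Subtype.val h)) (fun d _ => ?_) (fun i _ => rfl)
    obtain ⟨j, hj⟩ := hu' d d.2
    refine ⟨j % n, Finset.mem_range.2 (Nat.mod_lt _ hpos), Subtype.ext ?_⟩
    show u ^ (j % n) = d
    rw [← hou, pow_mod_orderOf, hj]
  obtain ⟨y, hy, hye⟩ := exists_mul_sub_one hu' he.supp hDC hsum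
  have hcy : Commute (U - 1) y :=
    (commute_of_supp_fix hy hUf).symm.sub_left (Commute.one_left y)
  apply he.ne_zero
  rw [← IsIdempotentElem.pow_succ_eq (n - 1) he.idem, Nat.sub_add_cancel hpos, hye, ← hU,
    hcy.mul_pow, (sub_one_pow_sub_one (k := k) U hna).2, hUn, sub_self, zero_mul]

end CfsgLib.BrauerPairs
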