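import Cfsg.Agent.Lib.CyclicBlock.Stable
import Cfsg.Agent.Lib.ModRep.Simple

/-!
# Every extension maps into some simple module of the block

If no simple constituent of a module takes a map of an extension outside the image of the largest
power of `η`, then neither does the module. The module induced from the extension, cut by the
block, takes one.
-/

set_option autoImplicit false
set_option linter.unusedSectionVars false

namespace CfsgLib.CyclicBlock

open MonoidAlgebra CfsgLib.BrauerPairs
open scoped Matrix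

universe u v w

variable {k : Type u} [Field k] {G : Type v} [Group G] [Fintype G]
variable {V : Type w} [AddCommGroup V] [Module k V] (ρ : G →* Module.End k V)

theorem act_eq_algRep : act ρ = ModRep.algRep ρ := rfl

namespace Local

variable {L : Local k G} {τ : L.T →* Matrix (Fin L.s) (Fin L.s) k}

variable (L τ) in
/-- All maps from the extension fall into the top. -/
def AllInTop : Prop :=
  ∀ σ : (Fin L.s → k) →ₗ[k] V, L.IsHom ρ τ σ → ∀ v, σ v ∈ L.top ρ

theorem A_subRep {W : Submodule k V} (hW : ModRep.Invariant ρ W) (x : suppAlg k L.K) (v : W) :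
    ((L.A (ModRep.subRep hW) x v : W) : V) = L.A ρ x v :=
  ModRep.algRep_subRep hW _ v

theorem A_quotRep {W : Submodule k V} (hW : ModRep.Invariant ρ W) (x : suppAlg k L.K) (v : V) :
    L.A (ModRep.quotRep hW) x (Submodule.Quotient.mk v) = Submodule.Quotient.mk (L.A ρ x v) :=
  ModRep.algRep_quotRep hW _ v

/-- The property passes to extensions. -/
theorem allInTop_of_sub_quot (hτ : L.IsExt τ) {W : Submodule k V} (hW : ModRep.Invariant ρ W)
    (h1 : L.AllInTop (ModRep.subRep hW) τ) (h2 : L.AllInTop (ModRep.quotRep hW) τ) :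
    L.AllInTop ρ τ := by
  classical
  intro σ hσ
  set σb : (Fin L.s → k) →ₗ[k] V ⧸ W := W.mkQ.comp σ
  have hσb : L.IsHom (ModRep.quotRep hW) τ σb := ⟨fun t v => by
    show Submodule.mapQ W W (ρ (t : G)) (hW (t : G)) (Submodule.Quotient.mk (σ v)) = Submodule.Quotient.mk _
    rw [Submodule.mapQ_apply, hσ.equivariant]⟩
  obtain ⟨yb, hyb⟩ := h2 σb hσb (Pi.single L.o 1)
  obtain ⟨y, rfl⟩ := Submodule.Quotient.mk_surjective W yb
  rw [A_quotRep] at hyb
  have hy : L.A ρ (L.η ^ (L.n - 1)) y - σ (Pi.single L.o 1) ∈ W :=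
    (Submodule.Quotient.eq W).1 hyb
  -- the lift over `k[K]`
  set β : (Fin L.s → k) →ₗ[k] V :=
    Fintype.linearCombination k fun p => L.A ρ (L.S.a p * L.η ^ (L.n - 1) * L.S.i) y with hβ
  have hcomm : ∀ m x, L.η ^ m * x = x * L.η ^ m := fun m x =>
    (show Commute L.η x from L.η_comm x).pow_left m
  have hsplit : ∀ v : Fin L.s → k, v = ∑ p, v p • (L.π (L.S.a p) *ᵥ Pi.single L.o 1) := fun v => by
    funext q
    simp [L.S.π_a, Finset.sum_apply, Matrix.single_apply, Pi.single_apply]
  have hi₀ : L.A ρ L.S.i (σ (Pi.single L.o 1)) = σ (Pi.single L.o 1) := by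
    rw [hσ.act ρ hτ, L.S.π_i]
    congr 1
    funext q
    simp [Matrix.single_apply, Pi.single_apply, eq_comm]
  have hβW : ∀ v, β v - σ v ∈ W := by
    intro v
    conv => congr; · skip
            rw [hsplit v]
    rw [map_sum, map_sum, ← Finset.sum_sub_distrib]
    refine Submodule.sum_mem _ fun p _ => ?_
    rw [map_smul, map_smul, ← smul_sub]
    refine Submodule.smul_mem _ _ ?_
    have hb : β (L.π (L.S.a p) *ᵥ Pi.single L.o 1) =
        L.A ρ (L.S.a p * L.η ^ (L.n - 1) * L.S.i) y := by
      rw [hβ, Fintype.linearCombination_apply, Finset.sum_eq_single p]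
      · simp [L.S.π_a, Matrix.single_apply]
      · intro q _ hq; simp [L.S.π_a, Matrix.single_apply, Ne.symm hq]
      · simp
    have hs : σ (L.π (L.S.a p) *ᵥ Pi.single L.o 1) =
        L.A ρ (L.S.a p * L.S.i) (σ (Pi.single L.o 1)) := by
      rw [L.S.a_i, hσ.act ρ hτ]
    rw [hb, hs, show L.S.a p * L.η ^ (L.n - 1) * L.S.i = L.S.a p * L.S.i * L.η ^ (L.n - 1) by
      rw [mul_assoc, hcomm, ← mul_assoc], A_mul ρ L (L.S.a p * L.S.i), Module.End.mul_apply,
      ← map_sub]
    exact hW.algRep_mem _ hy
  have hβK : ∀ (x : suppAlg k L.K) v, L.A ρ x (β v) = β (L.π x *ᵥ v) := by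
    intro x v
    have key : ∀ p, x * (L.S.a p * L.η ^ (L.n - 1) * L.S.i) =
        ∑ q, L.π x q p • (L.S.a q * L.η ^ (L.n - 1) * L.S.i) := by
      intro p
      have hf : x * L.S.a p = L.f * (x * L.S.a p) := by
        rw [← mul_assoc, L.f_comm, mul_assoc, L.f_a]
      have h0 : x * L.S.a p = ∑ q, L.S.a q * (L.S.i * (L.S.c q * x * L.S.a p) * L.S.i) := by
        rw [hf]
        refine (congrArg (· * (x * L.S.a p)) L.S.sum_eq.symm).trans ?_
        show (∑ q, L.S.a q * L.S.c q) * _ = _
        rw [Finset.sum_mul]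
        refine Finset.sum_congr rfl fun q _ => ?_
        rw [← mul_assoc L.S.i, ← mul_assoc L.S.i, L.S.i_c, mul_assoc (L.S.c q * x), L.S.a_i]
        simp only [mul_assoc]
      rw [← mul_assoc, ← mul_assoc, h0, Finset.sum_mul, Finset.sum_mul]
      refine Finset.sum_congr rfl fun q _ => ?_
      obtain ⟨lam, hlam⟩ := L.S.corner (L.S.c q * x * L.S.a p)
      have h0' : (⟨0, by have := L.hn; omega⟩ : Fin L.n) ∈ (Finset.univ : Finset (Fin L.n)) :=
        Finset.mem_univ _
      have hval : L.π x q p = lam ⟨0, by have := L.hn; omega⟩ := by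
        have h := congrFun (congrFun (congrArg L.π hlam) L.o) L.o
        simp only [map_mul, map_sum, map_smul, map_pow, L.π_η, L.S.π_i, L.S.π_c, L.S.π_a] at h
        rw [Finset.sum_eq_single_of_mem _ h0'] at h
        · simpa [Matrix.single_mul_mul_single] using h
        · intro j _ hj
          rw [zero_pow (fun h' => hj (Fin.ext h')), zero_mul, smul_zero]
      rw [mul_assoc, mul_assoc, hlam, Finset.sum_mul, Finset.mul_sum,
        Finset.sum_eq_single_of_mem _ h0']
      · simp only [pow_zero, one_mul, smul_mul_assoc, mul_smul_comm, ← hval]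
        rw [show L.S.i * (L.η ^ (L.n - 1) * L.S.i) = L.η ^ (L.n - 1) * L.S.i by
          rw [← mul_assoc, ← hcomm, mul_assoc, L.S.i_idem], mul_assoc]
      · intro j _ hj
        have hj0 : (j : ℕ) ≠ 0 := fun h' => hj (Fin.ext h')
        rw [smul_mul_assoc, mul_smul_comm, mul_assoc (L.η ^ (j : ℕ)), ← mul_assoc L.S.i,
          ← hcomm (L.n - 1) L.S.i, ← mul_assoc (L.η ^ (j : ℕ)), ← mul_assoc (L.η ^ (j : ℕ)),
          ← pow_add]
        obtain ⟨d, hd⟩ := Nat.exists_eq_add_of_le (show L.n ≤ (j : ℕ) + (L.n - 1) by omega)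
        rw [hd, pow_add, L.S.eta_pow, zero_mul, zero_mul, zero_mul, mul_zero, smul_zero]
    rw [hβ, Fintype.linearCombination_apply, Fintype.linearCombination_apply, map_sum]
    simp only [map_smul, ← Module.End.mul_apply, ← A_mul, key, A_sum, A_smul, LinearMap.sum_apply,
      LinearMap.smul_apply, Finset.smul_sum, smul_smul, Matrix.mulVec, dotProduct, Finset.sum_smul]
    rw [Finset.sum_comm]
    exact Finset.sum_congr rfl fun q _ => Finset.sum_congr rfl fun p _ => by rw [mul_comm]
  have hβtop : ∀ v, β v ∈ L.top ρ := by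
    intro v
    rw [hβ, Fintype.linearCombination_apply]
    refine Submodule.sum_mem _ fun p _ => Submodule.smul_mem _ _ ⟨L.A ρ (L.S.a p * L.S.i) y, ?_⟩
    rw [← Module.End.mul_apply, ← A_mul]
    congr 2
    rw [← mul_assoc, hcomm]
  -- its average over the cosets of `K`
  set K' := L.K.subgroupOf L.T
  letI : Fintype (L.T ⧸ K') := Fintype.ofFinite _
  set e := ((L.K.relIndex L.T : ℕ) : k) with he
  let m : L.T → ((Fin L.s → k) →ₗ[k] V) := fun q =>
    ((ρ (q : G)).comp β).comp (Matrix.mulVecLin (τ q⁻¹))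
  have hm : ∀ q v, m q v = ρ (q : G) (β (τ q⁻¹ *ᵥ v)) := fun q v => rfl
  have hmK : ∀ x : L.T, (x : G) ∈ L.K → ∀ q v, m (q * x) v = m q v := by
    intro x hx q v
    have h : ∀ u, β (τ x *ᵥ u) = ρ (x : G) (β u) := fun u => by
      rw [hτ x hx, ← hβK, A, act_single]
    rw [hm, hm, Subgroup.coe_mul, map_mul, Module.End.mul_apply, mul_inv_rev, map_mul,
      ← Matrix.mulVec_mulVec, ← h, Matrix.mulVec_mulVec _ (τ x), ← map_mul, mul_inv_cancel, map_one,
      Matrix.one_mulVec]
  have hwell : ∀ x : L.T, ∀ v, m (QuotientGroup.mk x : L.T ⧸ K').out v = m x v := by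
    intro x v
    obtain ⟨⟨d, hd⟩, hx⟩ := QuotientGroup.mk_out_eq_mul K' x
    rw [hx]
    exact hmK d (Subgroup.mem_subgroupOf.1 hd) x v
  set σ' := e⁻¹ • ∑ q : L.T ⧸ K', m q.out with hσ'def
  have hσ' : L.IsHom ρ τ σ' := ⟨fun t v => by
    simp only [σ', LinearMap.smul_apply, LinearMap.sum_apply, map_smul, map_sum]
    congr 1
    refine Fintype.sum_equiv (MulAction.toPerm t) _ _ fun q => ?_
    obtain ⟨x, rfl⟩ := QuotientGroup.mk_surjective q
    rw [MulAction.toPerm_apply, MulAction.Quotient.smul_mk, smul_eq_mul, hwell, hwell, hm, hm,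
      Subgroup.coe_mul, map_mul, Module.End.mul_apply, Matrix.mulVec_mulVec, ← map_mul, mul_inv_rev,
      mul_assoc, inv_mul_cancel, mul_one]⟩
  have hσ'top : ∀ v, σ' v ∈ L.top ρ := fun v => by
    simp only [σ', LinearMap.smul_apply, LinearMap.sum_apply]
    exact Submodule.smul_mem _ _ (Submodule.sum_mem _ fun q _ =>
      hm q.out v ▸ L.top_stable ρ (q.out).2 (hβtop _))
  have hdiff : ∀ v, σ v - σ' v ∈ W := by
    intro v
    have h : ∀ q : L.T, σ v - m q v ∈ W := fun q => by
      have := hW (q : G) _ (W.neg_mem (hβW (τ q⁻¹ *ᵥ v)))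
      rwa [neg_sub, map_sub, hσ.equivariant, Matrix.mulVec_mulVec, ← map_mul, mul_inv_cancel,
        map_one, Matrix.one_mulVec, ← hm] at this
    have hcard : (Fintype.card (L.T ⧸ K') : k) = e := by
      rw [he, Subgroup.relIndex, Subgroup.index_eq_card, Nat.card_eq_fintype_card]
    have hsum : σ v - σ' v = e⁻¹ • ∑ q : L.T ⧸ K', (σ v - m q.out v) := by
      simp only [σ', LinearMap.smul_apply, LinearMap.sum_apply, Finset.sum_sub_distrib,
        Finset.sum_const, Finset.card_univ, ← Nat.cast_smul_eq_nsmul k, hcard, smul_sub, smul_smul,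
        inv_mul_cancel₀ (show e ≠ 0 from L.he), one_smul]
    rw [hsum]
    exact W.smul_mem _ (W.sum_mem fun q _ => h _)
  set δ : (Fin L.s → k) →ₗ[k] W := (σ - σ').codRestrict W fun v => by simpa using hdiff v
  have hδ : L.IsHom (ModRep.subRep hW) τ δ := ⟨fun t v => Subtype.ext (by
    show ρ (t : G) ((σ - σ') v) = (σ - σ') _
    simp only [LinearMap.sub_apply, map_sub, hσ.equivariant, hσ'.equivariant])⟩
  intro v
  obtain ⟨z, hz⟩ := h1 δ hδ v
  have hz' : L.A ρ (L.η ^ (L.n - 1)) z = σ v - σ' v := by
    rw [← A_subRep ρ hW, hz]; rfl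
  have := Submodule.add_mem _ (show σ v - σ' v ∈ L.top ρ from ⟨z, hz'⟩) (hσ'top v)
  rwa [sub_add_cancel] at this

theorem allInTop_equiv {V' : Type*} [AddCommGroup V'] [Module k V'] {ρ' : G →* Module.End k V'}
    (E : V ≃ₗ[k] V') (hE : ∀ g v, E (ρ g v) = ρ' g (E v)) (h : L.AllInTop ρ' τ) :
    L.AllInTop ρ τ := by
  intro σ hσ v
  obtain ⟨y, hy⟩ := h (E.toLinearMap.comp σ) ⟨fun t u => by
    show ρ' (t : G) (E (σ u)) = E (σ _)
    rw [← hE, hσ.equivariant]⟩ v
  have hact : ∀ (a : MonoidAlgebra k G) u, E (act ρ a u) = act ρ' a (E u) := by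
    intro a u
    induction a using MonoidAlgebra.induction_on with
    | of g => simp [hE]
    | add x z hx hz => simp [map_add, hx, hz]
    | smul r x hx => simp [map_smul, hx]
  refine ⟨E.symm y, E.injective ?_⟩
  rw [A, hact, LinearEquiv.apply_symm_apply]
  exact hy

/-- A module taking a map outside the top has a simple constituent that takes one. -/
theorem exists_simple [FiniteDimensional k V] (hτ : L.IsExt τ) (b : MonoidAlgebra k G)
    (hb : act ρ b = 1) (hne : ¬ L.AllInTop ρ τ) :
    ∃ (d : ℕ) (ρ' : G →* Module.End k (Fin d → k)), ModRep.IsSimp ρ' ∧ act ρ' b = 1 ∧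
      ¬ L.AllInTop ρ' τ := by
  induction hd : Module.finrank k V using Nat.strong_induction_on generalizing V with
  | _ N ih =>
    rcases subsingleton_or_nontrivial V with hsub | hnt
    · exact absurd (fun σ _ v => by
        rw [show σ v = 0 from Subsingleton.elim _ _]; exact Submodule.zero_mem _) hne
    by_cases hs : ModRep.IsSimp ρ
    · set bV := (Module.finBasis k V).equivFun with hbV
      let ρ' : G →* Module.End k (Fin (Module.finrank k V) → k) :=
        { toFun := fun g => bV.conj (ρ g)
          map_one' := by rw [map_one]; exact bV.conj_id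
          map_mul' := fun g h => by
            rw [map_mul]; exact LinearEquiv.conj_comp bV (ρ h) (ρ g) }
      have hE : ∀ g v, bV (ρ g v) = ρ' g (bV v) := fun g v => by
        simp [ρ', LinearEquiv.conj_apply]
      have hact : ∀ (a : MonoidAlgebra k G) u, bV (act ρ a u) = act ρ' a (bV u) := by
        intro a u
        induction a using MonoidAlgebra.induction_on with
        | of g => simp [hE]
        | add x z hx hz => simp [map_add, hx, hz]
        | smul r x hx => simp [map_smul, hx]
      refine ⟨_, ρ', ⟨?_, fun W hW => ?_⟩, ?_, fun h => hne (allInTop_equiv ρ bV hE h)⟩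
      · exact bV.symm.toEquiv.nontrivial
      · have hinv : ModRep.Invariant ρ (W.comap bV.toLinearMap) := fun g v hv => by
          show bV (ρ g v) ∈ W
          rw [hE]; exact hW g _ hv
        rcases hs.2 _ hinv with h | h
        · left
          rw [← Submodule.map_comap_eq_of_surjective bV.surjective W, h, Submodule.map_bot]
        · right
          rw [← Submodule.map_comap_eq_of_surjective bV.surjective W, h, Submodule.map_top,
            LinearMap.range_eq_top.2 bV.surjective]
      · refine LinearMap.ext fun u => ?_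
        rw [← bV.apply_symm_apply u, ← hact, hb]
        rfl
    · obtain ⟨W, hW, hbot, htop⟩ : ∃ W, ModRep.Invariant ρ W ∧ W ≠ ⊥ ∧ W ≠ ⊤ := by
        by_contra! h
        exact hs ⟨hnt, fun W hW => or_iff_not_imp_left.2 (h W hW)⟩
      by_cases h1 : L.AllInTop (ModRep.subRep hW) τ
      · have h2 : ¬ L.AllInTop (ModRep.quotRep hW) τ := fun h2 =>
          hne (allInTop_of_sub_quot ρ hτ hW h1 h2)
        refine ih _ ?_ (ModRep.quotRep hW) ?_ h2 rfl
        · subst hd
          have := Submodule.finrank_quotient_add_finrank W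
          have : Module.finrank k W ≠ 0 := fun h0 => hbot (Submodule.finrank_eq_zero.1 h0)
          omega
        · refine LinearMap.ext fun x => ?_
          obtain ⟨x, rfl⟩ := Submodule.Quotient.mk_surjective W x
          rw [act_eq_algRep, ModRep.algRep_quotRep, ← act_eq_algRep, hb]
          rfl
      · refine ih _ ?_ (ModRep.subRep hW) ?_ h1 rfl
        · subst hd
          exact Submodule.finrank_lt htop
        · refine LinearMap.ext fun x => Subtype.ext ?_
          rw [act_eq_algRep, ModRep.algRep_subRep, ← act_eq_algRep, hb]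
          rfl

/-- The translations of the functions on `G`. -/
noncomputable def funRep (s : ℕ) : G →* Module.End k (G → Fin s → k) where
  toFun h := LinearMap.funLeft k (Fin s → k) (fun g => h⁻¹ * g)
  map_one' := LinearMap.ext fun F => funext fun g => by simp [LinearMap.funLeft_apply]
  map_mul' h h' := LinearMap.ext fun F => funext fun g => by
    simp [LinearMap.funLeft_apply, mul_assoc]

variable (L τ) in
/-- The induced module. -/
def indSpace : Submodule k (G → Fin L.s → k) where
  carrier := {F | ∀ (g : G) (x : L.T), F (g * x) = τ x⁻¹ *ᵥ F g}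
  zero_mem' g x := by simp
  add_mem' {a b} ha hb g x := by simp [ha g x, hb g x, Matrix.mulVec_add]
  smul_mem' c a ha g x := by simp [ha g x, Matrix.mulVec_smul]

/-- Some simple module of the block takes a map of the extension outside the top. -/
theorem exists_simple_of_ext {p : ℕ} [Fact p.Prime] [CharP k p] (hτ : L.IsExt τ)
    (Z : Subgroup G) (hZp : IsPGroup p Z) (hZK : Z ≤ L.K) (hK : L.K = cz Z)
    (hπZ : ∀ (z : G) (hz : z ∈ Z), L.π ⟨single z 1, single_mem_suppAlg (hZK hz) 1⟩ = 1)
    (b : MonoidAlgebra k G) (hbc : ∀ x, b * x = x * b) (hb : b * b = b)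
    (hbr : brMap k Z b * L.f = L.f) :
    ∃ (d : ℕ) (ρ' : G →* Module.End k (Fin d → k)), ModRep.IsSimp ρ' ∧ act ρ' b = 1 ∧
      ¬ L.AllInTop ρ' τ := by
  classical
  set R := funRep (k := k) (G := G) L.s with hR
  have hRapp : ∀ h (F : G → Fin L.s → k) g, R h F g = F (h⁻¹ * g) := fun h F g => rfl
  have hind : ModRep.Invariant R (L.indSpace τ) := fun h F hF g x => by
    rw [hRapp, hRapp, ← mul_assoc, hF]
  set U : Submodule k (G → Fin L.s → k) := L.indSpace τ ⊓ LinearMap.range (act R b)
  have hU : ModRep.Invariant R U := by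
    rintro h _ ⟨hF, u, rfl⟩
    refine ⟨hind h _ hF, R h u, ?_⟩
    have := congrArg (fun a => act R a u) (hbc (single h (1 : k)))
    simpa [map_mul] using this
  have hU1 : act (ModRep.subRep hU) b = 1 := by
    refine LinearMap.ext fun x => Subtype.ext ?_
    rw [act_eq_algRep, ModRep.algRep_subRep, ← act_eq_algRep]
    obtain ⟨u, hu⟩ := x.2.2
    rw [← hu, ← Module.End.mul_apply, ← map_mul, hb]
    exact hu
  -- the function carried by `T`
  let ι : (Fin L.s → k) →ₗ[k] G → Fin L.s → k :=
    { toFun := fun v g => if h : g ∈ L.T then τ (⟨g, h⟩ : L.T)⁻¹ *ᵥ v else 0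
      map_add' := fun v w => funext fun g => by
        by_cases h : g ∈ L.T <;> simp [h, Matrix.mulVec_add]
      map_smul' := fun c v => funext fun g => by
        by_cases h : g ∈ L.T <;> simp [h, Matrix.mulVec_smul] }
  have hι : ∀ v g, ι v g = if h : g ∈ L.T then τ (⟨g, h⟩ : L.T)⁻¹ *ᵥ v else 0 := fun v g => rfl
  have hιind : ∀ v, ι v ∈ L.indSpace τ := by
    intro v g x
    rw [hι, hι]
    by_cases h : g ∈ L.T
    · rw [dif_pos (L.T.mul_mem h x.2), dif_pos h, Matrix.mulVec_mulVec, ← map_mul, ← mul_inv_rev]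
      rfl
    · rw [dif_neg (fun h' => h ((Subgroup.mul_mem_cancel_right _ x.2).1 h')), dif_neg h,
        Matrix.mulVec_zero]
  have hιeq : ∀ (t : L.T) v, R (t : G) (ι v) = ι (τ t *ᵥ v) := by
    intro t v
    funext g
    rw [hRapp, hι, hι]
    by_cases h : g ∈ L.T
    · rw [dif_pos (L.T.mul_mem (L.T.inv_mem t.2) h), dif_pos h, Matrix.mulVec_mulVec, ← map_mul]
      congr 2
      refine Subtype.ext ?_
      simp
    · rw [dif_neg (fun h' => h ((Subgroup.mul_mem_cancel_left _ (L.T.inv_mem t.2)).1 h')),
        dif_neg h]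
  let σ : (Fin L.s → k) →ₗ[k] U := ((act R b).comp ι).codRestrict U fun v =>
    ⟨hind.algRep_mem b (hιind v), LinearMap.mem_range_self _ _⟩
  have hσ : L.IsHom (ModRep.subRep hU) τ σ := ⟨fun t v => Subtype.ext (by
    show R (t : G) (act R b (ι v)) = act R b (ι _)
    rw [← hιeq, ← act_single R, ← Module.End.mul_apply, ← map_mul, ← hbc, map_mul,
      Module.End.mul_apply])⟩
  -- the value at one
  have hval : ∀ v, (act R b (ι v)) 1 = v := by
    intro v
    have hsum : act R b = ∑ h : G, b.coeff h • R h := by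
      conv_lhs => rw [show b = ∑ h : G, b.coeff h • single h (1 : k) by
        ext z; simp [coeff_sum, Finsupp.single_apply], map_sum]
      exact Finset.sum_congr rfl fun h _ => by rw [map_smul, act_single]
    have h1 : ∀ h : G, R h (ι v) 1 = if hh : h ∈ L.T then τ ⟨h, hh⟩ *ᵥ v else 0 := by
      intro h
      rw [hRapp, mul_one, hι]
      by_cases hh : h ∈ L.T
      · rw [dif_pos (L.T.inv_mem hh), dif_pos hh]
        exact congrArg (fun x => τ x *ᵥ v) (Subtype.ext (inv_inv h))
      · rw [dif_neg (fun h' => hh (inv_inv h ▸ L.T.inv_mem h')), dif_neg hh]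
    set br : suppAlg k L.K := ⟨brMap k Z b, hK ▸ brMap_mem_suppAlg Z b⟩
    have hπbr : L.π br = 1 := by
      have h := congrArg L.π (show br * L.f = L.f from Subtype.ext hbr)
      rwa [map_mul, L.hπf, mul_one] at h
    have hbrsum : br = ∑ h : L.T, (b.coeff (h : G)) • (if hh : (h : G) ∈ L.K then
        (⟨single (h : G) 1, single_mem_suppAlg hh 1⟩ : suppAlg k L.K) else 0) := by
      refine Subtype.ext ?_
      simp only [AddSubmonoidClass.coe_finsetSum, Subalgebra.coe_smul]
      ext z
      simp only [coeff_sum, Finsupp.finsetSum_apply, coeff_smul_apply, smul_eq_mul]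
      show (brMap k Z b).coeff z = _
      by_cases hz : z ∈ L.K
      · rw [coeff_brMap_of_mem _ (hK ▸ hz), Finset.sum_eq_single ⟨z, L.hKT hz⟩]
        · simp [hz]
        · intro h _ hne'
          have : (h : G) ≠ z := fun h' => hne' (Subtype.ext h')
          by_cases hh : (h : G) ∈ L.K <;> simp [hh, this]
        · simp
      · rw [coeff_brMap_of_notMem _ (hK ▸ hz), Finset.sum_eq_zero]
        intro h _
        by_cases hh : (h : G) ∈ L.K
        · have : (h : G) ≠ z := fun h' => hz (h' ▸ hh)
          simp [hh, this]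
        · simp [hh]
    have hmain : ∑ h : L.T, b.coeff (h : G) • τ h = 1 := by
      rw [← hπbr, hbrsum, map_sum]
      ext i j
      simp only [Matrix.sum_apply]
      let _ : MulAction Z L.T := MulAction.compHom L.T
        ((MulAut.conj : L.T →* MulAut L.T).comp (Subgroup.inclusion (hZK.trans L.hKT)))
      have hsmul : ∀ (u : Z) (x : L.T), ((u • x : L.T) : G) = (u : G) * x * (u : G)⁻¹ := fun u x => rfl
      rw [sum_eq_sum_fixedPoints (p := p) hZp (fun h : L.T => (b.coeff (h : G) • τ h) i j),
        Finset.sum_filter]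
      · refine Finset.sum_congr rfl fun h _ => ?_
        by_cases hh : (h : G) ∈ L.K
        · rw [if_pos, dif_pos hh, map_smul, ← hτ h hh]
          intro u
          refine Subtype.ext ?_
          rw [hsmul]
          exact mem_cz_iff_conj.1 (show (h : G) ∈ cz Z from hK ▸ hh) u u.2
        · rw [if_neg, dif_neg hh, smul_zero, map_zero]
          · rfl
          · exact fun hfix => hh (hK ▸ mem_cz_iff_conj.2 fun q hq => by
              simpa [hsmul] using congrArg Subtype.val (hfix ⟨q, hq⟩))
      · intro u x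
        set u' : L.T := Subgroup.inclusion (hZK.trans L.hKT) u
        have hu : τ u' = 1 := by
          rw [hτ u' (hZK u.2)]; exact hπZ u u.2
        have hu' : τ u'⁻¹ = 1 := by
          have := congrArg τ (inv_mul_cancel u')
          rwa [map_mul, hu, mul_one, map_one] at this
        show (b.coeff ((u • x : L.T) : G) • τ (u' * x * u'⁻¹)) i j = _
        rw [map_mul, map_mul, hu, hu', one_mul, mul_one, hsmul]
        have hbfix : ∀ g z : G, b.coeff (g * z * g⁻¹) = b.coeff z := fun g z => by
          have h : conjA g b = b := by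
            rw [conjA, ← hbc, mul_assoc, single_mul_single_inv, mul_one]
          conv_lhs => rw [← h, coeff_conjA]
          simp [mul_assoc]
        rw [hbfix]
    rw [hsum, LinearMap.sum_apply, Finset.sum_apply]
    simp only [LinearMap.smul_apply, Pi.smul_apply, h1]
    rw [← Finset.sum_subset (Finset.subset_univ (Finset.univ.filter (· ∈ L.T)))
      (fun h _ hh => by simp only [Finset.mem_filter, Finset.mem_univ, true_and] at hh; simp [hh]),
      Finset.sum_subtype (p := (· ∈ L.T)) _ (fun h => by simp)]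
    conv_rhs => rw [← Matrix.one_mulVec v, ← hmain, Matrix.sum_mulVec]
    exact Finset.sum_congr rfl fun h _ => by rw [dif_pos h.2, Matrix.smul_mulVec]
  refine exists_simple (ModRep.subRep hU) hτ b hU1 fun hall => ?_
  obtain ⟨⟨F, hF, hF'⟩, hy⟩ := hall σ hσ (Pi.single L.o 1)
  have h1 := congrArg (fun z : U => (z : G → Fin L.s → k) 1) hy
  simp only [A_subRep] at h1
  have hev : ∀ (x : suppAlg k L.K) (F : G → Fin L.s → k), F ∈ L.indSpace τ →
      (L.A R x F) 1 = L.π x *ᵥ F 1 := by
    intro x F hF
    have hx : x = ∑ g ∈ (x : MonoidAlgebra k G).coeff.support.attach,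
        (x : MonoidAlgebra k G).coeff g.1 • (⟨single g.1 (1 : k),
          single_mem_suppAlg (x.2 g.1 (Finsupp.mem_support_iff.1 g.2)) 1⟩ : suppAlg k L.K) := by
      refine Subtype.ext ?_
      simp only [AddSubmonoidClass.coe_finsetSum, Subalgebra.coe_smul]
      rw [Finset.sum_attach _ (fun g => (x : MonoidAlgebra k G).coeff g • single g (1 : k))]
      conv_lhs => rw [← sum_coeff_single (x : MonoidAlgebra k G)]
      exact Finset.sum_congr rfl fun g _ => by simp
    rw [hx, A_sum, map_sum, LinearMap.sum_apply, Finset.sum_apply, Matrix.sum_mulVec]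
    refine Finset.sum_congr rfl fun g _ => ?_
    have hgK := x.2 g.1 (Finsupp.mem_support_iff.1 g.2)
    rw [A_smul, map_smul, LinearMap.smul_apply, Pi.smul_apply, Matrix.smul_mulVec]
    congr 1
    show act R (single g.1 (1 : k)) F 1 = _
    rw [act_single, ← hτ ⟨g.1, L.hKT hgK⟩ hgK, hRapp, mul_one]
    have := hF 1 (⟨g.1, L.hKT hgK⟩ : L.T)⁻¹
    simpa using this
  have h2 := hev (L.η ^ (L.n - 1)) F hF
  rw [map_pow, L.π_η, zero_pow (by have := L.hn; omega), Matrix.zero_mulVec] at h2
  have h3 := h2.symm.trans h1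
  rw [show ((σ (Pi.single L.o 1) : U) : G → Fin L.s → k) 1 = Pi.single L.o 1 from hval _] at h3
  simpa using congrFun h3 L.o

end Local

end CfsgLib.CyclicBlock
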