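import Mathlib.Data.Matrix.Basis
import Mathlib.FieldTheory.IsAlgClosed.Basic
import Mathlib.GroupTheory.QuotientGroup.Basic
import Mathlib.RingTheory.Polynomial.Basic
import Mathlib.FieldTheory.Separable
import Mathlib.LinearAlgebra.Matrix.NonsingularInverse

/-!
# Extensions to a group with cyclic quotient

A representation with full linear span of a normal subgroup with cyclic quotient of order `e`
prime to the characteristic, isomorphic to its conjugates, has `e` extensions.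
-/

set_option autoImplicit false

namespace CfsgLib.CyclicBlock

universe u v

variable {k : Type u} [Field k] {T : Type v} [Group T] {K : Subgroup T} {s : ℕ}

/-- An extension from a single element acting compatibly. -/
theorem exists_hom_of_unit [K.Normal] (π : K →* (Matrix (Fin s) (Fin s) k)ˣ) (t : T) {e : ℕ}
    (hgen : ∀ g : T, ∃ j : ℤ, t ^ (-j) * g ∈ K) (he : ∀ j : ℤ, t ^ j ∈ K ↔ (e : ℤ) ∣ j)
    (a : (Matrix (Fin s) (Fin s) k)ˣ)
    (hconj : ∀ x : K, a * π x * a⁻¹ =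
      π ⟨t * x * t⁻¹, Subgroup.Normal.conj_mem inferInstance _ x.2 t⟩)
    (hpow : a ^ (e : ℤ) = π ⟨t ^ (e : ℤ), (he e).2 dvd_rfl⟩) :
    ∃ φ : T →* (Matrix (Fin s) (Fin s) k)ˣ, (∀ x : K, φ (x : T) = π x) ∧ φ t = a := by
  have hN : ∀ (j : ℤ) (x : K), t ^ j * x * t ^ (-j) ∈ K := fun j x => by
    rw [zpow_neg]; exact Subgroup.Normal.conj_mem inferInstance _ x.2 _
  have hz : ∀ (j : ℤ) (x : K), a ^ j * π x * a ^ (-j) = π ⟨_, hN j x⟩ := by
    intro j
    induction j with
    | zero => intro x; simp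
    | succ i ih =>
      intro x
      have h := hconj ⟨_, hN i x⟩
      rw [← ih x] at h
      calc a ^ ((i : ℤ) + 1) * π x * a ^ (-((i : ℤ) + 1))
          = a * (a ^ (i : ℤ) * π x * a ^ (-(i : ℤ))) * a⁻¹ := by group
        _ = _ := h
        _ = _ := by congr 1; ext; simp only; group
    | pred i ih =>
      intro x
      have hm : t ^ (-(i : ℤ) - 1) * x * t ^ (-(-(i : ℤ) - 1)) ∈ K := hN _ x
      have h := hconj ⟨_, hm⟩
      have h2 : π ⟨t * (t ^ (-(i : ℤ) - 1) * x * t ^ (-(-(i : ℤ) - 1))) * t⁻¹,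
          Subgroup.Normal.conj_mem inferInstance _ hm t⟩ = π ⟨_, hN (-(i : ℤ)) x⟩ := by
        congr 1; ext; simp only; group
      rw [h2, ← ih x] at h
      calc a ^ (-(i : ℤ) - 1) * π x * a ^ (-(-(i : ℤ) - 1))
          = a⁻¹ * (a ^ (-(i : ℤ)) * π x * a ^ (-(-(i : ℤ)))) * a := by group
        _ = _ := by rw [← h]; group
  have hwell : ∀ (i j : ℤ) (g : T) (hi : t ^ (-i) * g ∈ K) (hj : t ^ (-j) * g ∈ K),
      a ^ i * π ⟨_, hi⟩ = a ^ j * π ⟨_, hj⟩ := by
    intro i j g hi hj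
    have hd : t ^ (i - j) ∈ K := by
      have := K.mul_mem hj (K.inv_mem hi)
      rwa [show t ^ (-j) * g * (t ^ (-i) * g)⁻¹ = t ^ (i - j) by group] at this
    obtain ⟨q, hq⟩ := (he _).1 hd
    have haq : a ^ (i - j) = π ⟨_, hd⟩ := by
      rw [show a ^ (i - j) = (a ^ (e : ℤ)) ^ q by rw [← zpow_mul, ← hq], hpow, ← map_zpow]
      congr 1
      ext
      simp only [SubgroupClass.coe_zpow]
      rw [← zpow_mul, ← hq]
    calc a ^ i * π ⟨_, hi⟩ = a ^ j * (a ^ (i - j) * π ⟨_, hi⟩) := by group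
      _ = a ^ j * π ⟨_, hj⟩ := by
        rw [haq, ← map_mul]
        congr 2
        ext
        simp only [Subgroup.coe_mul]
        group
  choose J hJ using hgen
  refine ⟨MonoidHom.mk' (fun g => a ^ J g * π ⟨_, hJ g⟩) ?_, fun x => ?_, ?_⟩
  · intro g h
    have hgh : t ^ (-(J g + J h)) * (g * h) ∈ K := by
      have := K.mul_mem (hN (-J h) ⟨_, hJ g⟩) (hJ h)
      rwa [show t ^ (-J h) * (t ^ (-J g) * g) * t ^ (-(-J h)) * (t ^ (-J h) * h) =
        t ^ (-(J g + J h)) * (g * h) by group] at this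
    rw [hwell _ _ _ (hJ (g * h)) hgh]
    calc a ^ (J g + J h) * π ⟨_, hgh⟩
        = a ^ (J g + J h) * (π ⟨_, hN (-J h) ⟨_, hJ g⟩⟩ * π ⟨_, hJ h⟩) := by
          rw [← map_mul]; congr 2; ext; simp only [Subgroup.coe_mul]; group
      _ = _ := by rw [← hz]; group
  · have h0 : t ^ (-(0 : ℤ)) * (x : T) ∈ K := by simp
    refine (hwell _ 0 _ (hJ (x : T)) h0).trans ?_
    simp
  · have h1 : t ^ (-(1 : ℤ)) * t ∈ K := by simp
    refine (hwell _ 1 _ (hJ t) h1).trans ?_
    have : (⟨t ^ (-(1 : ℤ)) * t, h1⟩ : K) = 1 := Subtype.ext (by simp)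
    rw [this, map_one, mul_one, zpow_one]

/-- There are `e` extensions. -/
theorem exists_extensions [IsAlgClosed k] [K.Normal] [NeZero s]
    (π : K →* Matrix (Fin s) (Fin s) k) (hspan : ∀ N, (∀ x, Commute (π x) N) → ∃ r : k, N = r • 1)
    (t : T) {e : ℕ} (he0 : (e : k) ≠ 0)
    (hgen : ∀ g : T, ∃ j : ℤ, t ^ (-j) * g ∈ K) (he : ∀ j : ℤ, t ^ j ∈ K ↔ (e : ℤ) ∣ j)
    (A : Matrix (Fin s) (Fin s) k) (hA : IsUnit A)
    (hconj : ∀ x : K, A * π x =
      π ⟨t * x * t⁻¹, Subgroup.Normal.conj_mem inferInstance _ x.2 t⟩ * A) :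
    ∃ τ : Fin e → (T →* Matrix (Fin s) (Fin s) k), Function.Injective τ ∧
      ∀ i, ∀ x : K, τ i (x : T) = π x := by
  classical
  obtain ⟨a, rfl⟩ := hA
  set π' := π.toHomUnits
  have hπ' : ∀ x, (π' x : Matrix (Fin s) (Fin s) k) = π x := fun x => rfl
  have hc1 : ∀ x : K, a * π' x * a⁻¹ =
      π' ⟨t * x * t⁻¹, Subgroup.Normal.conj_mem inferInstance _ x.2 t⟩ := fun x => by
    rw [mul_inv_eq_iff_eq_mul]
    exact Units.ext (hconj x)
  have hte : t ^ (e : ℤ) ∈ K := (he e).2 dvd_rfl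
  set te : K := ⟨_, hte⟩
  have hpowconj : ∀ (n : ℕ) (x : K), a ^ n * π' x * (a ^ n)⁻¹ =
      π' ⟨t ^ n * x * (t ^ n)⁻¹, Subgroup.Normal.conj_mem inferInstance _ x.2 _⟩ := by
    intro n
    induction n with
    | zero => intro x; simp
    | succ n ih =>
      intro x
      calc a ^ (n + 1) * π' x * (a ^ (n + 1))⁻¹ = a * (a ^ n * π' x * (a ^ n)⁻¹) * a⁻¹ := by
            rw [pow_succ']; group
        _ = _ := by
            rw [ih, hc1]
            congr 1
            ext
            simp only [pow_succ']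
            group
  have hcomm : ∀ x, Commute (π x) (((π' te)⁻¹ * a ^ e : (Matrix (Fin s) (Fin s) k)ˣ) :
      Matrix (Fin s) (Fin s) k) := by
    intro x
    have h2 : a ^ e * π' x * (a ^ e)⁻¹ = π' te * π' x * (π' te)⁻¹ := by
      rw [hpowconj, ← map_inv, ← map_mul, ← map_mul]
      congr 1
      ext
      simp [te]
    have h3 : (π' te)⁻¹ * a ^ e * π' x = π' x * ((π' te)⁻¹ * a ^ e) := by
      calc (π' te)⁻¹ * a ^ e * π' x = (π' te)⁻¹ * (a ^ e * π' x * (a ^ e)⁻¹) * a ^ e := by group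
        _ = _ := by rw [h2]; group
    exact (congrArg Units.val h3).symm
  obtain ⟨r, hr⟩ := hspan _ hcomm
  have hr0 : r ≠ 0 := by
    rintro rfl
    rw [zero_smul] at hr
    have := Units.ne_zero ((π' te)⁻¹ * a ^ e)
    exact this hr
  -- the roots
  have hpos : 0 < e := Nat.pos_of_ne_zero fun h => he0 (by rw [h, Nat.cast_zero])
  set P : Polynomial k := Polynomial.X ^ e - Polynomial.C r⁻¹
  have hsep : P.Separable := Polynomial.separable_X_pow_sub_C _ he0 (inv_ne_zero hr0)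
  have hdeg : P.natDegree = e := Polynomial.natDegree_X_pow_sub_C
  have hcard : Fintype.card (P.rootSet k) = e := by
    rw [Polynomial.card_rootSet_eq_natDegree hsep (IsAlgClosed.splits _), hdeg]
  let γ : Fin e → k := fun i => ((Fintype.equivFinOfCardEq hcard).symm i : P.rootSet k)
  have hγ : ∀ i, γ i ^ e = r⁻¹ := fun i => by
    have := ((Fintype.equivFinOfCardEq hcard).symm i).2
    rw [Polynomial.mem_rootSet_of_ne
      (Polynomial.X_pow_sub_C_ne_zero hpos _)] at this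
    simpa [P, sub_eq_zero, γ] using this
  have hγ0 : ∀ i, γ i ≠ 0 := fun i h => inv_ne_zero hr0 (by rw [← hγ i, h, zero_pow hpos.ne'])
  have hext : ∀ i, ∃ φ : T →* (Matrix (Fin s) (Fin s) k)ˣ, (∀ x : K, φ (x : T) = π' x) ∧
      (φ t : Matrix (Fin s) (Fin s) k) = γ i • (a : Matrix (Fin s) (Fin s) k) := by
    intro i
    set c : (Matrix (Fin s) (Fin s) k)ˣ := Units.map (algebraMap k (Matrix (Fin s) (Fin s) k)).toMonoidHom
      (Units.mk0 (γ i) (hγ0 i))
    have hcc : ∀ y : (Matrix (Fin s) (Fin s) k)ˣ, c * y = y * c := fun y =>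
      Units.ext (Algebra.commutes (γ i) (y : Matrix (Fin s) (Fin s) k))
    obtain ⟨φ, h1, h2⟩ := exists_hom_of_unit π' t hgen he (c * a) (fun x => by
      calc c * a * π' x * (c * a)⁻¹ = c * (a * π' x * a⁻¹) * c⁻¹ := by group
        _ = _ := by rw [hc1, hcc, mul_inv_cancel_right]) (by
      rw [zpow_natCast, (show Commute c a from hcc a).mul_pow]
      refine Units.ext ?_
      have h4 : (a : Matrix (Fin s) (Fin s) k) ^ e = π te * (r • 1) := by
        rw [← hr, ← hπ', ← Units.val_mul, mul_inv_cancel_left, Units.val_pow_eq_pow_val]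
      show (algebraMap k (Matrix (Fin s) (Fin s) k) (γ i)) ^ e * (a : Matrix (Fin s) (Fin s) k) ^ e =
        π te
      rw [h4, ← map_pow, hγ, Algebra.algebraMap_eq_smul_one, smul_mul_assoc, one_mul,
        mul_smul_comm, mul_one, smul_smul, inv_mul_cancel₀ hr0, one_smul])
    refine ⟨φ, h1, ?_⟩
    rw [h2]
    show algebraMap k _ (γ i) * (a : Matrix (Fin s) (Fin s) k) = _
    rw [← Algebra.smul_def]
  choose φ hφ hφt using hext
  refine ⟨fun i => (Units.coeHom _).comp (φ i), fun i j hij => ?_, fun i x => ?_⟩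
  · have h := DFunLike.congr_fun hij t
    simp only [MonoidHom.comp_apply, Units.coeHom_apply, hφt] at h
    have : γ i = γ j := smul_left_injective k (Units.ne_zero a) h
    exact (Fintype.equivFinOfCardEq hcard).symm.injective (Subtype.ext this)
  · show ((φ i (x : T) : (Matrix (Fin s) (Fin s) k)ˣ) : Matrix (Fin s) (Fin s) k) = π x
    rw [hφ]; rfl

end CfsgLib.CyclicBlock
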