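import Cfsg.Agent.Lib.CyclicBlock.Isometry
import Cfsg.Agent.Lib.CyclicBlock.Eta
import Cfsg.Agent.Lib.CyclicBlock.Exist
import Cfsg.Agent.Lib.CyclicBlock.Extend
import Cfsg.Agent.Lib.ModRep.Main
import Cfsg.Agent.Lib.ModRep.Integral
import Cfsg.Agent.Lib.BPStar.GroupRing

/-!
# The rank of a block with cyclic defect group is its inertial index

The simple module of the block at the subgroup of order `p` has `e` extensions to the stabiliser,
and each of them reaches a simple module of the block of its own.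
-/

set_option autoImplicit false
set_option linter.unusedSectionVars false
set_option linter.style.haveILetI false
set_option maxHeartbeats 1000000

namespace CfsgLib.CyclicBlock.Data

open Cfsg CfsgLib.BrauerPairs CfsgLib.Characters CfsgLib.Blocks CfsgLib.Contribution MonoidAlgebra
open scoped Classical Matrix

universe u

variable {G : Type u} [Group G] [Fintype G] {p : ℕ} [hp : Fact p.Prime] {M : Ideal AlgInt}
  [M.IsMaximal] {hM : IsPModular p M} {B : Set (IrrCharacter G)} (L : Data hM B) [Fintype L.K]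

theorem exists_pow_D : ∃ a, Nat.card L.D = p ^ a := IsPGroup.iff_card.1 L.pgroup

/-- The algebra of the block at `Z` as that of the group `K`. -/
noncomputable def algK : MonoidAlgebra (ResK M) L.K ≃ₐ[ResK M] suppAlg (ResK M) L.K :=
  AlgEquiv.ofBijective ((inclA (ResK M) L.K).codRestrict _ inclA_mem_suppAlg)
    ⟨fun _ _ h => inclA_injective L.K (congrArg Subtype.val h),
      fun x => ⟨restrA (ResK M) L.K x, Subtype.ext (inclA_restrA x.2)⟩⟩

theorem coe_algK (a : MonoidAlgebra (ResK M) L.K) :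
    (L.algK a : MonoidAlgebra (ResK M) G) = inclA (ResK M) L.K a := rfl

/-- The block idempotent at `Z`. -/
noncomputable def fK : suppAlg (ResK M) L.K := ⟨eA hM L.K L.blk, L.blk_idem.supp⟩

theorem algK_eG : L.algK (eG hM L.blk) = L.fK := Subtype.ext (inclA_eG hM L.K L.blk)

theorem fK_comm (x : suppAlg (ResK M) L.K) : L.fK * x = x * L.fK :=
  Subtype.ext (commute_of_supp_fix x.2 L.blk_idem.fixed).symm.eq

theorem algK_of (x : L.K) :
    L.algK (single x 1) = ⟨single (x : G) 1, single_mem_suppAlg x.2 1⟩ :=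
  Subtype.ext (by rw [L.coe_algK, inclA, mapDomainAlgHom_apply, mapDomain_single]; rfl)

/-- The simple module of the block at `Z`: its matrices, what they kill, and its uniqueness. -/
theorem exists_proj : ∃ (s : ℕ) (_ : 0 < s)
    (π : suppAlg (ResK M) L.K →ₐ[ResK M] Matrix (Fin s) (Fin s) (ResK M)),
    Function.Surjective π ∧ π L.fK = 1 ∧
    (∃ (J : Ideal (suppAlg (ResK M) L.K)) (_ : J.IsTwoSided) (m : ℕ), J ^ m = ⊥ ∧
      ∀ x, x * L.fK = x → π x = 0 → x ∈ J) ∧
    Module.finrank (ResK M) (LinearMap.range (LinearMap.mulLeft (ResK M) L.fK)) ≤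
      Nat.card L.D * s ^ 2 ∧
    ∀ π' : suppAlg (ResK M) L.K →ₐ[ResK M] Matrix (Fin s) (Fin s) (ResK M),
      Function.Surjective π' → π' L.fK = 1 →
        ∃ A : Matrix (Fin s) (Fin s) (ResK M), IsUnit A ∧ ∀ x, A * π x = π' x * A := by
  have := BPStar.isAlgClosed_res hM
  obtain ⟨S⟩ := ModRep.exists_sys (K := ResK M) (G := L.K)
  have hcard : Nat.card (ModRep.blockIdx S hM L.blk) = 1 := by
    rw [ModRep.ncard_blockIdx (hM := hM) S L.blk_isPBlock, L.blk_rank_and_card.1]
  obtain ⟨hsub, ⟨⟨i₀, hi₀⟩⟩⟩ := Nat.card_eq_one_iff_unique.1 hcard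
  have huniq : ∀ j, j ∈ ModRep.blockIdx S hM L.blk → j = i₀ := fun j hj =>
    congrArg Subtype.val (Subsingleton.elim (⟨j, hj⟩ : ModRep.blockIdx S hM L.blk) ⟨i₀, hi₀⟩)
  have hb := isBlockIdem_eG hM L.blk_isPBlock
  have hf0 : ∀ j, j ≠ i₀ → S.π (eG hM L.blk) j = 0 := by
    intro j hj
    rcases (S.isSimp_rep j).idem_comm hb.idem
      (fun g => (commute_of_supp_fix (mem_suppAlg_top _) hb.fixed).eq) with h | h
    · rw [ModRep.Sys.algRep_rep] at h
      exact Matrix.toLin'.injective (h.trans (map_zero _).symm)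
    · exact absurd (huniq j h) hj
  have hf1 : S.π (eG hM L.blk) i₀ = 1 := by
    have h : ModRep.algRep (S.rep i₀) (eG hM L.blk) = 1 := hi₀
    rw [ModRep.Sys.algRep_rep] at h
    exact Matrix.toLin'.injective (h.trans Matrix.toLin'_one.symm)
  set P := S.π.comp L.algK.symm.toAlgHom with hP
  set π := (Pi.evalAlgHom (ResK M) (fun i => Matrix (Fin (S.d i)) (Fin (S.d i)) (ResK M)) i₀).comp P
  have hPapp : ∀ x, P.toRingHom x = S.π (L.algK.symm x) := fun x => rfl
  have hπapp : ∀ x, π x = S.π (L.algK.symm x) i₀ := fun x => rfl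
  have hEf : L.algK.symm L.fK = eG hM L.blk := by rw [← L.algK_eG, AlgEquiv.symm_apply_apply]
  have hπf : π L.fK = 1 := by rw [hπapp, hEf, hf1]
  refine ⟨S.d i₀, S.pos i₀, π, fun y => ?_, hπf, ?_, ?_, fun π' hπ's hπ'f => ?_⟩
  · obtain ⟨a, ha⟩ := S.surj (Pi.single i₀ y)
    exact ⟨L.algK a, by rw [hπapp, AlgEquiv.symm_apply_apply, ha, Pi.single_eq_same]⟩
  · let R := suppAlg (ResK M) L.K
    have : Module.Finite (ResK M) (MonoidAlgebra (ResK M) L.K) :=
      Module.Finite.of_basis (MonoidAlgebra.basis L.K (ResK M))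
    have : Module.Finite (ResK M) R := Module.Finite.equiv L.algK.toLinearEquiv
    have : IsArtinianRing R := IsArtinianRing.of_finite (ResK M) _
    obtain ⟨m, hm⟩ := IsSemiprimaryRing.isNilpotent (R := R)
    refine ⟨RingHom.ker P.toRingHom, inferInstance, m, le_bot_iff.1 (le_trans ?_ hm.le),
      fun x hx hx0 => ?_⟩
    · refine Ideal.pow_right_mono (fun x hx => ?_) m
      have hnil : ∀ y, IsNilpotent (y * x) := fun y =>
        (IsNilpotent.map_iff (f := L.algK.symm.toAlgHom) L.algK.symm.injective).1 (S.nil _ (by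
          have hx' : S.π (L.algK.symm x) = 0 := (hPapp x).symm.trans ((RingHom.mem_ker (f := P.toRingHom)).1 hx)
          show S.π (L.algK.symm (y * x)) = 0
          rw [map_mul, map_mul, hx', mul_zero]))
      have : x ∈ Ideal.jacobson (⊥ : Ideal R) := Ideal.mem_jacobson_iff.2 fun y => by
        obtain ⟨z, hz⟩ := (hnil y).isUnit_add_one.exists_left_inv
        exact ⟨z, by rw [Ideal.mem_bot, mul_assoc, sub_eq_zero, ← mul_add_one, hz]⟩
      rwa [Ring.jacobson_eq_sInf_isMaximal, ← show Ideal.jacobson (⊥ : Ideal R) =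
        sInf {I : Ideal R | I.IsMaximal} by simp [Ideal.jacobson]]
    · refine (RingHom.mem_ker (f := P.toRingHom)).2 ((hPapp x).trans ?_)
      have hmul : S.π (L.algK.symm x) = S.π (L.algK.symm x) * S.π (eG hM L.blk) := by
        rw [← map_mul, ← hEf, ← map_mul, hx]
      funext j
      rcases eq_or_ne j i₀ with rfl | hj
      · exact hx0
      · rw [hmul, Pi.mul_apply, hf0 j hj, mul_zero]; rfl
  · have h1 : LinearMap.range (LinearMap.mulLeft (ResK M) L.fK) =
        (LinearMap.range (LinearMap.mulRight (ResK M) (eG hM L.blk))).map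
          (L.algK.toLinearEquiv : MonoidAlgebra (ResK M) L.K →ₗ[ResK M] suppAlg (ResK M) L.K) := by
      ext x
      constructor
      · rintro ⟨y, rfl⟩
        refine ⟨_, ⟨L.algK.symm y, rfl⟩, ?_⟩
        show L.algK (L.algK.symm y * eG hM L.blk) = L.fK * y
        rw [map_mul, AlgEquiv.apply_symm_apply, L.algK_eG, L.fK_comm]
      · rintro ⟨_, ⟨y, rfl⟩, rfl⟩
        refine ⟨L.algK y, ?_⟩
        show L.fK * L.algK y = L.algK (y * eG hM L.blk)
        rw [map_mul, L.algK_eG, L.fK_comm]
    rw [h1, LinearEquiv.finrank_map_eq, ModRep.finrank_block hM L.blk_isPBlock,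
      finsum_mem_eq_sum_of_inter_support_eq (t := members L.blk) _ (by simp [members]),
      ← L.blk_rank_and_card.2, Contribution.card_members, ← smul_eq_mul, ← Finset.sum_const]
    refine Finset.sum_le_sum fun χ hχ => Nat.pow_le_pow_left ?_ 2
    exact ModRep.dim_eq_of_regular_eq hM L.blk_isPBlock
      (fun χ hχ ψ hψ g hg => L.regular_eq hχ hψ hg) ⟨(S.pos i₀).ne', (S.isSimp_rep i₀).2⟩ hi₀
      (mem_members.1 hχ)
  · -- any other such is conjugate
    set Φ := π'.comp L.algK.toAlgHom
    let ρ : L.K →* Module.End (ResK M) (Fin (S.d i₀) → ResK M) :=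
      { toFun := fun g => Matrix.toLin' (Φ (single g 1))
        map_one' := by rw [← one_def, map_one, Matrix.toLin'_one]; rfl
        map_mul' := fun g h => by
          rw [show single (g * h) (1 : ResK M) = single g 1 * single h 1 by simp, map_mul,
            Matrix.toLin'_mul]
          rfl }
    have halg : ∀ a, ModRep.algRep ρ a = Matrix.toLin' (Φ a) := by
      intro a
      induction a using MonoidAlgebra.induction_on with
      | of g => simp [ρ]
      | add x y hx hy => simp [map_add, hx, hy]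
      | smul r x hx => simp [map_smul, hx]
    have hsurj : Function.Surjective Φ := hπ's.comp L.algK.surjective
    have hsimp : ModRep.IsSimp ρ := by
      have : NeZero (S.d i₀) := ⟨(S.pos i₀).ne'⟩
      refine ⟨inferInstance, fun W hW => ?_⟩
      refine (S.isSimp_rep i₀).2 W fun g v hv => ?_
      obtain ⟨a, ha⟩ := hsurj (S.π (single g 1) i₀)
      have := hW.algRep_mem a hv
      rwa [halg, ha] at this
    obtain ⟨j, E, hE⟩ := S.exists_equiv hsimp
    have hj : j = i₀ := huniq j (by
      apply LinearMap.ext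
      intro v
      apply E.injective
      rw [ModRep.Sys.algRep_equiv E hE, halg]
      show Matrix.toLin' (π' (L.algK (eG hM L.blk))) (E v) = _
      rw [L.algK_eG, hπ'f, Matrix.toLin'_one]
      rfl)
    subst hj
    refine ⟨LinearMap.toMatrix' E.toLinearMap, ?_, fun x => ?_⟩
    · refine ⟨⟨LinearMap.toMatrix' E.toLinearMap, LinearMap.toMatrix' E.symm.toLinearMap,
        ?_, ?_⟩, rfl⟩
      · rw [← LinearMap.toMatrix'_comp, LinearEquiv.comp_coe, E.symm_trans_self]; simp
      · rw [← LinearMap.toMatrix'_comp, LinearEquiv.comp_coe, E.self_trans_symm]; simp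
    · obtain ⟨a, rfl⟩ := L.algK.surjective x
      rw [hπapp, AlgEquiv.symm_apply_apply]
      apply Matrix.toLin'.injective
      apply LinearMap.ext
      intro v
      have h := ModRep.Sys.algRep_equiv E hE a v
      rw [ModRep.Sys.algRep_rep, halg] at h
      simp only [Matrix.toLin'_mul, LinearMap.comp_apply, Matrix.toLin'_toMatrix']
      exact h

/-- The nilpotent element. -/
theorem exists_etaK : ∃ η : suppAlg (ResK M) L.K,
    (η : MonoidAlgebra (ResK M) G) ∈ fixAlg (ResK M) L.K ∧ η * L.fK = η ∧ IsNilpotent η ∧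
      η ^ (Nat.card L.D - 1) ≠ 0 := by
  have := charP_res hM
  obtain ⟨a, ha⟩ := L.exists_pow_D
  have hS : BrSetup p L.D L.e (cz L.D) :=
    ⟨L.pgroup, L.he, cz_le_normalizer L.D, le_rfl, L.D_le_czD, L.he.fixed⟩
  have hdef : IsDefect p L.D L.e (cz L.D) L.D :=
    isDefect_local hM L.hB hS L.hcov ((isDefectGroup_iff hM L.hB L.D).1 L.hD) L.D_le_czD (by
      rw [brMap_eq_self L.he.supp]; exact L.he.ne_zero)
  obtain ⟨η, hs, hfix, hηf, hnil, hne⟩ := exists_eta (p := p) (D := L.D) (K := L.K) rfl ha L.hcyc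
    L.D_le_czD L.czD_le_K L.he L.blk_idem L.blk_over.cover
    (fun g hg he => L.T_inf_K ⟨hg.2, he⟩ hg.1) hdef.inTr
  refine ⟨⟨η, hs⟩, hfix, Subtype.ext hηf, ?_, fun h => hne (congrArg Subtype.val h)⟩
  obtain ⟨m, hm⟩ := hnil
  exact ⟨m, Subtype.ext hm⟩

theorem inertia_cast_ne : ((L.inertia : ℕ) : ResK M) ≠ 0 := by
  have := charP_res hM
  rw [Ne, CharP.cast_eq_zero_iff (ResK M) p, L.inertia_eq]
  exact L.not_dvd_relIndex

theorem Z_pow {z : G} (hz : z ∈ L.Z) : z ^ p = 1 := by
  rw [← L.hZc]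
  exact congrArg Subtype.val (pow_card_eq_one' (G := L.Z) (x := ⟨z, hz⟩))

/-- A generator of the stabiliser modulo `K`. -/
theorem exists_generator : ∃ t : L.T₁, (∀ g : L.T₁, ∃ j : ℤ, t ^ (-j) * g ∈ L.K.subgroupOf L.T₁) ∧
    ∀ j : ℤ, t ^ j ∈ L.K.subgroupOf L.T₁ ↔ (L.inertia : ℤ) ∣ j := by
  set f : L.T₁ →* MulAut L.Z :=
    L.Z.normalizerMonoidHom.comp (Subgroup.inclusion fun _ hg => hg.1) with hf
  have hker : f.ker = L.K.subgroupOf L.T₁ := by
    rw [hf, ← MonoidHom.comap_ker, Subgroup.normalizerMonoidHom_ker]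
    ext x
    simp only [Subgroup.mem_comap, Subgroup.mem_subgroupOf, Subgroup.coe_inclusion]
    rfl
  have hZ : IsCyclic L.Z := isCyclic_of_prime_card L.hZc
  have hA : IsCyclic (MulAut L.Z) := by
    have : Fact (Nat.card L.Z).Prime := ⟨by rw [L.hZc]; exact hM.1⟩
    exact isCyclic_of_surjective (IsCyclic.mulAutMulEquiv L.Z).symm (IsCyclic.mulAutMulEquiv L.Z).symm.surjective
  obtain ⟨⟨g₀, t, rfl⟩, hgen⟩ := (Subgroup.isCyclic f.range).exists_generator
  have hcard : orderOf (f t) = L.inertia := by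
    rw [← Subgroup.orderOf_mk (a := f t) (ha := MonoidHom.mem_range.2 ⟨t, rfl⟩), orderOf_eq_card_of_forall_mem_zpowers hgen,
      ← Subgroup.index_ker, hker]
    rfl
  refine ⟨t, fun g => ?_, fun j => ?_⟩
  · obtain ⟨j, hj⟩ := Subgroup.mem_zpowers_iff.1 (hgen ⟨f g, g, rfl⟩)
    refine ⟨j, ?_⟩
    have hj' : f t ^ j = f g := congrArg Subtype.val hj
    rw [← hker, MonoidHom.mem_ker, map_mul, map_zpow, zpow_neg, hj', inv_mul_cancel]
  · rw [← hker, MonoidHom.mem_ker, map_zpow, ← orderOf_dvd_iff_zpow_eq_one, hcard]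

/-- The rank is at least the inertial index. -/
theorem inertia_le_blockRank : L.inertia ≤ blockRank p B := by
  have := charP_res hM
  have := BPStar.isAlgClosed_res hM
  obtain ⟨s, hs, π, hπ, hπf, ⟨J, hJ2, m, hJ, hker⟩, hdim, huniq⟩ := L.exists_proj
  have : NeZero s := ⟨hs.ne'⟩
  obtain ⟨η, hηfix, hηf, hηnil, hηne⟩ := L.exists_etaK
  have hηc : ∀ x : suppAlg (ResK M) L.K, η * x = x * η := fun x =>
    Subtype.ext (commute_of_supp_fix x.2 hηfix).symm.eq
  have hn2 : 2 ≤ Nat.card L.D := L.one_le_card_D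
  have : Module.Finite (ResK M) (MonoidAlgebra (ResK M) L.K) :=
    Module.Finite.of_basis (MonoidAlgebra.basis L.K (ResK M))
  have : Module.Finite (ResK M) (suppAlg (ResK M) L.K) := Module.Finite.equiv L.algK.toLinearEquiv
  obtain ⟨S⟩ := exists_split (f := L.fK) (η := η) (n := Nat.card L.D) (⟨0, hs⟩ : Fin s) π hπ
    (Subtype.ext L.blk_idem.idem) L.fK_comm hπf hJ hker hηc hηf hηnil (by omega) hηne hdim
  obtain ⟨w, -, hw, hwf⟩ := L.blk_isDefect.inTr
  let LL : Local (ResK M) G :=
    { D := L.D, K := L.K, T := L.T₁, N := Subgroup.normalizer (L.Z : Set G)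
      hDK := L.D_le_K, hKT := L.K_le_T₁, hTN := fun g hg => hg.1
      hKn := fun g hg => L.normK hg.1
      f := L.fK, η := η, hfix := fun g hg => hg.2, hf := Subtype.ext L.blk_idem.idem
      hηfix := hηfix, hηf := hηf, n := Nat.card L.D, hn := hn2, s := s, o := ⟨0, hs⟩
      π := π, hπ := hπ, hπf := hπf, S := S, w := w, hw := hw, hwf := hwf
      orth := fun q hq hqT => by
        have hb := L.blk_idem.conjA q
        rw [← cz_map_conj, map_conj_eq_self hq] at hb
        exact hb.mul_eq_zero L.blk_idem fun h => hqT ⟨hq, h⟩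
      free := fun q hq d hd hqd => by
        by_contra hd1
        apply hq
        rw [← Subgroup.inv_mem_iff]
        refine Fusion.mem_normalizer_of_forall fun z hz => ?_
        refine L.conj_mem_Z hz ?_
        obtain ⟨i, hi⟩ := Subgroup.mem_zpowers_iff.1 (L.Z_le_zpowers hd hd1 hz)
        have hq' : q⁻¹ * d * q⁻¹⁻¹ ∈ L.D := by rw [inv_inv]; exact hqd
        rw [← hi, ← conj_zpow]
        exact L.D.zpow_mem hq' i
      he := L.inertia_cast_ne }
  have hπZ : ∀ (z : G) (hz : z ∈ L.Z),
      π ⟨single z 1, single_mem_suppAlg (L.D_le_K (L.hZD hz)) 1⟩ = 1 := by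
    intro z hz
    set U : suppAlg (ResK M) L.K := ⟨single z 1, single_mem_suppAlg (L.D_le_K (L.hZD hz)) 1⟩
    have hUc : ∀ y : suppAlg (ResK M) L.K, U * y = y * U := by
      intro y
      refine Subtype.ext (commute_of_supp_fix (H := L.K) y.2 ?_).symm.eq
      intro g hg
      show conjA g (single z (1 : ResK M)) = single z 1
      rw [conjA, single_mul_single, single_mul_single, one_mul, one_mul, ← mem_cz.1 hg z hz,
        mul_inv_cancel_right]
    have h : LL.π (U - 1) = 0 := LL.π_eq_zero (x := U - 1)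
      (fun y => by rw [sub_mul, mul_sub, one_mul, mul_one, hUc]) ⟨p, by
        rw [(sub_one_pow_sub_one (k := ResK M) (p := p) U (a := 1) (pow_one p).symm).2, sub_eq_zero]
        exact Subtype.ext (by simp [U, single_pow, L.Z_pow hz, one_def])⟩
    rwa [map_sub, map_one, sub_eq_zero] at h
  -- the extensions
  obtain ⟨t, hgen, hord⟩ := L.exists_generator
  have := L.K_normal
  set π₀ : L.K.subgroupOf L.T₁ →* Matrix (Fin s) (Fin s) (ResK M) :=
    { toFun := fun x => π ⟨single ((x : L.T₁) : G) (1 : ResK M), single_mem_suppAlg (Subgroup.mem_subgroupOf.1 x.2) 1⟩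
      map_one' := by rw [← map_one π]; exact congrArg π (Subtype.ext (by simp [one_def]))
      map_mul' := fun x y => by
        rw [← map_mul]
        exact congrArg π (Subtype.ext (by simp [single_mul_single])) }
  have hspan : ∀ N, (∀ x, Commute (π₀ x) N) → ∃ r : ResK M, N = r • 1 := by
    intro N hN
    have hall : ∀ y : MonoidAlgebra (ResK M) L.K, Commute (π (L.algK y)) N := by
      intro y
      induction y using MonoidAlgebra.induction_on with
      | of g =>
        rw [MonoidAlgebra.of_apply, L.algK_of]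
        exact hN ⟨⟨g, L.K_le_T₁ g.2⟩, g.2⟩
      | add x z hx hz => rw [map_add, map_add]; exact hx.add_left hz
      | smul r x hx => rw [map_smul, map_smul]; exact hx.smul_left r
    obtain ⟨r, hr⟩ := Matrix.mem_range_scalar_iff_commute_single.2
      (fun a b _ => show Commute (Matrix.single a b (1 : ResK M)) N by
        obtain ⟨x, hx⟩ := hπ (Matrix.single a b 1)
        obtain ⟨y, rfl⟩ := L.algK.surjective x
        rw [← hx]; exact hall y)
    exact ⟨r, by rw [← hr, Matrix.scalar_apply, Matrix.smul_one_eq_diagonal]⟩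
  have hconjmem : ∀ (x : suppAlg (ResK M) L.K),
      conjA (t : G) (x : MonoidAlgebra (ResK M) G) ∈ suppAlg (ResK M) L.K := fun x => by
    have h := conjA_mem_suppAlg x.2 (t : G)
    rwa [map_conj_eq_self (L.normK t.2.1)] at h
  let cj : suppAlg (ResK M) L.K →ₐ[ResK M] suppAlg (ResK M) L.K :=
    ((conjHom (k := ResK M) (t : G)).comp (suppAlg (ResK M) L.K).val).codRestrict _ hconjmem
  have hcjsurj : Function.Surjective cj := fun y => by
    have h := conjA_mem_suppAlg y.2 (t : G)⁻¹
    rw [map_conj_eq_self (Subgroup.inv_mem _ (L.normK t.2.1))] at h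
    refine ⟨⟨_, h⟩, Subtype.ext ?_⟩
    show conjA (t : G) (conjA (t : G)⁻¹ _) = _
    rw [← conjA_mul_left, mul_inv_cancel, conjA_one_left]
  obtain ⟨A, hA, hAconj⟩ := huniq (π.comp cj) (hπ.comp hcjsurj) (by
    show π (cj L.fK) = 1
    rw [show cj L.fK = L.fK from Subtype.ext t.2.2, hπf])
  obtain ⟨τ, hτinj, hτ⟩ := exists_extensions π₀ hspan t L.inertia_cast_ne hgen hord A hA (fun x => by
    show A * π _ = π _ * A
    rw [hAconj]
    refine congrArg (· * A) (congrArg π (Subtype.ext ?_))
    show conjA (t : G) (single ((x : L.T₁) : G) 1) = single _ 1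
    rw [conjA, single_mul_single, single_mul_single, one_mul, one_mul]
    rfl)
  have hExt : ∀ i, LL.IsExt (τ i) := fun i x hx => hτ i ⟨x, hx⟩
  -- a simple module for each
  have hbid := isBlockIdem_eG hM L.hB
  have hex : ∀ i, ∃ (d : ℕ) (ρ' : G →* Module.End (ResK M) (Fin d → ResK M)),
      ModRep.IsSimp ρ' ∧ CfsgLib.CyclicBlock.act ρ' (eG hM B) = 1 ∧ ¬ LL.AllInTop ρ' (τ i) := fun i =>
    Local.exists_simple_of_ext (p := p) (L := LL) (hExt i) L.Z (L.pgroup.to_le L.hZD)
      (L.hZD.trans L.D_le_K) rfl hπZ (eG hM B)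
      (fun x => (commute_of_supp_fix (mem_suppAlg_top x) hbid.fixed).symm.eq) hbid.idem L.blk_cover
  choose d ρ hρs hρb hρne using hex
  refine ModRep.card_le_blockRank hM L.hB d ρ
    (fun i => ⟨fun h0 => ?_, (hρs i).2⟩) hρb fun i j hij => ?_
  · have := (hρs i).1
    obtain ⟨v, hv⟩ := exists_ne (0 : Fin (d i) → ResK M)
    exact hv (funext fun q => absurd q.isLt (by omega))
  · obtain ⟨E, hE⟩ := hij
    have h1 : ¬ LL.AllInTop (ρ i) (τ j) := fun h => hρne j (by
      refine Local.allInTop_equiv (ρ j) E.symm (fun g v => ?_) h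
      apply E.injective
      rw [LinearEquiv.apply_symm_apply, hE, LinearEquiv.apply_symm_apply])
    have h2 := hρne i
    simp only [Local.AllInTop, not_forall] at h1 h2
    obtain ⟨σ, hσ, hσne⟩ := h2
    obtain ⟨σ', hσ', hσ'ne⟩ := h1
    exact hτinj (Local.eq_of_two_homs (ρ i) (hρs i) (hExt i) (hExt j) hσ hσ' hσne hσ'ne)

/-- The rank of a block with cyclic defect group is its inertial index. -/
theorem blockRank_eq : blockRank p B = L.inertia :=
  le_antisymm L.blockRank_le_inertia L.inertia_le_blockRank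

end CfsgLib.CyclicBlock.Data
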