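import Cfsg.Agent.Lib.CyclicBlock.Local
import Cfsg.Agent.Lib.Blocks.LocalCount
import Cfsg.Agent.Lib.BrauerPairs.Induced
import Cfsg.Agent.Lib.Characters.NormalRes

/-!
# Induction of the differences of the local characters

The generalised characters induced from differences of members of the block at `Z` lie in `B`,
their products are computed on the stabiliser, and a combination of members of `B` meeting all
of them trivially vanishes at the singular elements.
-/

set_option autoImplicit false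
set_option linter.unusedSectionVars false
set_option linter.style.haveILetI false

namespace CfsgLib.CyclicBlock.Data

open Cfsg CfsgLib.BrauerPairs CfsgLib.Characters CfsgLib.Blocks CfsgLib.Contribution
open scoped ComplexConjugate Classical

universe u

variable {G : Type u} [Group G] [Fintype G] {p : ℕ} [hp : Fact p.Prime] {M : Ideal AlgInt}
  [M.IsMaximal] {hM : IsPModular p M} {B : Set (IrrCharacter G)} (L : Data hM B) [Fintype L.K]

theorem normK {x : G} (hx : x ∈ Subgroup.normalizer (L.Z : Set G)) :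
    x ∈ Subgroup.normalizer (L.K : Set G) := normalizer_le_normalizer_cz L.Z hx

/-- A combination of the members of the local block. -/
noncomputable def psi (w : IrrCharacter L.K → ℂ) : L.K → ℂ :=
  fun k => ∑ ξ ∈ members L.blk, w ξ * (ξ : L.K → ℂ) k

/-- The induced class function. -/
noncomputable def theta (w : IrrCharacter L.K → ℂ) : G → ℂ := indFun L.K (L.psi w)

/-- The multiplicity of `ξ` in the restriction of `χ`. -/
noncomputable def mult (χ : IrrCharacter G) (ξ : IrrCharacter L.K) : ℂ :=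
  classInner (fun k : L.K => (χ : G → ℂ) k) (ξ : L.K → ℂ)

theorem psi_regular {w : IrrCharacter L.K → ℂ} (hw : ∑ ξ ∈ members L.blk, w ξ = 0) {k : L.K}
    (hk : ¬ p ∣ orderOf k) : L.psi w k = 0 := by
  obtain ⟨ξ₀, hξ₀⟩ := IsPBlock.nonempty hM L.blk_isPBlock
  rw [psi, Finset.sum_congr rfl fun ξ hξ => by rw [L.regular_eq (mem_members.1 hξ) hξ₀ hk],
    ← Finset.sum_mul, hw, zero_mul]

theorem exists_ne_zero_psi {w : IrrCharacter L.K → ℂ} {k : L.K} (h : L.psi w k ≠ 0) :
    ∃ ξ ∈ L.blk, (ξ : L.K → ℂ) k ≠ 0 := by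
  obtain ⟨ξ, hξ, hne⟩ := Finset.exists_ne_zero_of_sum_ne_zero h
  exact ⟨ξ, mem_members.1 hξ, (mul_ne_zero_iff.1 hne).2⟩

/-- `Z` is in the group generated by the `p`-part of a singular element in the support. -/
theorem Z_le_part {w : IrrCharacter L.K → ℂ} (hw : ∑ ξ ∈ members L.blk, w ξ = 0) {k x : L.K}
    (hx : IsPPart p k x) (h : L.psi w k ≠ 0) : L.Z ≤ Subgroup.zpowers (x : G) := by
  obtain ⟨ξ, hξ, hne⟩ := L.exists_ne_zero_psi h
  obtain ⟨a, ha⟩ := L.exists_conj_of_ne_zero hξ hx hne
  have hx1 : ((a * x * a⁻¹ : L.K) : G) ≠ 1 := fun h1 => by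
    obtain ⟨y, hy, -, -, hyp⟩ := hx
    have hx1 : x = 1 := conj_eq_one_iff.1 (Subtype.ext h1)
    rw [hx1, one_mul] at hy
    exact h (L.psi_regular hw (hy ▸ hyp))
  intro z hz
  obtain ⟨i, hi⟩ := Subgroup.mem_zpowers_iff.1 (L.Z_le_zpowers ha hx1 hz)
  refine Subgroup.mem_zpowers_iff.2 ⟨i, ?_⟩
  simp only [Subgroup.coe_mul, Subgroup.coe_inv] at hi
  rw [conj_zpow] at hi
  have ha' : (a : G) * z = z * a := (mem_cz.1 a.2 z hz).symm
  calc (x : G) ^ i = (a : G)⁻¹ * ((a : G) * (x : G) ^ i * (a : G)⁻¹) * a := by group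
    _ = (a : G)⁻¹ * (z * a) := by rw [hi, mul_assoc]
    _ = z := by rw [← ha', inv_mul_cancel_left]

theorem classInner_act (n : G) (hn : n ∈ Subgroup.normalizer (L.K : Set G)) (ξ η : IrrCharacter L.K) :
    classInner (CharCorr.twistIrr (conjEquiv n (mem_normalizer_conj_iff hn)) ξ : L.K → ℂ)
        (η : L.K → ℂ) =
      if CharCorr.twistIrr (conjEquiv n (mem_normalizer_conj_iff hn)) ξ = η then 1 else 0 := by
  split_ifs with h
  · rw [h]; exact classInner_irr_self η.2
  · exact classInner_irr_ne (CharCorr.twistIrr _ ξ).2 η.2 fun h' => h (Subtype.ext h')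

/-- The product of two induced differences. -/
theorem theta_inner {w w' : IrrCharacter L.K → ℂ} (hw : ∑ ξ ∈ members L.blk, w ξ = 0)
    (hw' : ∑ ξ ∈ members L.blk, w' ξ = 0) :
    classInner (L.theta w) (L.theta w') =
      (Nat.card L.K : ℂ)⁻¹ * ∑ n : L.T₁, ∑ ξ ∈ members L.blk, w ξ * conj (w' (L.act n ξ)) := by
  rw [theta, theta, Induction.classInner_indFun_right _ _ (Induction.isClassFunction_indFun _ _)]
  -- the terms of the induced function on the support of the other
  set F : G → L.K → ℂ := fun x k => extendByZero L.K (L.psi w) (x⁻¹ * (k : G) * x) * conj (L.psi w' k)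
    with hF
  have hvan : ∀ x : G, x ∉ Subgroup.normalizer (L.Z : Set G) → ∀ k, F x k = 0 := by
    intro x hx k
    by_contra hne
    obtain ⟨h1, h2⟩ := mul_ne_zero_iff.1 hne
    have h2' : L.psi w' k ≠ 0 := fun h0 => h2 (by rw [h0, map_zero])
    by_cases hk : x⁻¹ * (k : G) * x ∈ L.K
    · rw [Induction.extendByZero_mem L.K _ hk] at h1
      obtain ⟨a, ha⟩ := exists_isPPart hM.1 k
      obtain ⟨b, hb⟩ := exists_isPPart hM.1 (⟨x⁻¹ * (k : G) * x, hk⟩ : L.K)
      have hZa := L.Z_le_part hw' ha h2'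
      have hZb := L.Z_le_part hw hb h1
      -- the `p`-part is conjugate
      have hpk : ∀ {c d : L.K}, IsPPart p c d → IsPPart p (c : G) (d : G) := by
        rintro c d ⟨y, hy, hcm, ⟨j, hj⟩, hyp⟩
        exact ⟨y, by rw [← hy]; rfl, hcm.map L.K.subtype, ⟨j, by rw [Subgroup.orderOf_coe, hj]⟩,
          by rwa [Subgroup.orderOf_coe]⟩
      have hba : (b : G) = x⁻¹ * (a : G) * x := by
        have h3 := IsPPart.conj (hpk ha) x⁻¹
        rw [inv_inv] at h3
        exact IsPPart.unique hM.1 (hpk hb) h3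
      refine hx (Fusion.mem_normalizer_of_forall fun z hz => ?_)
      obtain ⟨i, hi⟩ := Subgroup.mem_zpowers_iff.1 (hZb hz)
      have hzx : x * z * x⁻¹ = (a : G) ^ i := by
        rw [← hi, hba, show x⁻¹ * (a : G) * x = x⁻¹ * (a : G) * (x⁻¹)⁻¹ by rw [inv_inv],
          conj_zpow]
        group
      obtain ⟨z₀, hz₀, hz₀1⟩ := L.nontrivial_Z
      have hord : orderOf z₀ = p := by
        refine (hM.1.eq_one_or_self_of_dvd _ ?_).resolve_left fun h => hz₀1 (orderOf_eq_one_iff.1 h)
        rw [← L.hZc]; exact Subgroup.orderOf_dvd_natCard _ hz₀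
      by_cases hz1 : z = 1
      · rw [hz1]; simp
      have hzo : orderOf z = p := by
        refine (hM.1.eq_one_or_self_of_dvd _ ?_).resolve_left fun h => hz1 (orderOf_eq_one_iff.1 h)
        rw [← L.hZc]; exact Subgroup.orderOf_dvd_natCard _ hz
      have hcyc : IsCyclic (Subgroup.zpowers (a : G)) := inferInstance
      have h5 : x * z * x⁻¹ ∈ Subgroup.zpowers z₀ :=
        CyclicDefectBound.mem_zpowers_of_orderOf_eq hcyc (hZa hz₀)
          (Subgroup.mem_zpowers_iff.2 ⟨i, hzx.symm⟩)
          (by rw [show x * z * x⁻¹ = MulAut.conj x z from rfl, MulEquiv.orderOf_eq, hzo, hord])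
      exact (Subgroup.zpowers_le.2 hz₀) h5
    · exact h1 (Induction.extendByZero_notMem L.K _ hk)
  have hterm : ∀ x : G, (hx : x ∈ Subgroup.normalizer (L.Z : Set G)) →
      ∑ k : L.K, F x k = (Nat.card L.K : ℂ) *
        ∑ ξ ∈ members L.blk, ∑ η ∈ members L.blk, w ξ * conj (w' η) *
          if CharCorr.twistIrr (conjEquiv x (mem_normalizer_conj_iff
            (L.normK hx))) ξ = η then 1 else 0 := by
    intro x hx
    set hn := L.normK hx
    have e : ∀ k : L.K, F x k = ∑ ξ ∈ members L.blk, ∑ η ∈ members L.blk, w ξ * conj (w' η) *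
        ((CharCorr.twistIrr (conjEquiv x (mem_normalizer_conj_iff hn)) ξ : L.K → ℂ) k *
          conj ((η : L.K → ℂ) k)) := by
      intro k
      simp only [hF]
      rw [Induction.extendByZero_mem L.K _ ((mem_normalizer_conj_iff hn _).1 k.2), psi, psi, map_sum,
        Finset.sum_mul_sum]
      refine Finset.sum_congr rfl fun ξ _ => Finset.sum_congr rfl fun η _ => ?_
      rw [map_mul, CharCorr.twistIrr_apply]
      show w ξ * (ξ : L.K → ℂ) ⟨x⁻¹ * (k : G) * x, _⟩ * _ = _
      rw [show (⟨x⁻¹ * (k : G) * x, (mem_normalizer_conj_iff hn _).1 k.2⟩ : L.K) =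
        conjEquiv x (mem_normalizer_conj_iff hn) k from rfl]
      ring
    rw [Finset.sum_congr rfl fun k _ => e k, Finset.sum_comm, Finset.mul_sum]
    refine Finset.sum_congr rfl fun ξ _ => ?_
    rw [Finset.sum_comm, Finset.mul_sum]
    refine Finset.sum_congr rfl fun η _ => ?_
    rw [← Finset.mul_sum, ← L.classInner_act x hn ξ η, classInner]
    have h0 : (Nat.card L.K : ℂ) ≠ 0 := Nat.cast_ne_zero.2 Nat.card_pos.ne'
    field_simp
  rw [classInner]
  have hexp : ∀ k : L.K, indFun L.K (L.psi w) k * conj (L.psi w' k) =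
      (Nat.card L.K : ℂ)⁻¹ * ∑ x : G, F x k := fun k => by
    rw [Induction.indFun_apply, mul_assoc, Finset.sum_mul]
  rw [Finset.sum_congr rfl fun k _ => hexp k, ← Finset.mul_sum, Finset.sum_comm]
  congr 1
  rw [Finset.mul_sum,
    ← Finset.sum_filter_of_ne (p := fun x : G => x ∈ L.T₁) ?_,
    Finset.sum_subtype (p := fun x : G => x ∈ L.T₁) _ (fun x => by simp) ]
  · refine Finset.sum_congr rfl fun n _ => ?_
    rw [hterm (n : G) n.2.1, ← mul_assoc,
      inv_mul_cancel₀ (Nat.cast_ne_zero.2 Nat.card_pos.ne' : (Nat.card L.K : ℂ) ≠ 0), one_mul]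
    refine Finset.sum_congr rfl fun ξ hξ => ?_
    rw [Finset.sum_eq_single (L.act n ξ)]
    · split_ifs with h
      · rw [mul_one]
      · exact absurd rfl h
    · intro η _ hne
      rw [if_neg (fun h => hne h.symm), mul_zero]
    · exact fun h => absurd (mem_members.2 (L.act_mem n (mem_members.1 hξ))) h
  · intro x _ hne
    by_contra hxT
    apply hne
    by_cases hxN : x ∈ Subgroup.normalizer (L.Z : Set G)
    · rw [hterm x hxN]
      refine mul_eq_zero_of_right _ (mul_eq_zero_of_right _ (Finset.sum_eq_zero fun ξ hξ =>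
        Finset.sum_eq_zero fun η hη => ?_))
      rw [if_neg, mul_zero]
      intro h
      refine hxT ⟨hxN, ?_⟩
      have hn := L.normK hxN
      have h3 := conjA_eA hM x (mem_normalizer_conj_iff hn) L.blk
      have hb' := isPBlock_twist (M := M) (conjEquiv x (mem_normalizer_conj_iff hn)) L.blk_isPBlock
      have h4 : CharCorr.twistIrr (conjEquiv x (mem_normalizer_conj_iff hn)) '' L.blk = L.blk := by
        rw [IsPBlock.eq_blockOf hM hb' ⟨ξ, mem_members.1 hξ, rfl⟩,
          IsPBlock.eq_blockOf hM L.blk_isPBlock (mem_members.1 hη), h]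
      rw [h4] at h3
      exact h3
    · rw [Finset.sum_eq_zero fun k _ => hvan x hxN k, mul_zero]

/-- The product with an irreducible character. -/
theorem theta_inner_irr (w : IrrCharacter L.K → ℂ) (χ : IrrCharacter G) :
    classInner (χ : G → ℂ) (L.theta w) = ∑ ξ ∈ members L.blk, conj (w ξ) * L.mult χ ξ := by
  rw [theta, Induction.classInner_indFun_right _ _ (irr_isClassFunction χ)]
  simp only [classInner, psi, mult, map_sum, map_mul, Finset.mul_sum]
  rw [Finset.sum_comm]
  exact Finset.sum_congr rfl fun ξ _ => Finset.sum_congr rfl fun k _ => by ring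

theorem mult_act (χ : IrrCharacter G) (n : G) (hn : n ∈ Subgroup.normalizer (L.K : Set G))
    (ξ : IrrCharacter L.K) :
    L.mult χ (CharCorr.twistIrr (conjEquiv n (mem_normalizer_conj_iff hn)) ξ) = L.mult χ ξ := by
  simp only [mult, classInner, CharCorr.twistIrr_apply, map_one]
  congr 1
  refine Fintype.sum_equiv (conjEquiv n (mem_normalizer_conj_iff hn)).toEquiv _ _ fun k => ?_
  show (χ : G → ℂ) k * _ = (χ : G → ℂ) (n⁻¹ * (k : G) * n) * _
  have h := irr_isClassFunction χ (k : G) n⁻¹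
  rw [inv_inv] at h
  rw [h]
  rfl

/-- Every block of `K` inducing `B` is a conjugate of the block at `Z`. -/
theorem exists_conj_blk {b' : Set (IrrCharacter L.K)} (h : IsInducedBlock M L.K b' B) :
    ∃ (n : G) (hn : n ∈ Subgroup.normalizer (L.Z : Set G)),
      CharCorr.twistIrr (conjEquiv n (mem_normalizer_conj_iff
        (L.normK hn))) '' L.blk = b' := by
  have := charP_res hM
  obtain ⟨hb', -, hO⟩ := (isBrauerPairOf_iff hM B L.Z b').1
    (isBrauerPairOf_of_isInducedBlock hM (L.pgroup.to_le L.hZD) h)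
  have hOD : OverPair p (⊥ : Subgroup G) (eG hM B) ⊤ L.D L.e :=
    ⟨L.pgroup, bot_le, le_top, L.he, L.hcov⟩
  obtain ⟨x, -, hx⟩ := (brSetup_block hM L.hB).exists_conj_le (hasBlocks hM) hO
    ((isDefectGroup_iff hM L.hB L.D).1 L.hD) hOD
  have hxN : x ∈ Subgroup.normalizer (L.Z : Set G) :=
    Fusion.mem_normalizer_of_forall fun z hz => L.conj_mem_Z hz (hx.le ⟨z, hz, rfl⟩)
  have hmap : L.Z.map (MulAut.conj x).toMonoidHom = L.Z := map_conj_eq_self hxN
  have hA : conjA x (eA hM (cz L.Z) b') = eA hM L.K L.blk := by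
    refine pairLE_unique (hasBlocks hM) (b := (L.D, L.e)) L.he L.pgroup ?_ L.blk_le
    simpa only [conjPair, hmap] using hx
  refine ⟨x⁻¹, Subgroup.inv_mem _ hxN, ?_⟩
  refine eA_inj hM (isPBlock_twist _ L.blk_isPBlock) hb' ?_
  show eA hM L.K _ = eA hM L.K b'
  rw [← conjA_eA hM x⁻¹, ← hA, ← conjA_mul_left, inv_mul_cancel, conjA_one_left]
  rfl

/-- A class function meeting the local differences trivially has local part zero at singular
elements. -/
theorem part_singular_eq_zero {a : IrrCharacter L.K → ℂ}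
    (ha : ∀ ξ ∈ L.blk, ∀ η ∈ L.blk, a ξ = a η) {k : L.K} (hk : p ∣ orderOf k) :
    L.psi a k = 0 := by
  obtain ⟨ξ₀, hξ₀⟩ := IsPBlock.nonempty hM L.blk_isPBlock
  have h := weak_orth hM L.blk_isPBlock (x := (1 : L.K)) (y := k⁻¹)
    (by rw [orderOf_one]; exact hM.1.not_dvd_one) (by rwa [orderOf_inv])
  have hdeg : ∀ η ∈ members L.blk, (η : L.K → ℂ) 1 = (ξ₀ : L.K → ℂ) 1 := fun η hη =>
    L.regular_eq (mem_members.1 hη) hξ₀ (by rw [orderOf_one]; exact hM.1.not_dvd_one)
  rw [show Finset.univ.filter (· ∈ L.blk) = members L.blk from rfl,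
    Finset.sum_congr rfl fun η hη => by
      rw [hdeg η hη, irr_apply_inv, Complex.conj_conj], ← Finset.mul_sum, mul_eq_zero] at h
  rw [psi, Finset.sum_congr rfl fun η hη => by rw [ha η (mem_members.1 hη) ξ₀ hξ₀],
    ← Finset.mul_sum, h.resolve_left (irr_one_ne_zero ξ₀), mul_zero]

/-- The local part of a class function of `G`. -/
theorem blockPart_section_transport {u : G} (hu : u ∈ L.K)
    (hC : Subgroup.centralizer ({u} : Set G) ≤ L.K)
    [Fintype (Subgroup.centralizer ({u} : Set G))] {φ : G → ℂ}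
    (c : Set (IrrCharacter (Subgroup.centralizer ({u} : Set G))))
    (hK : ∀ x : L.K, x ∈ Subgroup.centralizer ({(⟨u, hu⟩ : L.K)} : Set L.K) ↔
      (x : G) ∈ Subgroup.centralizer ({u} : Set G))
    (s : Subgroup.centralizer ({(⟨u, hu⟩ : L.K)} : Set L.K)) :
    blockPart (CharCorr.twistIrr (inEquiv hC hK) '' c)
        (sectionFun (⟨u, hu⟩ : L.K) (fun k : L.K => φ k)) s =
      blockPart c (sectionFun u φ) (inEquiv hC hK s) := by
  rw [blockPart_eq_sum, blockPart_eq_sum]
  refine (Finset.sum_bij (fun η _ => CharCorr.twistIrr (inEquiv hC hK) η) (fun η hη => ?_)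
    (fun η _ η' _ h => ?_) (fun η hη => ?_) (fun η _ => ?_)).symm
  · exact Finset.mem_filter.2 ⟨Finset.mem_univ _, η, (Finset.mem_filter.1 hη).2, rfl⟩
  · refine Subtype.ext (funext fun z => ?_)
    have h2 := congrFun (congrArg Subtype.val h) ((inEquiv hC hK).symm z)
    simpa using h2
  · obtain ⟨η', hη', rfl⟩ := (Finset.mem_filter.1 hη).2
    exact ⟨η', Finset.mem_filter.2 ⟨Finset.mem_univ _, hη'⟩, rfl⟩
  · have hc : classInner (sectionFun u φ) (η : Subgroup.centralizer ({u} : Set G) → ℂ) =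
        classInner (sectionFun (⟨u, hu⟩ : L.K) (fun k : L.K => φ k))
          (CharCorr.twistIrr (inEquiv hC hK) η :
            Subgroup.centralizer ({(⟨u, hu⟩ : L.K)} : Set L.K) → ℂ) := by
      rw [classInner, classInner, Nat.card_congr (inEquiv hC hK).toEquiv]
      congr 1
      refine (Fintype.sum_equiv (inEquiv hC hK).toEquiv _ _ fun z => ?_).symm
      rw [CharCorr.twistIrr_apply]
      rfl
    rw [hc, CharCorr.twistIrr_apply]

theorem blockPart_univ {H : Type u} [Group H] [Fintype H] {φ : H → ℂ}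
    (hφ : IsClassFunction H φ) (y : H) : blockPart Set.univ φ y = φ y := by
  rw [blockPart_eq_sum]
  conv_rhs => rw [classFunction_eq_sum hφ]
  simp [Finset.sum_apply]

/-- The local part of a combination in a block at a section. -/
theorem section_part (φ : G → ℂ) (hφ : IsClassFunction G φ) {b' : Set (IrrCharacter L.K)}
    (hb' : IsPBlock M b') {u : G} (hu : u ∈ L.D) (hu1 : u ≠ 1)
    [Fintype (Subgroup.centralizer ({u} : Set G))]
    (hK : ∀ x : L.K, x ∈ Subgroup.centralizer ({(⟨u, L.D_le_K hu⟩ : L.K)} : Set L.K) ↔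
      (x : G) ∈ Subgroup.centralizer ({u} : Set G))
    {c : Set (IrrCharacter (Subgroup.centralizer ({u} : Set G)))} (hc : IsPBlock M c)
    (hind : IsInducedBlock M _
      (CharCorr.twistIrr (inEquiv (L.centralizer_le_K hu hu1) hK) '' c) b')
    {s : Subgroup.centralizer ({(⟨u, L.D_le_K hu⟩ : L.K)} : Set L.K)} (hs : ¬ p ∣ orderOf s) :
    blockPart (CharCorr.twistIrr (inEquiv (L.centralizer_le_K hu hu1) hK) '' c)
        (sectionFun (⟨u, L.D_le_K hu⟩ : L.K)
          (fun k => ∑ ξ ∈ members b',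
            classInner (fun k : L.K => φ k) (ξ : L.K → ℂ) * (ξ : L.K → ℂ) k)) s =
      blockPart c (sectionFun u φ) (inEquiv (L.centralizer_le_K hu hu1) hK s) := by
  rw [← L.blockPart_section_transport (L.D_le_K hu) (L.centralizer_le_K hu hu1) c hK s]
  have hu' : ∃ j, orderOf (⟨u, L.D_le_K hu⟩ : L.K) = p ^ j := by
    obtain ⟨j, hj⟩ := IsPGroup.iff_orderOf.1 L.pgroup ⟨u, hu⟩
    exact ⟨j, by rw [← Subgroup.orderOf_coe]; rwa [Subgroup.orderOf_mk] at hj⟩
  set c' := CharCorr.twistIrr (inEquiv (L.centralizer_le_K hu hu1) hK) '' c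
  have hc' : IsPBlock M c' := isPBlock_twist _ hc
  set m : IrrCharacter L.K → ℂ := fun ξ => classInner (fun k : L.K => φ k) (ξ : L.K → ℂ)
  have hlin : ∀ S : Finset (IrrCharacter L.K),
      blockPart c' (sectionFun (⟨u, L.D_le_K hu⟩ : L.K) (fun k => ∑ ξ ∈ S, m ξ * (ξ : L.K → ℂ) k)) s =
        ∑ ξ ∈ S, m ξ * blockPart c' (sectionFun (⟨u, L.D_le_K hu⟩ : L.K) (ξ : L.K → ℂ)) s := by
    intro S
    simp only [blockPart_eq_sum, classInner, sectionFun, Finset.sum_mul, Finset.mul_sum]
    symm
    rw [Finset.sum_comm]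
    refine Finset.sum_congr rfl fun η _ => ?_
    rw [Finset.sum_comm]
    exact Finset.sum_congr rfl fun k _ => Finset.sum_congr rfl fun ξ _ => by ring
  have hall : (fun k : L.K => φ k) = fun k => ∑ ξ : IrrCharacter L.K, m ξ * (ξ : L.K → ℂ) k := by
    funext k
    have := congrFun (classFunction_eq_sum (NormalRes.isClassFunction_res L.K hφ)) k
    simpa [Finset.sum_apply, smul_eq_mul, m] using this
  conv_rhs => rw [hall]
  rw [hlin, hlin]
  refine Finset.sum_subset (Finset.subset_univ _) fun ξ _ hξ => ?_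
  rw [blockPart_sectionFun_eq_zero hM hu' hc' ?_ hs, mul_zero]
  intro h
  refine hξ (mem_members.2 ?_)
  rw [IsInducedBlock.unique hM hind h]
  exact mem_blockOf_self hM ξ

/-- The multiplicities of a character outside `B` are constant on the local block. -/
theorem mult_const {χ : IrrCharacter G} (hχ : χ ∉ B) {ξ η : IrrCharacter L.K} (hξ : ξ ∈ L.blk)
    (hη : η ∈ L.blk) : L.mult χ ξ = L.mult χ η := by
  set F := L.psi (L.mult χ)
  have hsing : ∀ k : L.K, p ∣ orderOf k → F k = 0 := by
    intro k hk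
    by_contra hne
    obtain ⟨ξ', hξ', hne'⟩ := L.exists_ne_zero_psi hne
    obtain ⟨x, hx⟩ := exists_isPPart hM.1 k
    obtain ⟨h, hh⟩ := L.exists_conj_of_ne_zero hξ' hx hne'
    have hk' := IsPPart.conj hx h
    have hu1 : ((h * x * h⁻¹ : L.K) : G) ≠ 1 := fun h1 => by
      obtain ⟨y, hy, -, -, hyp⟩ := hx
      have hx1 : x = 1 := conj_eq_one_iff.1 (Subtype.ext h1)
      rw [hx1, one_mul] at hy
      exact hyp (hy ▸ hk)
    have hF : IsClassFunction L.K F := fun a b => Finset.sum_congr rfl fun ξ _ => by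
      rw [irr_isClassFunction ξ a b]
    apply hne
    rw [← hF k h]
    obtain ⟨y, hy, hcomm, -, hyp⟩ := hk'
    rw [← hy]
    set u : G := ((h * x * h⁻¹ : L.K) : G) with hu
    letI : Fintype (Subgroup.centralizer ({u} : Set G)) := Fintype.ofFinite _
    have hK : ∀ z : L.K, z ∈ Subgroup.centralizer ({(⟨u, L.D_le_K hh⟩ : L.K)} : Set L.K) ↔
        (z : G) ∈ Subgroup.centralizer ({u} : Set G) := fun z => by
      simp only [Subgroup.mem_centralizer_singleton_iff]
      exact ⟨fun h => congrArg Subtype.val h, fun h => Subtype.ext h⟩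
    set u' : L.K := ⟨u, L.D_le_K hh⟩
    have hyC : y ∈ Subgroup.centralizer ({u'} : Set L.K) :=
      Subgroup.mem_centralizer_singleton_iff.2 hcomm.symm.eq
    have hu' : ∃ j, orderOf u' = p ^ j := by
      obtain ⟨j, hj⟩ := IsPGroup.iff_orderOf.1 L.pgroup ⟨u, hh⟩
      exact ⟨j, by rw [← Subgroup.orderOf_coe]; rwa [Subgroup.orderOf_mk] at hj⟩
    have hys : ¬ p ∣ orderOf (⟨y, hyC⟩ : Subgroup.centralizer ({u'} : Set L.K)) := by
      rwa [Subgroup.orderOf_mk]
    show sectionFun u' F ⟨y, hyC⟩ = 0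
    rw [← blockPart_univ (isClassFunction_sectionFun hF) (⟨y, hyC⟩ : Subgroup.centralizer ({u'} : Set L.K))]
    refine blockPart_union_eq_zero hM (fun _ _ _ _ => Set.mem_univ _) fun θ _ => ?_
    have hcb : IsPBlock M (blockOf M (θ : Subgroup.centralizer ({u'} : Set L.K) → ℂ)) :=
      isPBlock_blockOf θ
    by_cases hbi : IsInducedBlock M _ (blockOf M (θ : Subgroup.centralizer ({u'} : Set L.K) → ℂ)) L.blk
    · set f := inEquiv (L.centralizer_le_K hh hu1) hK
      obtain ⟨c, hc, hcc⟩ : ∃ c, IsPBlock M c ∧ CharCorr.twistIrr f '' c =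
          blockOf M (θ : Subgroup.centralizer ({u'} : Set L.K) → ℂ) := by
        refine ⟨CharCorr.twistIrr f.symm '' _, isPBlock_twist f.symm hcb, ?_⟩
        rw [Set.image_image]
        convert Set.image_id _ with η
        exact Subtype.ext (funext fun z => by simp [CharCorr.twistIrr_apply])
      rw [← hcc] at hbi ⊢
      refine (L.section_part (χ : G → ℂ) (irr_isClassFunction χ) L.blk_isPBlock hh hu1 hK hc hbi
        hys).trans (blockPart_sectionFun_eq_zero hM ?_ hc (fun hind => hχ ?_) ?_)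
      · obtain ⟨j, hj⟩ := hu'; exact ⟨j, by rw [← hj, ← Subgroup.orderOf_coe]⟩
      · have hcB := (LocalCount.isInducedBlock_trans_iff hM (L.centralizer_le_K hh hu1) hK hc hbi).2
          L.blk_induced
        rw [IsInducedBlock.unique hM hcB hind]
        exact mem_blockOf_self hM χ
      · rwa [MulEquiv.orderOf_eq]
    · rw [show blockPart (blockOf M (θ : Subgroup.centralizer ({u'} : Set L.K) → ℂ)) (sectionFun u' F)
          ⟨y, hyC⟩ = ∑ ξ ∈ members L.blk, L.mult χ ξ *
            blockPart (blockOf M (θ : Subgroup.centralizer ({u'} : Set L.K) → ℂ))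
              (sectionFun u' (ξ : L.K → ℂ)) ⟨y, hyC⟩ by
        simp only [F, psi, blockPart_eq_sum, classInner, sectionFun, Finset.sum_mul, Finset.mul_sum]
        symm
        rw [Finset.sum_comm]
        refine Finset.sum_congr rfl fun η _ => ?_
        rw [Finset.sum_comm]
        exact Finset.sum_congr rfl fun k _ => Finset.sum_congr rfl fun ξ _ => by ring]
      refine Finset.sum_eq_zero fun ξ hξ => mul_eq_zero_of_right _
        (blockPart_sectionFun_eq_zero hM hu' hcb ?_ hys)
      rwa [← IsPBlock.eq_blockOf hM L.blk_isPBlock (mem_members.1 hξ)]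
  -- pairing with the differences
  have hFin : ∀ ζ ∈ L.blk, classInner F (ζ : L.K → ℂ) = L.mult χ ζ := by
    intro ζ hζ
    have hlinF : classInner F (ζ : L.K → ℂ) =
        ∑ μ ∈ members L.blk, L.mult χ μ * classInner (μ : L.K → ℂ) (ζ : L.K → ℂ) := by
      simp only [F, psi, classInner, Finset.sum_mul]
      rw [Finset.sum_comm, Finset.mul_sum]
      refine Finset.sum_congr rfl fun μ _ => ?_
      generalize L.mult χ μ = c
      simp only [Finset.mul_sum]
      exact Finset.sum_congr rfl fun k _ => by ring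
    rw [hlinF, Finset.sum_eq_single ζ]
    · rw [classInner_irr_self ζ.2, mul_one]
    · intro μ _ hne
      rw [classInner_irr_ne μ.2 ζ.2 fun h' => hne (Subtype.ext h'), mul_zero]
    · exact fun h => absurd (mem_members.2 hζ) h
  rw [← hFin ξ hξ, ← hFin η hη, classInner, classInner]
  congr 1
  refine Finset.sum_congr rfl fun k _ => ?_
  by_cases hk : p ∣ orderOf k
  · rw [hsing k hk, zero_mul, zero_mul]
  · rw [L.regular_eq hξ hη hk]

/-- A combination of members of `B` with constant local multiplicities vanishes at the singular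
elements. -/
theorem eq_zero_of_singular (c : IrrCharacter G → ℂ)
    (hc : ∀ ξ ∈ L.blk, ∀ η ∈ L.blk,
      ∑ χ ∈ members B, c χ * L.mult χ ξ = ∑ χ ∈ members B, c χ * L.mult χ η) {g : G}
    (hg : p ∣ orderOf g) : ∑ χ ∈ members B, c χ * (χ : G → ℂ) g = 0 := by
  obtain ⟨x, hx⟩ := exists_isPPart hM.1 g
  by_cases hD : ∀ χ ∈ members B, (χ : G → ℂ) g = 0
  · exact Finset.sum_eq_zero fun χ hχ => by rw [hD χ hχ, mul_zero]
  push Not at hD
  obtain ⟨χ₀, hχ₀, hne⟩ := hD
  obtain ⟨a, ha⟩ : ∃ a : G, a * x * a⁻¹ ∈ L.D := by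
    by_contra hcon
    push Not at hcon
    refine hne (apply_eq_zero_of_notMem_defect hM hx fun E hE hxE => ?_)
    rw [← IsPBlock.eq_blockOf hM L.hB (mem_members.1 hχ₀)] at hE
    have := charP_res hM
    obtain ⟨t, -, ht⟩ := (brSetup_block hM L.hB).isDefect_conj
      ((isDefectGroup_iff hM L.hB E).1 hE) ((isDefectGroup_iff hM L.hB L.D).1 L.hD)
    exact hcon t (by rw [ht]; exact ⟨x, hxE, rfl⟩)
  set u := a * x * a⁻¹ with hu
  have hu1 : u ≠ 1 := fun h1 => by
    obtain ⟨y, hy, -, -, hyp⟩ := hx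
    rw [conj_eq_one_iff.1 h1, one_mul] at hy
    exact hyp (hy ▸ hg)
  set φ : G → ℂ := fun g => ∑ χ ∈ members B, c χ * (χ : G → ℂ) g
  have hφ : IsClassFunction G φ := fun v w => Finset.sum_congr rfl fun χ _ => by
    rw [irr_isClassFunction χ v w]
  show φ g = 0
  rw [← hφ g a]
  obtain ⟨y, hy, hcomm, ⟨j, hj⟩, hyp⟩ := IsPPart.conj hx a
  rw [← hy]
  letI : Fintype (Subgroup.centralizer ({u} : Set G)) := Fintype.ofFinite _
  have hyC : y ∈ Subgroup.centralizer ({u} : Set G) :=
    Subgroup.mem_centralizer_singleton_iff.2 hcomm.symm.eq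
  have hys : ¬ p ∣ orderOf (⟨y, hyC⟩ : Subgroup.centralizer ({u} : Set G)) := by
    rwa [Subgroup.orderOf_mk]
  show sectionFun u φ ⟨y, hyC⟩ = 0
  rw [← blockPart_univ (isClassFunction_sectionFun hφ) (⟨y, hyC⟩ : Subgroup.centralizer ({u} : Set G))]
  refine blockPart_union_eq_zero hM (fun _ _ _ _ => Set.mem_univ _) fun θ _ => ?_
  set d := blockOf M (θ : Subgroup.centralizer ({u} : Set G) → ℂ)
  have hd : IsPBlock M d := isPBlock_blockOf θ
  by_cases hdB : IsInducedBlock M _ d B
  · have hle := L.centralizer_le_K ha hu1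
    have hK : ∀ z : L.K, z ∈ Subgroup.centralizer ({(⟨u, L.D_le_K ha⟩ : L.K)} : Set L.K) ↔
        (z : G) ∈ Subgroup.centralizer ({u} : Set G) := fun z => by
      simp only [Subgroup.mem_centralizer_singleton_iff]
      exact ⟨fun h => congrArg Subtype.val h, fun h => Subtype.ext h⟩
    set u' : L.K := ⟨u, L.D_le_K ha⟩
    set f := inEquiv hle hK
    have hu'o : ∃ j, orderOf u' = p ^ j := ⟨j, by rw [← Subgroup.orderOf_coe]; exact hj⟩
    obtain ⟨b', hb'⟩ := inducedBlockDefined_centralizer hM hu'o (isPBlock_twist f hd)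
    have hb'B : IsInducedBlock M L.K b' B :=
      (LocalCount.isInducedBlock_trans_iff hM hle hK hd hb').1 hdB
    obtain ⟨n, hn, hnb⟩ := L.exists_conj_blk hb'B
    set hnK := L.normK hn
    set τ := conjEquiv n (mem_normalizer_conj_iff hnK)
    have hys' : ¬ p ∣ orderOf (f.symm ⟨y, hyC⟩) := by rwa [MulEquiv.orderOf_eq]
    have h := L.section_part φ hφ hb'.2.1 ha hu1 hK hd hb' hys'
    rw [MulEquiv.apply_symm_apply] at h
    rw [← h]
    -- the part in the conjugate block has constant coefficients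
    have hzero : ∀ k : L.K, p ∣ orderOf k → ∑ ξ ∈ members b',
        classInner (fun k : L.K => φ k) (ξ : L.K → ℂ) * (ξ : L.K → ℂ) k = 0 := by
      intro k hk
      have hA : ∀ ξ : IrrCharacter L.K, classInner (fun k : L.K => φ k) (ξ : L.K → ℂ) =
          ∑ χ ∈ members B, c χ * L.mult χ ξ := by
        intro ξ
        simp only [φ, mult, classInner, Finset.sum_mul, Finset.mul_sum]
        rw [Finset.sum_comm]
        exact Finset.sum_congr rfl fun χ _ => Finset.sum_congr rfl fun z _ => by ring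
      have hmem : members b' = (members L.blk).image (CharCorr.twistIrr τ) := by
        ext ξ
        rw [mem_members, Finset.mem_image, ← hnb]
        exact ⟨fun ⟨η, hη, h⟩ => ⟨η, mem_members.2 hη, h⟩,
          fun ⟨η, hη, h⟩ => ⟨η, mem_members.1 hη, h⟩⟩
      rw [hmem, Finset.sum_image]
      · refine Eq.trans (Finset.sum_congr rfl fun ξ _ => ?_)
          (L.part_singular_eq_zero (a := fun ξ => ∑ χ ∈ members B, c χ * L.mult χ ξ) hc
            (k := τ k) (by rwa [MulEquiv.orderOf_eq]))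
        rw [hA, CharCorr.twistIrr_apply]
        congr 1
        exact Finset.sum_congr rfl fun χ _ => by rw [L.mult_act χ n hnK ξ]
      · intro a _ b _ hab
        refine Subtype.ext (funext fun z => ?_)
        have := congrFun (congrArg Subtype.val hab) (τ.symm z)
        simpa [CharCorr.twistIrr_apply] using this
    have hreg : ∀ z : Subgroup.centralizer ({u'} : Set L.K), ¬ p ∣ orderOf z →
        sectionFun u' (fun k => ∑ ξ ∈ members b',
          classInner (fun k : L.K => φ k) (ξ : L.K → ℂ) * (ξ : L.K → ℂ) k) z = 0 := by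
      intro z hz
      refine hzero _ ?_
      have hc' : Commute u' (z : L.K) := (Subgroup.mem_centralizer_singleton_iff.1 z.2).symm
      obtain ⟨i, hi⟩ := hu'o
      rw [Commute.orderOf_mul_eq_mul_orderOf_of_coprime hc', hi]
      · refine dvd_mul_of_dvd_left (dvd_pow_self p fun h0 => hu1 ?_) _
        have h1 : u' = 1 := orderOf_eq_one_iff.1 (by rw [hi, h0, pow_zero])
        exact congrArg Subtype.val h1
      · rw [hi, Subgroup.orderOf_coe]
        exact Nat.Coprime.pow_left _ (hM.1.coprime_iff_not_dvd.2 hz)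
    generalize sectionFun u' (fun k => ∑ ξ ∈ members b',
      classInner (fun k : L.K => φ k) (ξ : L.K → ℂ) * (ξ : L.K → ℂ) k) = F0 at hreg ⊢
    rw [blockPart_eq_sum]
    simp only [classInner, Finset.sum_mul, Finset.mul_sum]
    rw [Finset.sum_comm]
    refine Finset.sum_eq_zero fun z _ => ?_
    by_cases hz : p ∣ orderOf z
    · have hwo := weak_orth hM (isPBlock_twist f hd) hys' hz
      rw [← mul_zero ((Nat.card (Subgroup.centralizer ({u'} : Set L.K)) : ℂ)⁻¹ * F0 z), ← hwo,
        Finset.mul_sum]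
      exact Finset.sum_congr rfl fun η _ => by ring
    · exact Finset.sum_eq_zero fun η _ => by rw [hreg z hz]; ring
  · rw [show blockPart d (sectionFun u φ) ⟨y, hyC⟩ = ∑ χ ∈ members B, c χ *
        blockPart d (sectionFun u (χ : G → ℂ)) ⟨y, hyC⟩ by
      simp only [φ, blockPart_eq_sum, classInner, sectionFun, Finset.sum_mul, Finset.mul_sum]
      symm
      rw [Finset.sum_comm]
      refine Finset.sum_congr rfl fun η _ => ?_
      rw [Finset.sum_comm]
      exact Finset.sum_congr rfl fun k _ => Finset.sum_congr rfl fun χ _ => by ring]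
    refine Finset.sum_eq_zero fun χ hχ => mul_eq_zero_of_right _
      (blockPart_sectionFun_eq_zero hM ⟨j, hj⟩ hd ?_ hys)
    rwa [← IsPBlock.eq_blockOf hM L.hB (mem_members.1 hχ)]

end CfsgLib.CyclicBlock.Data
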