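import Mathlib.Algebra.BigOperators.Ring.Finset
import Mathlib.Algebra.Order.BigOperators.Ring.Finset
import Mathlib.Algebra.BigOperators.Fin
import Mathlib.Data.Fintype.BigOperators
import Mathlib.Data.Fintype.Sum
import Mathlib.Tactic

/-!
# Integral vectors with the Gram matrix `e + δ`

`m` integral vectors with pairwise products `e` and squares `e + 1`, orthogonal to a positive
vector, every coordinate of which is used: there are at most `m + e` coordinates, and in case of
equality the vectors are a common sign on one coordinate each and common signs on the others.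
-/

set_option autoImplicit false

namespace CfsgLib.CyclicBlock

variable {ι : Type*} [Fintype ι] [DecidableEq ι]

/-- A vector of square two orthogonal to a positive vector is a difference of two coordinates. -/
theorem exists_sub_of_sq_two (w d : ι → ℤ) (h2 : ∑ x, w x * w x = 2) (hd : ∀ x, 0 < d x)
    (h0 : ∑ x, w x * d x = 0) :
    ∃ a b : ι, a ≠ b ∧ ∀ x, w x = (if x = a then 1 else 0) - (if x = b then 1 else 0) := by
  have hle : ∀ x, w x * w x ≤ 2 := fun x => h2 ▸
    Finset.single_le_sum (f := fun y => w y * w y) (fun y _ => mul_self_nonneg (w y))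
      (Finset.mem_univ x)
  have hsmall : ∀ x, w x = 0 ∨ w x = 1 ∨ w x = -1 := fun x => by
    have h := hle x
    have h1 : w x < 2 := by nlinarith
    have h3 : -2 < w x := by nlinarith
    omega
  obtain ⟨a, ha⟩ : ∃ a, 0 < w a := by
    by_contra h
    push Not at h
    obtain ⟨x, hx⟩ : ∃ x, w x ≠ 0 := by
      by_contra hn
      push Not at hn
      simp [hn] at h2
    have := Finset.sum_lt_sum (s := Finset.univ) (f := fun y => w y * d y) (g := fun _ => (0 : ℤ))
      (fun y _ => mul_nonpos_of_nonpos_of_nonneg (h y) (hd y).le)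
      ⟨x, Finset.mem_univ _, mul_neg_of_neg_of_pos (lt_of_le_of_ne (h x) hx) (hd x)⟩
    rw [h0, Finset.sum_const_zero] at this
    exact lt_irrefl _ this
  obtain ⟨b, hb⟩ : ∃ b, w b < 0 := by
    by_contra h
    push Not at h
    have := Finset.single_le_sum (f := fun y => w y * d y) (fun y _ => mul_nonneg (h y) (hd y).le)
      (Finset.mem_univ a)
    rw [h0] at this
    exact absurd this (not_le.2 (mul_pos ha (hd a)))
  have hab : a ≠ b := fun h => by rw [h] at ha; omega
  refine ⟨a, b, hab, fun x => ?_⟩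
  have ha1 : w a = 1 := by rcases hsmall a with h | h | h <;> omega
  have hb1 : w b = -1 := by rcases hsmall b with h | h | h <;> omega
  rcases eq_or_ne x a with rfl | hxa
  · simp [hab, ha1]
  rcases eq_or_ne x b with rfl | hxb
  · simp [hxa, hb1]
  have hsum : ∑ y ∈ ({x, a, b} : Finset ι), w y * w y ≤ 2 :=
    h2 ▸ Finset.sum_le_sum_of_subset_of_nonneg (Finset.subset_univ _)
      (fun y _ _ => mul_self_nonneg (w y))
  rw [Finset.sum_insert (by simp [hxa, hxb]), Finset.sum_insert (by simp [hab]),
    Finset.sum_singleton, ha1, hb1] at hsum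
  simp [hxa, hxb]
  nlinarith

variable {m : ℕ} {e : ℤ} (C : Fin m → ι → ℤ) (d : ι → ℤ)

theorem diff_of_base (o : Fin m) (ψ : Fin m → ι) (σ : ℤ)
    (h : ∀ i, ∀ x, C o x - C i x =
      σ * ((if x = ψ o then 1 else 0) - (if x = ψ i then 1 else 0))) (i k : Fin m) (x : ι) :
    C i x - C k x = σ * ((if x = ψ i then 1 else 0) - (if x = ψ k then 1 else 0)) := by
  linear_combination h k x - h i x

/-- The differences of the vectors form a star. -/
theorem exists_star (hm : 0 < m)
    (hgram : ∀ i j, ∑ x, C i x * C j x = e + if i = j then 1 else 0)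
    (hdeg : ∀ i, ∑ x, C i x * d x = 0) (hd : ∀ x, 0 < d x) (hmeet : ∀ x, ∃ i, C i x ≠ 0)
    (he : 0 ≤ e) :
    ∃ (ψ : Fin m → ι) (σ : ℤ), Function.Injective ψ ∧ (σ = 1 ∨ σ = -1) ∧
      (∀ i j x, C i x - C j x = σ * ((if x = ψ i then 1 else 0) - (if x = ψ j then 1 else 0))) ∧
      (m = 1 → 0 < σ * C ⟨0, hm⟩ (ψ ⟨0, hm⟩)) := by
  set o : Fin m := ⟨0, hm⟩
  obtain ⟨x₀, -, hx₀⟩ := Finset.exists_ne_zero_of_sum_ne_zero (s := Finset.univ)
    (f := fun x => C o x * C o x) (by rw [hgram, if_pos rfl]; omega)
  have : Nonempty ι := ⟨x₀⟩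
  by_cases hm1 : m = 1
  · have hx' : C o x₀ ≠ 0 := (mul_ne_zero_iff.1 hx₀).1
    have hone : ∀ i j : Fin m, i = j := fun i j => Fin.ext (by omega)
    refine ⟨fun _ => x₀, if 0 < C o x₀ then 1 else -1, fun i j _ => hone i j, ?_, fun i j y => ?_,
      fun _ => ?_⟩
    · split_ifs <;> simp
    · simp [hone i j]
    · show 0 < _ * C o x₀
      split_ifs <;> omega
  have hdiff : ∀ j, j ≠ o → ∃ a b : ι, a ≠ b ∧
      ∀ x, C o x - C j x = (if x = a then 1 else 0) - (if x = b then 1 else 0) := by
    intro j hj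
    refine exists_sub_of_sq_two _ d ?_ hd ?_
    · simp only [sub_mul, mul_sub, Finset.sum_sub_distrib, hgram, ↓reduceIte, if_neg hj,
        if_neg (Ne.symm hj)]
      ring
    · simp only [sub_mul, Finset.sum_sub_distrib, hdeg, sub_zero]
  choose! a b hab hC using hdiff
  have key : ∀ j k, j ≠ o → k ≠ o → j ≠ k →
      (a j = a k ∧ b j ≠ b k) ∨ (b j = b k ∧ a j ≠ a k) := by
    intro j k hj hk hjk
    have h : ∑ x, (C o x - C j x) * (C o x - C k x) = 1 := by
      simp only [sub_mul, mul_sub, Finset.sum_sub_distrib, hgram, ↓reduceIte, if_neg hjk,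
        if_neg hj, if_neg (Ne.symm hk)]
      ring
    simp only [hC j hj, hC k hk, sub_mul, mul_sub, Finset.sum_sub_distrib, ite_mul, one_mul,
      zero_mul, Finset.sum_ite_eq', Finset.mem_univ, if_true] at h
    by_cases h1 : a j = a k <;> by_cases h2 : b j = b k
    · exfalso
      have h3 := hab j hj
      rw [← h1, ← h2, if_pos rfl, if_pos rfl, if_neg h3, if_neg (Ne.symm h3)] at h
      omega
    · exact Or.inl ⟨h1, h2⟩
    · exact Or.inr ⟨h2, h1⟩
    · exfalso
      rw [if_neg h1, if_neg h2] at h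
      split_ifs at h <;> omega
  set j₁ : Fin m := ⟨1, by omega⟩
  have hj₁ : j₁ ≠ o := fun h => absurd (congrArg Fin.val h) (by simp [j₁, o])
  by_cases hall : ∀ j, j ≠ o → a j = a j₁
  · refine ⟨fun i => if i = o then a j₁ else b i, 1, fun i k hik => ?_, Or.inl rfl, fun i k x => ?_,
      fun h => absurd h hm1⟩
    · simp only at hik
      split_ifs at hik with hi hk hk
      · rw [hi, hk]
      · exact absurd hik ((hall k hk) ▸ hab k hk)
      · exact absurd hik.symm ((hall i hi) ▸ hab i hi)
      · by_contra hne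
        exact ((key i k hi hk hne).resolve_right fun h => h.2 ((hall i hi).trans (hall k hk).symm)).2 hik
    · refine diff_of_base C o (fun i => if i = o then a j₁ else b i) 1 (fun i => ?_) i k x
      by_cases hi : i = o
      · subst hi; simp
      · intro y; rw [hC i hi y, hall i hi]; simp [hi]
  · push Not at hall
    obtain ⟨j₂, hj₂, ha₂⟩ := hall
    have hjj : j₂ ≠ j₁ := fun h => ha₂ (by rw [h])
    have hb₂ : b j₂ = b j₁ := ((key j₂ j₁ hj₂ hj₁ hjj).resolve_left fun h => ha₂ h.1).1
    have hallb : ∀ j, j ≠ o → b j = b j₁ := by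
      intro j hj
      rcases eq_or_ne j j₁ with rfl | h1
      · rfl
      rcases key j j₁ hj hj₁ h1 with h | h
      · rcases eq_or_ne j j₂ with rfl | h2
        · exact hb₂
        rcases key j j₂ hj hj₂ h2 with h' | h'
        · exact absurd (h'.1.symm.trans h.1) ha₂
        · exact h'.1.trans hb₂
      · exact h.1
    refine ⟨fun i => if i = o then b j₁ else a i, -1, fun i k hik => ?_, Or.inr rfl, fun i k x => ?_,
      fun h => absurd h hm1⟩
    · simp only at hik
      split_ifs at hik with hi hk hk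
      · rw [hi, hk]
      · exact absurd hik.symm ((hallb k hk) ▸ hab k hk)
      · exact absurd hik ((hallb i hi) ▸ hab i hi)
      · by_contra hne
        exact ((key i k hi hk hne).resolve_left fun h => h.2 ((hallb i hi).trans (hallb k hk).symm)).2 hik
    · refine diff_of_base C o (fun i => if i = o then b j₁ else a i) (-1) (fun i => ?_) i k x
      by_cases hi : i = o
      · subst hi; simp
      · intro y; rw [hC i hi y, hallb i hi]; simp [hi]

/-- The bound, and the shape in case of equality. -/
theorem exists_exceptional (hm : 0 < m)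
    (hgram : ∀ i j, ∑ x, C i x * C j x = e + if i = j then 1 else 0)
    (hdeg : ∀ i, ∑ x, C i x * d x = 0) (hd : ∀ x, 0 < d x) (hmeet : ∀ x, ∃ i, C i x ≠ 0)
    (he : 0 ≤ e) :
    (Fintype.card ι : ℤ) ≤ m + e ∧ ((m : ℤ) + e ≤ Fintype.card ι →
      ∃ (ψ : Fin m → ι) (σ : ℤ) (c : ι → ℤ), Function.Injective ψ ∧ (σ = 1 ∨ σ = -1) ∧
        (∀ x, x ∉ Set.range ψ → c x = 1 ∨ c x = -1) ∧
        (∀ i, ∀ x, x ∉ Set.range ψ → C i x = c x) ∧
        ∀ i k, C i (ψ k) = if k = i then σ else 0) := by
  obtain ⟨ψ, σ, hψ, hσ, hC, hpos⟩ := exists_star C d hm hgram hdeg hd hmeet he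
  set o : Fin m := ⟨0, hm⟩
  set R : ι → ℤ := fun x => C o x - σ * (if x = ψ o then 1 else 0) with hR
  have hCR : ∀ i x, C i x = σ * (if x = ψ i then 1 else 0) + R x := fun i x => by
    have h := hC i o x
    simp only [hR]
    linarith
  -- the common value on the exceptional coordinates
  have hRψ : ∀ k, R (ψ k) = R (ψ o) := by
    intro k
    rcases eq_or_ne k o with rfl | hk
    · rfl
    have h : ∑ x, C o x * (C o x - C k x) = 1 := by
      simp only [mul_sub, Finset.sum_sub_distrib, hgram, ↓reduceIte, if_neg (Ne.symm hk)]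
      ring
    simp only [hC o k, mul_sub, Finset.sum_sub_distrib, mul_ite, mul_one, mul_zero,
      Finset.sum_ite_eq', Finset.mem_univ, if_true] at h
    rw [hCR o (ψ o), hCR o (ψ k), if_pos rfl, if_neg (fun h' => hk (hψ h'))] at h
    rcases hσ with rfl | rfl <;> linarith
  set r := R (ψ o) with hr
  set out := Finset.univ.filter fun x => x ∉ Set.range ψ with hout
  have hin : Finset.univ.filter (fun x => ¬ x ∉ Set.range ψ) = Finset.univ.image ψ := by
    ext x; simp [eq_comm]
  have hout0 : ∀ x ∈ out, R x ≠ 0 := by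
    intro x hx h0
    obtain ⟨i, hi⟩ := hmeet x
    rw [hCR, if_neg (fun h => (Finset.mem_filter.1 hx).2 ⟨i, h.symm⟩), h0] at hi
    simp at hi
  have hσσ : σ * σ = 1 := by rcases hσ with rfl | rfl <;> rfl
  have hnorm : e = 2 * σ * r + m * (r * r) + ∑ x ∈ out, R x * R x := by
    have h := hgram o o
    rw [if_pos rfl] at h
    have h1 : ∀ x, C o x * C o x = (if x = ψ o then σ * σ + 2 * σ * R x else 0) + R x * R x := by
      intro x; rw [hCR o x]; split_ifs <;> ring
    have h2 : ∑ x ∈ Finset.univ.image ψ, R x * R x = (m : ℤ) * (r * r) := by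
      rw [Finset.sum_image (fun _ _ _ _ h => hψ h),
        Finset.sum_congr rfl fun (k : Fin m) _ => show R (ψ k) * R (ψ k) = r * r by rw [hRψ k],
        Finset.sum_const, Finset.card_univ, Fintype.card_fin, nsmul_eq_mul]
    rw [Finset.sum_congr rfl fun x _ => h1 x, Finset.sum_add_distrib, Finset.sum_ite_eq',
      if_pos (Finset.mem_univ _), ← Finset.sum_filter_add_sum_filter_not Finset.univ
        (fun x => x ∉ Set.range ψ) fun x => R x * R x, hin, h2, hσσ] at h
    linarith
  have hf : 0 ≤ 2 * σ * r + m * (r * r) := by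
    rcases eq_or_ne m 1 with h1 | h1
    · have h2 := hpos h1
      rw [hCR, if_pos rfl, ← hr] at h2
      have h3 : 0 ≤ σ * r := by nlinarith
      nlinarith
    · have hm2 : (2 : ℤ) ≤ m := by omega
      have h3 : 0 ≤ (σ * r) * (σ * r + 1) := by
        rcases le_or_gt 0 (σ * r) with h | h
        · exact mul_nonneg h (by omega)
        · exact mul_nonneg_of_nonpos_of_nonpos h.le (by omega)
      have h4 : r * r = (σ * r) * (σ * r) := by
        calc r * r = (σ * σ) * (r * r) := by rw [hσσ, one_mul]
          _ = _ := by ring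
      nlinarith
  have hcard : (Fintype.card ι : ℤ) = m + out.card := by
    have h := Finset.card_filter_add_card_filter_not (s := Finset.univ)
      (fun x => x ∉ Set.range ψ)
    rw [hin, Finset.card_image_of_injective _ hψ, Finset.card_univ, Finset.card_univ,
      Fintype.card_fin, ← hout] at h
    omega
  have hsq : ∀ x ∈ out, (1 : ℤ) ≤ R x * R x := fun x hx => by
    have := mul_self_pos.2 (hout0 x hx); omega
  have hsum : (out.card : ℤ) ≤ ∑ x ∈ out, R x * R x := by
    simpa using Finset.sum_le_sum hsq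
  refine ⟨by linarith, fun hge => ?_⟩
  have hf0 : 2 * σ * r + m * (r * r) = 0 := by linarith
  have hunit : ∀ x ∈ out, R x = 1 ∨ R x = -1 := by
    have heq : ∑ x ∈ out, (1 : ℤ) = ∑ x ∈ out, R x * R x := by
      rw [Finset.sum_const, nsmul_eq_mul, mul_one]; linarith
    intro x hx
    have := ((Finset.sum_eq_sum_iff_of_le hsq).1 heq x hx).symm
    exact mul_self_eq_one_iff.1 this
  have hRout : ∀ i x, x ∉ Set.range ψ → C i x = R x := fun i x hx => by
    rw [hCR, if_neg fun h => hx ⟨i, h.symm⟩, mul_zero, zero_add]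
  by_cases hr0 : r = 0
  · exact ⟨ψ, σ, R, hψ, hσ, fun x hx => hunit x (Finset.mem_filter.2 ⟨Finset.mem_univ _, hx⟩),
      hRout, fun i k => by rw [hCR, hRψ, hr0, add_zero, mul_ite, mul_one, mul_zero]; simp [hψ.eq_iff]⟩
  -- two exceptional coordinates, taken in the other order
  have hmr : (m : ℤ) * r = -2 * σ := by
    have : r * (2 * σ + m * r) = 0 := by linarith
    linarith [(mul_eq_zero.1 this).resolve_left hr0]
  have hm2 : m = 2 := by
    rcases eq_or_ne m 1 with h1 | h1
    · exfalso
      have h2 := hpos h1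
      rw [hCR, if_pos rfl, ← hr] at h2
      subst h1
      push_cast at hmr
      nlinarith
    · have : m ∣ 2 := by
        have h5 : (m : ℤ) ∣ 2 := ⟨-(σ * r), by
          calc (2 : ℤ) = 2 * (σ * σ) := by rw [hσσ, mul_one]
            _ = -(σ * ((m : ℤ) * r)) := by rw [hmr]; ring
            _ = _ := by ring⟩
        exact_mod_cast h5
      exact ((Nat.dvd_prime Nat.prime_two).1 this).resolve_left h1
  subst hm2
  have hr1 : r = -σ := by push_cast at hmr; linarith
  refine ⟨fun i => ψ i.rev, -σ, R, fun i k h => Fin.rev_injective (hψ h),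
    by rcases hσ with rfl | rfl <;> simp, fun x hx => hunit x (Finset.mem_filter.2
      ⟨Finset.mem_univ _, fun ⟨i, hi⟩ => hx ⟨i.rev, by simpa using hi⟩⟩),
    fun i x hx => hRout i x fun ⟨k, hk⟩ => hx ⟨k.rev, by simpa using hk⟩, fun i k => ?_⟩
  beta_reduce
  rw [hCR, hRψ, hr1, mul_ite, mul_one, mul_zero]
  simp only [hψ.eq_iff]
  fin_cases i <;> fin_cases k <;> simp [Fin.rev]

end CfsgLib.CyclicBlock
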