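import Cfsg.Agent.Lib.CyclicBlock.Induce
import Cfsg.Agent.Lib.CyclicBlock.Lattice
import Cfsg.Agent.Lib.Blocks.RankOrth
import Cfsg.Agent.Lib.Blocks.PPart
import Cfsg.Agent.Lib.BlockCover.Regular

/-!
# The isometry of the local differences

With `e` the inertial index and `m = (|D| - 1) / e`, a block with cyclic defect group has rank
`k - m`, and this is at most `e`. When it is `e`, all heights are zero and the signed relation
between the exceptional and the other characters holds.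
-/

set_option autoImplicit false
set_option linter.unusedSectionVars false
set_option linter.style.haveILetI false
set_option maxHeartbeats 1000000

namespace CfsgLib.CyclicBlock.Data

open Cfsg CfsgLib.BrauerPairs CfsgLib.Characters CfsgLib.Blocks CfsgLib.Contribution
open scoped ComplexConjugate Classical

universe u

variable {G : Type u} [Group G] [Fintype G] {p : ℕ} [hp : Fact p.Prime] {M : Ideal AlgInt}
  [M.IsMaximal] {hM : IsPModular p M} {B : Set (IrrCharacter G)} (L : Data hM B) [Fintype L.K]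

/-- The inertial index, read at the subgroup of order `p`. -/
noncomputable def inertia : ℕ := L.K.relIndex L.T₁

theorem inertia_eq : L.inertia = (cz L.D).relIndex L.T := L.relIndex_T₁

theorem K_normal : (L.K.subgroupOf L.T₁).Normal :=
  Subgroup.normal_subgroupOf_of_le_normalizer fun _ hg => L.normK hg.1

theorem inertia_pos : 0 < L.inertia :=
  Nat.pos_of_ne_zero (Subgroup.FiniteIndex.index_ne_zero (H := L.K.subgroupOf L.T₁))

theorem inertia_dvd : L.inertia ∣ p - 1 := by
  have hle : L.T₁ ≤ Subgroup.normalizer (L.Z : Set G) := fun g hg => hg.1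
  set f : L.T₁ →* MulAut L.Z := L.Z.normalizerMonoidHom.comp (Subgroup.inclusion hle) with hf
  have hker : f.ker = L.K.subgroupOf L.T₁ := by
    rw [hf, ← MonoidHom.comap_ker, Subgroup.normalizerMonoidHom_ker]
    ext x
    simp only [Subgroup.mem_comap, Subgroup.mem_subgroupOf, Subgroup.coe_inclusion]
    rfl
  have hcyc : IsCyclic L.Z := isCyclic_of_prime_card L.hZc
  rw [show L.inertia = f.ker.index by rw [hker]; rfl, Subgroup.index_ker]
  refine (Subgroup.card_subgroup_dvd_card _).trans ?_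
  rw [IsCyclic.card_mulAut, L.hZc, Nat.totient_prime hM.1]

theorem card_T₁ : Fintype.card L.T₁ = L.inertia * Nat.card L.K := by
  rw [← Nat.card_eq_fintype_card, inertia, ← Subgroup.relIndex_bot_left, ← Subgroup.relIndex_bot_left,
    mul_comm, Subgroup.relIndex_mul_relIndex _ _ _ bot_le L.K_le_T₁]

/-- Representatives of the orbits of the stabiliser on the local block. -/
structure Reps where
  m : ℕ
  ξ₀ : IrrCharacter L.K
  ξ : Fin m → IrrCharacter L.K
  mem₀ : ξ₀ ∈ L.blk
  mem : ∀ i, ξ i ∈ L.blk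
  ne : ∀ i, ξ i ≠ ξ₀
  fixed : ∀ n, L.act n ξ₀ = ξ₀
  act_eq : ∀ n i j, L.act n (ξ i) = ξ j ↔ i = j ∧ (n : G) ∈ L.K
  cover : ∀ η ∈ L.blk, η = ξ₀ ∨ ∃ n i, η = L.act n (ξ i)
  card_D : Nat.card L.D = m * L.inertia + 1

theorem exists_reps : Nonempty (Reps L) := by
  obtain ⟨ξ₀, hξ₀, hfix, huniq⟩ := L.exists_fixed
  set S := { η : IrrCharacter L.K // η ∈ L.blk ∧ η ≠ ξ₀ }
  let st : Setoid S := ⟨fun a b => ∃ n, L.act n a.1 = b.1, fun a => ⟨1, L.act_of_mem_K 1 L.K.one_mem _⟩,
    fun {a b} ⟨n, hn⟩ => ⟨n⁻¹, by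
      rw [← hn, ← L.act_mul, inv_mul_cancel, L.act_of_mem_K 1 L.K.one_mem]⟩,
    fun {a b c} ⟨n, hn⟩ ⟨k, hk⟩ => ⟨k * n, by rw [L.act_mul, hn, hk]⟩⟩
  set eq := Fintype.equivFin (Quotient st)
  set ξ : Fin (Fintype.card (Quotient st)) → S := fun i => (eq.symm i).out
  have hactne : ∀ (n : L.T₁) (a : S), L.act n a.1 ≠ ξ₀ := fun n a h => a.2.2 (by
    rw [← L.act_of_mem_K 1 L.K.one_mem a.1, ← inv_mul_cancel n, L.act_mul, h, hfix])
  have hact_eq : ∀ n i j, L.act n (ξ i).1 = (ξ j).1 ↔ i = j ∧ (n : G) ∈ L.K := by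
    intro n i j
    refine ⟨fun h => ?_, fun ⟨hij, hn⟩ => by rw [hij, L.act_of_mem_K n hn]⟩
    obtain rfl : i = j := by
      have := Quotient.sound (s := st) (a := ξ i) (b := ξ j) ⟨n, h⟩
      simpa [ξ] using this
    exact ⟨rfl, by_contra fun hn => (ξ i).2.2 (huniq n hn _ (ξ i).2.1 h)⟩
  set K' := L.K.subgroupOf L.T₁
  have hbij : Function.Bijective (fun x : Fin (Fintype.card (Quotient st)) × (L.T₁ ⧸ K') =>
      (⟨L.act x.2.out (ξ x.1).1, L.act_mem _ (ξ x.1).2.1, hactne _ _⟩ : S)) := by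
    constructor
    · rintro ⟨i, a⟩ ⟨j, b⟩ h
      have h' : L.act a.out (ξ i).1 = L.act b.out (ξ j).1 := congrArg Subtype.val h
      have h2 : L.act (b.out⁻¹ * a.out) (ξ i).1 = (ξ j).1 := by
        rw [L.act_mul, h', ← L.act_mul, inv_mul_cancel, L.act_of_mem_K 1 L.K.one_mem]
      obtain ⟨rfl, hk⟩ := (hact_eq _ i j).1 h2
      refine Prod.ext rfl (Eq.symm ?_)
      rw [← b.out_eq', ← a.out_eq', QuotientGroup.eq]
      exact hk
    · intro η
      obtain ⟨n, hn⟩ := Quotient.exact (s := st) (Quotient.out_eq (Quotient.mk st η))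
      refine ⟨(eq (Quotient.mk st η), (n : L.T₁ ⧸ K')), Subtype.ext ?_⟩
      obtain ⟨k, hk⟩ := QuotientGroup.mk_out_eq_mul K' n
      show L.act _ (ξ _).1 = η.1
      simp only [hk, ξ, Equiv.symm_apply_apply]
      rw [L.act_mul, L.act_of_mem_K (k : L.T₁) k.2, hn]
  have hcardS : Nat.card S + 1 = Nat.card L.D := by
    rw [← L.blk_rank_and_card.2, Nat.card_eq_fintype_card,
      show Fintype.card S = ((members L.blk).erase ξ₀).card by
        rw [Fintype.card_subtype]; exact congrArg _ (by ext; simp [members, and_comm]),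
      Finset.card_erase_add_one (mem_members.2 hξ₀), card_members]
  refine ⟨⟨_, ξ₀, fun i => (ξ i).1, hξ₀, fun i => (ξ i).2.1, fun i => (ξ i).2.2, hfix, hact_eq,
    fun η hη => ?_, ?_⟩⟩
  · by_cases h : η = ξ₀
    · exact Or.inl h
    · obtain ⟨⟨i, a⟩, hx⟩ := hbij.2 ⟨η, hη, h⟩
      exact Or.inr ⟨a.out, i, (congrArg Subtype.val hx).symm⟩
  · rw [← hcardS, ← Nat.card_eq_of_bijective _ hbij, Nat.card_prod, Nat.card_fin]
    rfl

variable {L} (R : Reps L)

namespace Reps

/-- The coefficient of `χ` in the `i`th induced difference. -/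
noncomputable def C (i : Fin R.m) (χ : IrrCharacter G) : ℂ :=
  L.mult χ R.ξ₀ - L.mult χ (R.ξ i)

/-- The weights of the `i`th difference. -/
noncomputable def w (i : Fin R.m) : IrrCharacter L.K → ℂ :=
  fun η => (if η = R.ξ₀ then 1 else 0) - if η = R.ξ i then 1 else 0

theorem sum_w (i : Fin R.m) : ∑ η ∈ members L.blk, R.w i η = 0 := by
  simp [w, Finset.sum_sub_distrib, mem_members.2 R.mem₀, mem_members.2 (R.mem i)]

theorem sum_conj_w_mul (i : Fin R.m) (f : IrrCharacter L.K → ℂ) :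
    ∑ η ∈ members L.blk, conj (R.w i η) * f η = f R.ξ₀ - f (R.ξ i) := by
  simp [w, map_sub, apply_ite conj, sub_mul, Finset.sum_sub_distrib, ite_mul,
    mem_members.2 R.mem₀, mem_members.2 (R.mem i)]

theorem inner_theta (i : Fin R.m) (χ : IrrCharacter G) :
    classInner (χ : G → ℂ) (L.theta (R.w i)) = R.C i χ := by
  rw [L.theta_inner_irr, R.sum_conj_w_mul]; rfl

theorem exists_int (i : Fin R.m) (χ : IrrCharacter G) : ∃ z : ℤ, R.C i χ = z := by
  obtain ⟨a, ha⟩ := NormalRes.mult_nat L.K (irr_isCharacter χ) R.ξ₀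
  obtain ⟨b, hb⟩ := NormalRes.mult_nat L.K (irr_isCharacter χ) (R.ξ i)
  exact ⟨(a : ℤ) - b, by rw [C, show L.mult χ R.ξ₀ = a from ha, show L.mult χ (R.ξ i) = b from hb]; push_cast; rfl⟩

/-- The coefficient as an integer. -/
noncomputable def c (i : Fin R.m) (χ : IrrCharacter G) : ℤ := (R.exists_int i χ).choose

theorem c_cast (i : Fin R.m) (χ : IrrCharacter G) : (R.c i χ : ℂ) = R.C i χ :=
  (R.exists_int i χ).choose_spec.symm

theorem C_eq_zero (i : Fin R.m) {χ : IrrCharacter G} (hχ : χ ∉ B) : R.C i χ = 0 := by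
  rw [C, L.mult_const hχ R.mem₀ (R.mem i), sub_self]

theorem theta_eq (i : Fin R.m) (g : G) :
    L.theta (R.w i) g = ∑ χ ∈ members B, (R.c i χ : ℂ) * (χ : G → ℂ) g := by
  have h := congrFun (classFunction_eq_sum (φ := L.theta (R.w i))
    (Induction.isClassFunction_indFun _ _)) g
  rw [h, Finset.sum_apply]
  refine (Finset.sum_subset (Finset.subset_univ (members B)) fun χ _ hχ => ?_).symm.trans
    (Finset.sum_congr rfl fun χ _ => ?_)
  · rw [Pi.smul_apply, classInner_conj_symm, R.inner_theta,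
      R.C_eq_zero i fun h => hχ (mem_members.2 h), map_zero, zero_smul]
  · rw [Pi.smul_apply, smul_eq_mul, classInner_conj_symm, R.inner_theta, ← R.c_cast, map_intCast]

theorem theta_regular (i : Fin R.m) {g : G} (hg : ¬ p ∣ orderOf g) :
    ∑ χ ∈ members B, (R.c i χ : ℂ) * (χ : G → ℂ) g = 0 := by
  rw [← R.theta_eq, theta, Induction.indFun_apply, Finset.sum_eq_zero fun x _ => ?_, mul_zero]
  by_cases hx : x⁻¹ * g * x ∈ L.K
  · rw [Induction.extendByZero_mem L.K _ hx]
    refine L.psi_regular (R.sum_w i) ?_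
    rwa [← Subgroup.orderOf_coe, show ((⟨x⁻¹ * g * x, hx⟩ : L.K) : G) = MulAut.conj x⁻¹ g by simp,
      MulEquiv.orderOf_eq]
  · exact Induction.extendByZero_notMem L.K _ hx

theorem gram (i j : Fin R.m) :
    ∑ χ ∈ members B, R.c i χ * R.c j χ = (L.inertia : ℤ) + if i = j then 1 else 0 := by
  refine Int.cast_injective (α := ℂ) ?_
  push_cast
  have h1 : classInner (L.theta (R.w i)) (L.theta (R.w j)) =
      ∑ χ ∈ members B, (R.c i χ : ℂ) * (R.c j χ : ℂ) := by
    have hexp : classInner (L.theta (R.w i)) (L.theta (R.w j)) =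
        ∑ χ ∈ members B, (R.c i χ : ℂ) * classInner (χ : G → ℂ) (L.theta (R.w j)) := by
      simp only [classInner, R.theta_eq i, Finset.sum_mul, Finset.mul_sum]
      rw [Finset.sum_comm]
      exact Finset.sum_congr rfl fun χ _ => Finset.sum_congr rfl fun g _ => by ring
    rw [hexp]
    exact Finset.sum_congr rfl fun χ _ => by rw [R.inner_theta, R.c_cast j]
  rw [← h1, L.theta_inner (R.sum_w i) (R.sum_w j)]
  have hterm : ∀ n : L.T₁, ∑ η ∈ members L.blk, R.w i η * conj (R.w j (L.act n η)) =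
      1 + if i = j ∧ (n : G) ∈ L.K then 1 else 0 := by
    intro n
    have hne : L.act n (R.ξ i) ≠ R.ξ₀ := fun h => R.ne i (by
      rw [← L.act_of_mem_K 1 L.K.one_mem (R.ξ i), ← inv_mul_cancel n, L.act_mul, h, R.fixed])
    have h2 := R.sum_conj_w_mul i fun η => conj (R.w j (L.act n η))
    have hreal : ∀ η, conj (R.w i η) = R.w i η := fun η => by simp [w, apply_ite conj]
    simp only [hreal] at h2
    rw [h2, R.fixed]
    simp only [w, ↓reduceIte, if_neg hne, if_neg (Ne.symm (R.ne j)), ← R.act_eq n i j, map_sub,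
      apply_ite conj, map_one, map_zero]
    ring
  have hK : ∑ n : L.T₁, (if i = j ∧ (n : G) ∈ L.K then (1 : ℂ) else 0) =
      if i = j then (Nat.card L.K : ℂ) else 0 := by
    by_cases hij : i = j
    · simp only [hij, true_and, if_true]
      rw [Finset.sum_boole, ← Fintype.card_subtype, Fintype.card_eq_nat_card]
      exact congrArg _ (Nat.card_congr (Subgroup.subgroupOfEquivOfLe L.K_le_T₁).toEquiv)
    · simp [hij]
  rw [Finset.sum_congr rfl fun n _ => hterm n, Finset.sum_add_distrib, hK, Finset.sum_const,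
    Finset.card_univ, nsmul_eq_mul, mul_one, L.card_T₁]
  have h0 : (Nat.card L.K : ℂ) ≠ 0 := Nat.cast_ne_zero.2 Nat.card_pos.ne'
  push_cast
  split_ifs <;> field_simp
  simp

theorem mult_eq_of_orth {χ : IrrCharacter G} (hχ : ∀ i, R.C i χ = 0) {η : IrrCharacter L.K}
    (hη : η ∈ L.blk) : L.mult χ η = L.mult χ R.ξ₀ := by
  rcases R.cover η hη with rfl | ⟨n, i, rfl⟩
  · rfl
  · rw [act, L.mult_act χ (n : G) (L.normK n.2.1) (R.ξ i)]
    exact (sub_eq_zero.1 (hχ i)).symm

/-- A combination orthogonal to all the differences vanishes at the singular elements. -/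
theorem vanish_of_orth (a : IrrCharacter G → ℂ)
    (ha : ∀ i, ∑ χ ∈ members B, a χ * R.C i χ = 0) {g : G} (hg : p ∣ orderOf g) :
    ∑ χ ∈ members B, a χ * (χ : G → ℂ) g = 0 := by
  refine L.eq_zero_of_singular a ?_ hg
  have h : ∀ η ∈ L.blk, ∑ χ ∈ members B, a χ * L.mult χ η =
      ∑ χ ∈ members B, a χ * L.mult χ R.ξ₀ := by
    intro η hη
    rcases R.cover η hη with rfl | ⟨n, i, rfl⟩
    · rfl
    · have h1 := ha i
      simp only [C, mul_sub, Finset.sum_sub_distrib, sub_eq_zero] at h1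
      rw [h1]
      exact Finset.sum_congr rfl fun χ _ => by
        rw [act, L.mult_act χ (n : G) (L.normK n.2.1) (R.ξ i)]
  intro ξ hξ η hη
  rw [h ξ hξ, h η hη]

/-- Every member meets a difference. -/
theorem meets {χ : IrrCharacter G} (hχ : χ ∈ B) : ∃ i, R.c i χ ≠ 0 := by
  by_contra hn
  push Not at hn
  have hC : ∀ i, R.C i χ = 0 := fun i => by rw [← R.c_cast, hn i, Int.cast_zero]
  have hvan : ∀ g : G, p ∣ orderOf g → (χ : G → ℂ) g = 0 := by
    intro g hg
    have h := R.vanish_of_orth (fun ψ => if ψ = χ then 1 else 0) (fun i => by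
      simp [Finset.sum_ite_eq', hC i]) hg
    simpa [Finset.sum_ite_eq', mem_members.2 hχ] using h
  letI : Fintype (ConjClasses G) := Fintype.ofFinite _
  obtain ⟨η, hη, hη0, -⟩ := Contribution.exists_height_zero hM L.hB
  obtain rfl : η = χ := by
    by_contra hne
    refine tfac_unit hM L.hB hη hη0 hχ ?_
    have h0 : contrib p (blockDefect p B) η χ = 0 := by
      have h1 : classInner (η : G → ℂ) (χ : G → ℂ) = 0 :=
        classInner_irr_ne η.2 χ.2 fun h' => hne (Subtype.ext h')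
      rw [classInner, mul_eq_zero] at h1
      have h2 := h1.resolve_left (inv_ne_zero (Nat.cast_ne_zero.2 Nat.card_pos.ne'))
      rw [contrib, Contribution.regSum, ← mul_zero ((p : ℂ) ^ blockDefect p B * (Nat.card G : ℂ)⁻¹), ← h2]
      refine congrArg _ ?_
      exact Finset.sum_subset (Finset.subset_univ _) fun g _ hg => by
        rw [hvan g (not_not.1 fun h => hg (Finset.mem_filter.2 ⟨Finset.mem_univ _, h⟩)), map_zero,
          mul_zero]
    rw [contrib_eq hM L.hB η hχ, mul_eq_zero] at h0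
    rcases h0 with h0 | h0
    · exfalso
      have h1 := apply_one_red (p := p) hχ
      rw [h0, mul_zero] at h1
      exact irr_one_ne_zero χ h1
    · rw [h0]; exact memLocalIdeal_zero hM
  have hnd := RankOrth.not_dvd_cofDegree_of_vanish η hvan
  have hd : (charDegree (η : G → ℂ)).factorization p = (Nat.card G).factorization p :=
    not_not.1 fun h => hnd (DefectZeroCriterion.dvd_cofDegree hM.1 η h)
  have hh := (BlockCover.blockHeight_eq_zero_iff hM.1 hη).2 hη0
  rw [blockHeight, hd] at hh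
  have hdef : blockDefect p B = 0 := hh
  have := L.one_le_card_D
  rw [BlockCover.natCard_defect hM L.hB L.hD, hdef, pow_zero] at this
  omega

theorem m_pos : 0 < R.m := by
  have h := R.card_D
  have := L.one_le_card_D
  rcases Nat.eq_zero_or_pos R.m with h0 | h0
  · rw [h0, zero_mul] at h; omega
  · exact h0

theorem m_eq : R.m = (Nat.card L.D - 1) / L.inertia := by
  rw [R.card_D, Nat.add_sub_cancel, Nat.mul_div_cancel _ L.inertia_pos]

/-- The rank is the number of members less the number of orbits. -/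
theorem blockRank_add : blockRank p B + R.m = Nat.card B := by
  set v : B → G → ℂ := fun χ => pRegularPart p ((χ : IrrCharacter G) : G → ℂ)
  set Φ := Fintype.linearCombination ℂ v with hΦ
  have hrange : blockRank p B = Module.finrank ℂ (LinearMap.range Φ) := by
    rw [hΦ, Fintype.range_linearCombination, blockRank, Set.image_eq_range]
  set Ψ := Fintype.linearCombination ℂ (fun i : Fin R.m => fun χ : B => (R.c i χ : ℂ)) with hΨ
  have hgramC : ∀ (a : Fin R.m → ℂ) j, ∑ χ : B, Ψ a χ * (R.c j χ : ℂ) =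
      a j + (L.inertia : ℂ) * ∑ i, a i := by
    intro a j
    simp only [hΨ, Fintype.linearCombination_apply, Finset.sum_apply, Pi.smul_apply, smul_eq_mul,
      Finset.sum_mul]
    rw [Finset.sum_comm]
    have h : ∀ i, ∑ χ : B, a i * (R.c i χ : ℂ) * (R.c j χ : ℂ) =
        (L.inertia : ℂ) * a i + if i = j then a i else 0 := by
      intro i
      have hg := congrArg (fun z : ℤ => (z : ℂ)) (R.gram i j)
      push_cast at hg
      rw [Finset.sum_congr rfl fun χ _ => mul_assoc _ _ _, ← Finset.mul_sum,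
        ← Finset.sum_subtype (members B) (fun χ => mem_members)
          (fun χ : IrrCharacter G => (R.c i χ : ℂ) * (R.c j χ : ℂ)), hg]
      split_ifs <;> ring
    rw [Finset.sum_congr rfl fun i _ => h i, Finset.sum_add_distrib, Finset.sum_ite_eq',
      if_pos (Finset.mem_univ _), ← Finset.mul_sum]
    ring
  have hne : (L.inertia : ℂ) * R.m + 1 ≠ 0 := by
    exact_mod_cast Nat.succ_ne_zero (L.inertia * R.m)
  have hinj : Function.Injective Ψ := by
    rw [← LinearMap.ker_eq_bot, LinearMap.ker_eq_bot']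
    intro a ha
    have h : ∀ j, a j = -((L.inertia : ℂ) * ∑ i, a i) := fun j => by
      have h1 := hgramC a j
      simp only [ha, Pi.zero_apply, zero_mul, Finset.sum_const_zero] at h1
      linear_combination -h1
    have hsum : ∑ i, a i = 0 := by
      have h1 : ∑ i, a i = (R.m : ℂ) * -((L.inertia : ℂ) * ∑ i, a i) := by
        conv_lhs => rw [Finset.sum_congr rfl fun i _ => h i, Finset.sum_const, Finset.card_univ,
          Fintype.card_fin, nsmul_eq_mul]
      exact (mul_eq_zero.1 (show ((L.inertia : ℂ) * R.m + 1) * ∑ i, a i = 0 by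
        linear_combination h1)).resolve_left hne
    funext j
    rw [h j, hsum, mul_zero, neg_zero]; rfl
  have hker : LinearMap.ker Φ = LinearMap.range Ψ := by
    refine le_antisymm (fun x hx => ?_) ?_
    · set b : Fin R.m → ℂ := fun j => ∑ χ : B, x χ * (R.c j χ : ℂ)
      set t := (L.inertia : ℂ) * (∑ i, b i) / ((L.inertia : ℂ) * R.m + 1)
      set a : Fin R.m → ℂ := fun j => b j - t
      have horth : ∀ j, ∑ χ : B, (x χ - Ψ a χ) * (R.c j χ : ℂ) = 0 := by
        intro j
        simp only [sub_mul, Finset.sum_sub_distrib, hgramC a j]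
        simp only [a, Finset.sum_sub_distrib, Finset.sum_const, Finset.card_univ, Fintype.card_fin,
          nsmul_eq_mul]
        show b j - _ = 0
        have ht : t * ((L.inertia : ℂ) * R.m + 1) = (L.inertia : ℂ) * ∑ i, b i :=
          div_mul_cancel₀ _ hne
        linear_combination ht
      set y : IrrCharacter G → ℂ := fun χ => if h : χ ∈ B then x ⟨χ, h⟩ - Ψ a ⟨χ, h⟩ else 0
      have hy : ∀ f : IrrCharacter G → ℂ,
          ∑ χ ∈ members B, y χ * f χ = ∑ χ : B, (x χ - Ψ a χ) * f χ := by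
        intro f
        rw [Finset.sum_subtype (members B) (fun χ => mem_members) fun χ => y χ * f χ]
        exact Finset.sum_congr rfl fun χ _ => by simp only [y, dif_pos χ.2]
      have hΨreg : ∀ {g : G}, ¬ p ∣ orderOf g →
          ∑ χ : B, Ψ a χ * ((χ : IrrCharacter G) : G → ℂ) g = 0 := by
        intro g hg
        simp only [hΨ, Fintype.linearCombination_apply, Finset.sum_apply, Pi.smul_apply,
          smul_eq_mul, Finset.sum_mul]
        rw [Finset.sum_comm]
        refine Finset.sum_eq_zero fun i _ => ?_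
        rw [Finset.sum_congr rfl fun χ _ => mul_assoc _ _ _, ← Finset.mul_sum,
          ← Finset.sum_subtype (members B) (fun χ => mem_members)
            (fun χ : IrrCharacter G => (R.c i χ : ℂ) * (χ : G → ℂ) g), R.theta_regular i hg,
          mul_zero]
      have hxreg : ∀ {g : G}, ¬ p ∣ orderOf g →
          ∑ χ : B, x χ * ((χ : IrrCharacter G) : G → ℂ) g = 0 := by
        intro g hg
        have h := congrFun (LinearMap.mem_ker.1 hx) g
        simpa [hΦ, v, Fintype.linearCombination_apply, Finset.sum_apply, pRegularPart, IsPRegular,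
          hg] using h
      have hzero : ∀ g : G, ∑ χ ∈ members B, y χ * (χ : G → ℂ) g = 0 := by
        intro g
        by_cases hg : p ∣ orderOf g
        · refine R.vanish_of_orth y (fun i => ?_) hg
          rw [hy, ← horth i]
          exact Finset.sum_congr rfl fun χ _ => by rw [R.c_cast]
        · rw [hy fun χ => (χ : G → ℂ) g]
          simp only [sub_mul, Finset.sum_sub_distrib, hxreg hg, hΨreg hg, sub_zero]
      refine LinearMap.mem_range.2 ⟨a, funext fun χ => ?_⟩
      have h0 : classInner (fun g => ∑ ψ ∈ members B, y ψ * (ψ : G → ℂ) g)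
          ((χ : IrrCharacter G) : G → ℂ) = y χ := by
        have h1 : classInner (fun g => ∑ ψ ∈ members B, y ψ * (ψ : G → ℂ) g)
            ((χ : IrrCharacter G) : G → ℂ) =
            ∑ ψ ∈ members B, y ψ * classInner (ψ : G → ℂ) ((χ : IrrCharacter G) : G → ℂ) := by
          simp only [classInner, Finset.sum_mul, Finset.mul_sum]
          rw [Finset.sum_comm]
          exact Finset.sum_congr rfl fun ψ _ => Finset.sum_congr rfl fun g _ => by ring
        rw [h1, Finset.sum_eq_single (χ : IrrCharacter G)]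
        · rw [classInner_irr_self (χ : IrrCharacter G).2, mul_one]
        · intro ψ _ hne'
          rw [classInner_irr_ne ψ.2 (χ : IrrCharacter G).2 fun h' => hne' (Subtype.ext h'), mul_zero]
        · exact fun h => absurd (mem_members.2 χ.2) h
      simp only [hzero, classInner, zero_mul, Finset.sum_const_zero, mul_zero, y, dif_pos χ.2] at h0
      linear_combination h0
    · rintro _ ⟨a, rfl⟩
      refine LinearMap.mem_ker.2 (funext fun g => ?_)
      simp only [hΦ, hΨ, v, Fintype.linearCombination_apply, Finset.sum_apply, Pi.smul_apply,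
        smul_eq_mul, Finset.sum_mul, Pi.zero_apply]
      rw [Finset.sum_comm]
      refine Finset.sum_eq_zero fun i _ => ?_
      by_cases hg : p ∣ orderOf g
      · exact Finset.sum_eq_zero fun χ _ => by simp [pRegularPart, IsPRegular, hg]
      · have hreg : ∀ χ : IrrCharacter G, pRegularPart p (χ : G → ℂ) g = (χ : G → ℂ) g := fun χ => by
          simp [pRegularPart, IsPRegular, hg]
        simp only [hreg]
        rw [Finset.sum_congr rfl fun χ _ => mul_assoc _ _ _, ← Finset.mul_sum,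
          ← Finset.sum_subtype (members B) (fun χ => mem_members)
            (fun χ : IrrCharacter G => (R.c i χ : ℂ) * (χ : G → ℂ) g), R.theta_regular i hg,
          mul_zero]
  have h := LinearMap.finrank_range_add_finrank_ker Φ
  rw [hker, ← hrange, LinearMap.finrank_range_of_inj hinj, Module.finrank_fin_fun,
    Module.finrank_fintype_fun_eq_card, ← Nat.card_eq_fintype_card] at h
  exact h

theorem lattice :
    ((members B).card : ℤ) ≤ R.m + L.inertia ∧ ((R.m : ℤ) + L.inertia ≤ (members B).card →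
      ∃ (ψ : Fin R.m → { χ // χ ∈ members B }) (σ : ℤ) (δ : { χ // χ ∈ members B } → ℤ),
        Function.Injective ψ ∧ (σ = 1 ∨ σ = -1) ∧
        (∀ x, x ∉ Set.range ψ → δ x = 1 ∨ δ x = -1) ∧
        (∀ i, ∀ x, x ∉ Set.range ψ → R.c i x.1 = δ x) ∧
        ∀ i k, R.c i (ψ k).1 = if k = i then σ else 0) := by
  have h := exists_exceptional (ι := { χ // χ ∈ members B }) (fun i x => R.c i x.1)
    (fun x => (charDegree (x.1 : G → ℂ) : ℤ)) R.m_pos (fun i j => ?_) (fun i => ?_) (fun x => ?_)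
    (fun x => R.meets (mem_members.1 x.2)) (Int.natCast_nonneg L.inertia)
  · rw [Fintype.card_coe] at h
    exact h
  · rw [← R.gram i j]
    exact Finset.sum_coe_sort (members B) (fun χ => R.c i χ * R.c j χ)
  · refine Int.cast_injective (α := ℂ) ?_
    push_cast
    rw [Finset.sum_coe_sort (members B) (fun χ => (R.c i χ : ℂ) * (charDegree (χ : G → ℂ) : ℂ)),
      ← R.theta_regular i (g := 1) (by rw [orderOf_one]; exact hM.1.not_dvd_one)]
    exact Finset.sum_congr rfl fun χ _ => by rw [CharCorr.irr_one_eq_charDegree]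
  · exact_mod_cast (ClassCount.degree_eq x.1).2.2

end Reps

theorem blockRank_le_inertia (L : Data hM B) [Fintype L.K] : blockRank p B ≤ L.inertia := by
  obtain ⟨R⟩ := L.exists_reps
  have h1 := R.blockRank_add
  have h2 := R.lattice.1
  rw [← card_members] at h2
  omega

/-- A combination of members of `B` vanishing at the singular elements has degree divisible by
the order of a Sylow subgroup. -/
theorem dvd_apply_one (a : IrrCharacter G → ℤ) (S : Finset (IrrCharacter G))
    (h : ∀ g : G, p ∣ orderOf g → ∑ χ ∈ S, (a χ : ℂ) * (χ : G → ℂ) g = 0) :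
    ((p : ℤ) ^ (Nat.card G).factorization p) ∣ ∑ χ ∈ S, a χ * (charDegree (χ : G → ℂ) : ℤ) := by
  let P : Sylow p G := default
  choose m hm using fun χ : IrrCharacter G => ClassCount.exists_mult χ (P : Subgroup G)
  have hsum : ∑ t : (P : Subgroup G), ∑ χ ∈ S, (a χ : ℂ) * (χ : G → ℂ) ((t : G)⁻¹) =
      ∑ χ ∈ S, (a χ : ℂ) * (charDegree (χ : G → ℂ) : ℂ) := by
    rw [Finset.sum_eq_single 1]
    · exact Finset.sum_congr rfl fun χ _ => by simp [(ClassCount.degree_eq χ).1]
    · intro x _ hx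
      refine h _ ?_
      obtain ⟨j, hj⟩ := IsPGroup.iff_orderOf.1 P.isPGroup' x
      rw [orderOf_inv, Subgroup.orderOf_coe, hj]
      refine dvd_pow_self p ?_
      rintro rfl
      exact hx (orderOf_eq_one_iff.1 (by rw [hj, pow_zero]))
    · simp
  rw [Finset.sum_comm, Finset.sum_congr rfl fun χ _ => by rw [← Finset.mul_sum, hm χ]] at hsum
  refine ⟨∑ χ ∈ S, a χ * (m χ : ℤ), Int.cast_injective (α := ℂ) ?_⟩
  push_cast
  rw [← hsum, Finset.mul_sum, P.card_eq_multiplicity]
  exact Finset.sum_congr rfl fun χ _ => by push_cast; ring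

/-- The structure of the block when the rank is the inertial index. -/
theorem exists_relation (L : Data hM B) [Fintype L.K] (hl : L.inertia ≤ blockRank p B) :
    (∀ χ ∈ B, blockHeight p B (χ : G → ℂ) = 0) ∧
    ∃ X Y : Set (IrrCharacter G), B = X ∪ Y ∧ Disjoint X Y ∧ Nat.card X = L.inertia ∧
      Nat.card Y = (Nat.card L.D - 1) / L.inertia ∧
      (∀ ψ ∈ Y, ∀ ψ' ∈ Y, ∀ g : G, ¬ p ∣ orderOf g → (ψ : G → ℂ) g = (ψ' : G → ℂ) g) ∧
      ∃ (δ : IrrCharacter G → ℤ) (δ₀ : ℤ), (∀ χ ∈ X, δ χ = 1 ∨ δ χ = -1) ∧ (δ₀ = 1 ∨ δ₀ = -1) ∧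
        (∀ ψ ∈ Y, ∀ g : G, ¬ p ∣ orderOf g →
          (δ₀ : ℂ) * (ψ : G → ℂ) g + ∑ᶠ χ ∈ X, (δ χ : ℂ) * (χ : G → ℂ) g = 0) ∧
        (∀ χ ∈ X, ∀ χ' ∈ X, δ χ * (charDegree (χ : G → ℂ) : ℤ) ≡
          δ χ' * (charDegree (χ' : G → ℂ) : ℤ) [ZMOD (p : ℤ) ^ (Nat.card G).factorization p]) ∧
        ∀ ψ ∈ Y, ∀ χ ∈ X, (charDegree (ψ : G → ℂ) : ℤ) ≡
          -((L.inertia : ℤ) * δ₀ * δ χ * (charDegree (χ : G → ℂ) : ℤ))
            [ZMOD (p : ℤ) ^ (Nat.card G).factorization p] := by
  obtain ⟨R⟩ := L.exists_reps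
  have hcount := R.blockRank_add
  obtain ⟨ψ, σ, δ, hψ, hσ, hδ, hout, hin⟩ := R.lattice.2 (by rw [← card_members]; omega)
  have hψB : ∀ k, (ψ k).1 ∈ B := fun k => mem_members.1 (ψ k).2
  set Y : Set (IrrCharacter G) := Set.range fun k => (ψ k).1 with hY
  set X : Set (IrrCharacter G) := B \ Y with hX
  set δ' : IrrCharacter G → ℤ := fun χ => if h : χ ∈ members B then δ ⟨χ, h⟩ else 0
  have hcX : ∀ {χ}, χ ∈ X → ∀ i, R.c i χ = δ' χ ∧ (δ' χ = 1 ∨ δ' χ = -1) := by
    intro χ hχ i
    have hm := mem_members.2 hχ.1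
    have hx : (⟨χ, hm⟩ : { χ // χ ∈ members B }) ∉ Set.range ψ := fun ⟨k, hk⟩ =>
      hχ.2 ⟨k, congrArg Subtype.val hk⟩
    have h1 : δ' χ = δ ⟨χ, hm⟩ := dif_pos hm
    rw [h1]
    exact ⟨hout i ⟨χ, hm⟩ hx, hδ ⟨χ, hm⟩ hx⟩
  set o : Fin R.m := ⟨0, R.m_pos⟩
  have hXfin : ∀ (f : IrrCharacter G → ℂ), ∑ᶠ χ ∈ X, f χ =
      ∑ χ ∈ (members B).filter (· ∉ Y), f χ := by
    intro f
    rw [finsum_mem_eq_sum_of_inter_support_eq]
    ext χ
    simp [hX, members]
  have hYfilter : (members B).filter (fun χ => ¬ χ ∉ Y) =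
      Finset.univ.image fun k => (ψ k).1 := by
    ext χ
    simp only [not_not, Finset.mem_filter, Finset.mem_image, Finset.mem_univ, true_and, hY,
      Set.mem_range]
    exact ⟨fun h => h.2, fun ⟨k, hk⟩ => ⟨hk ▸ (ψ k).2, k, hk⟩⟩
  have hinjY : Function.Injective fun k => (ψ k).1 := fun a b h => hψ (Subtype.ext h)
  have hsplit : ∀ i (f : IrrCharacter G → ℂ), ∑ χ ∈ members B, (R.c i χ : ℂ) * f χ =
      (σ : ℂ) * f (ψ i).1 + ∑ χ ∈ (members B).filter (· ∉ Y), (δ' χ : ℂ) * f χ := by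
    intro i f
    rw [← Finset.sum_filter_add_sum_filter_not (members B) (fun χ => χ ∉ Y), hYfilter,
      Finset.sum_image fun a _ b _ h => hinjY h, add_comm]
    congr 1
    · rw [Finset.sum_eq_single i]
      · rw [hin, if_pos rfl]
      · intro k _ hk; rw [hin, if_neg hk, Int.cast_zero, zero_mul]
      · simp
    · refine Finset.sum_congr rfl fun χ hχ => ?_
      obtain ⟨h1, h2⟩ := Finset.mem_filter.1 hχ
      rw [(hcX ⟨mem_members.1 h1, h2⟩ i).1]
  have hrel : ∀ k, ∀ g : G, ¬ p ∣ orderOf g → (σ : ℂ) * ((ψ k).1 : G → ℂ) g +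
      ∑ χ ∈ (members B).filter (· ∉ Y), (δ' χ : ℂ) * (χ : G → ℂ) g = 0 := fun k g hg => by
    rw [← hsplit k fun χ => (χ : G → ℂ) g]
    exact R.theta_regular k hg
  have hσ0 : (σ : ℂ) ≠ 0 := by rcases hσ with rfl | rfl <;> norm_num
  have hσσ : σ * σ = 1 := by rcases hσ with rfl | rfl <;> rfl
  have hagree : ∀ φ ∈ Y, ∀ φ' ∈ Y, ∀ g : G, ¬ p ∣ orderOf g → (φ : G → ℂ) g = (φ' : G → ℂ) g := by
    rintro _ ⟨i, rfl⟩ _ ⟨j, rfl⟩ g hg
    exact mul_left_cancel₀ hσ0 (add_right_cancel ((hrel i g hg).trans (hrel j g hg).symm))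
  set q := (p : ℤ) ^ (Nat.card G).factorization p
  have hcong : ∀ χ ∈ X, ∀ χ' ∈ X, δ' χ * (charDegree (χ : G → ℂ) : ℤ) ≡
      δ' χ' * (charDegree (χ' : G → ℂ) : ℤ) [ZMOD q] := by
    intro χ hχ χ' hχ'
    rcases eq_or_ne χ χ' with rfl | hne
    · exact Int.ModEq.refl _
    refine Int.ModEq.symm (Int.modEq_iff_dvd.2 ?_)
    set a : IrrCharacter G → ℤ := fun φ =>
      if φ = χ then δ' χ else if φ = χ' then -δ' χ' else 0
    have hsum : ∀ {A : Type} [CommRing A] (f : IrrCharacter G → A),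
        ∑ φ ∈ members B, (a φ : A) * f φ = (δ' χ : A) * f χ - (δ' χ' : A) * f χ' := by
      intro A _ f
      rw [Finset.sum_eq_add χ χ' hne]
      · simp [a, hne.symm]; ring
      · intro φ _ hφ; simp [a, hφ.1, hφ.2]
      · exact fun h => absurd (mem_members.2 hχ.1) h
      · exact fun h => absurd (mem_members.2 hχ'.1) h
    have h := dvd_apply_one (p := p) a (members B) fun g hg => by
      refine R.vanish_of_orth (fun φ => (a φ : ℂ)) (fun i => ?_) hg
      rw [Finset.sum_congr rfl fun φ _ => by rw [← R.c_cast], hsum fun φ => (R.c i φ : ℂ),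
        (hcX hχ i).1, (hcX hχ' i).1]
      rcases (hcX hχ i).2 with h1 | h1 <;> rcases (hcX hχ' i).2 with h2 | h2 <;>
        rw [h1, h2] <;> norm_num
    rwa [show ∑ φ ∈ members B, a φ * (charDegree (φ : G → ℂ) : ℤ) =
      δ' χ * (charDegree (χ : G → ℂ) : ℤ) - δ' χ' * (charDegree (χ' : G → ℂ) : ℤ) by
        simpa using hsum (A := ℤ) fun φ => (charDegree (φ : G → ℂ) : ℤ)] at h
  have hXcard : ((members B).filter (· ∉ Y)).card = L.inertia := by
    have h := Finset.card_filter_add_card_filter_not (s := members B) (fun χ => χ ∉ Y)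
    rw [hYfilter, Finset.card_image_of_injective _ hinjY, Finset.card_univ, Fintype.card_fin,
      ← card_members] at h
    have h2 := L.blockRank_le_inertia
    omega
  have hψdeg : ∀ k, ∀ χ ∈ X, (charDegree ((ψ k).1 : G → ℂ) : ℤ) ≡
      -((L.inertia : ℤ) * σ * δ' χ * (charDegree (χ : G → ℂ) : ℤ)) [ZMOD q] := by
    intro k χ hχ
    have h0 : σ * (charDegree ((ψ k).1 : G → ℂ) : ℤ) +
        ∑ φ ∈ (members B).filter (· ∉ Y), δ' φ * (charDegree (φ : G → ℂ) : ℤ) = 0 := by
      refine Int.cast_injective (α := ℂ) ?_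
      push_cast
      simp only [← CharCorr.irr_one_eq_charDegree]
      exact hrel k 1 (by rw [orderOf_one]; exact hM.1.not_dvd_one)
    have hd : q ∣ ∑ φ ∈ (members B).filter (· ∉ Y), δ' φ * (charDegree (φ : G → ℂ) : ℤ) -
        (L.inertia : ℤ) * (δ' χ * (charDegree (χ : G → ℂ) : ℤ)) := by
      rw [← hXcard, ← nsmul_eq_mul, ← Finset.sum_const, ← Finset.sum_sub_distrib]
      refine Finset.dvd_sum fun φ hφ => Int.modEq_iff_dvd.1 (hcong χ hχ φ ?_)
      exact ⟨mem_members.1 (Finset.mem_filter.1 hφ).1, (Finset.mem_filter.1 hφ).2⟩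
    refine Int.ModEq.symm (Int.modEq_iff_dvd.2 ?_)
    refine (hd.mul_left (-σ)).trans (dvd_of_eq ?_)
    linear_combination -σ * h0 + (charDegree ((ψ k).1 : G → ℂ) : ℤ) * hσσ
  have hheight : ∀ χ ∈ B, blockHeight p B (χ : G → ℂ) = 0 := by
    obtain ⟨η, hη, hmin⟩ := BlockCover.exists_height_zero hM L.hB
    set u := (charDegree (η : G → ℂ)).factorization p with hu
    have hlt : u < (Nat.card G).factorization p := by
      have h1 := L.one_le_card_D
      rw [BlockCover.natCard_defect hM L.hB L.hD] at h1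
      have h2 : blockDefect p B ≠ 0 := fun h => by rw [h, pow_zero] at h1; exact lt_irrefl _ h1
      rw [blockDefect] at h2
      have h3 : sInf ((fun φ : IrrCharacter G => (charDegree (φ : G → ℂ)).factorization p) '' B) = u :=
        le_antisymm (Nat.sInf_le ⟨η, hη, rfl⟩)
          (le_csInf ⟨u, η, hη, rfl⟩ fun _ ⟨φ, hφ, e⟩ => e ▸ hmin φ hφ)
      omega
    -- `p ^ (u + 1)` divides a degree exactly when it divides all
    have hiff : ∀ φ : IrrCharacter G, (p : ℤ) ^ (u + 1) ∣ (charDegree (φ : G → ℂ) : ℤ) ↔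
        u + 1 ≤ (charDegree (φ : G → ℂ)).factorization p := fun φ => by
      rw [← Nat.cast_pow, Int.natCast_dvd_natCast]
      exact hM.1.pow_dvd_iff_le_factorization (ClassCount.degree_eq φ).2.2.ne'
    have hq : (p : ℤ) ^ (u + 1) ∣ q := pow_dvd_pow _ hlt
    have hunit : ∀ φ ∈ X, IsUnit (δ' φ) := fun φ hφ => by
      rcases (hcX hφ o).2 with h | h <;> rw [h] <;> simp
    have he : IsCoprime ((p : ℤ) ^ (u + 1)) (L.inertia : ℤ) := by
      refine IsCoprime.pow_left ((Nat.isCoprime_iff_coprime).2 (hM.1.coprime_iff_not_dvd.2 ?_))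
      rw [L.inertia_eq]; exact L.not_dvd_relIndex
    have hXX : ∀ φ ∈ X, ∀ φ' ∈ X, (p : ℤ) ^ (u + 1) ∣ (charDegree (φ : G → ℂ) : ℤ) →
        (p : ℤ) ^ (u + 1) ∣ (charDegree (φ' : G → ℂ) : ℤ) := fun φ hφ φ' hφ' h => by
      have h1 := Int.modEq_zero_iff_dvd.1 (((hcong φ hφ φ' hφ').of_dvd hq).symm.trans
        (Int.modEq_zero_iff_dvd.2 (h.mul_left _)))
      exact (hunit φ' hφ').dvd_mul_left.1 h1
    have hYX : ∀ k, ∀ φ ∈ X, ((p : ℤ) ^ (u + 1) ∣ (charDegree ((ψ k).1 : G → ℂ) : ℤ) ↔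
        (p : ℤ) ^ (u + 1) ∣ (charDegree (φ : G → ℂ) : ℤ)) := fun k φ hφ => by
      rw [((hψdeg k φ hφ).of_dvd hq).dvd_iff, dvd_neg]
      refine ⟨fun h => ?_, fun h => h.mul_left _⟩
      rw [mul_assoc, mul_assoc] at h
      have h1 := he.dvd_of_dvd_mul_left h
      rw [(show IsUnit σ by rcases hσ with rfl | rfl <;> simp).dvd_mul_left,
        (hunit φ hφ).dvd_mul_left] at h1
      exact h1
    obtain ⟨χ₀, hχ₀⟩ : ∃ χ, χ ∈ X := by
      obtain ⟨χ, hχ⟩ := Finset.card_pos.1 (hXcard ▸ L.inertia_pos)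
      exact ⟨χ, mem_members.1 (Finset.mem_filter.1 hχ).1, (Finset.mem_filter.1 hχ).2⟩
    have hall : ∀ φ ∈ B, ((p : ℤ) ^ (u + 1) ∣ (charDegree (φ : G → ℂ) : ℤ) ↔
        (p : ℤ) ^ (u + 1) ∣ (charDegree (χ₀ : G → ℂ) : ℤ)) := by
      intro φ hφ
      by_cases hY' : φ ∈ Y
      · obtain ⟨k, rfl⟩ := hY'
        exact hYX k χ₀ hχ₀
      · exact ⟨hXX φ ⟨hφ, hY'⟩ χ₀ hχ₀, hXX χ₀ hχ₀ φ ⟨hφ, hY'⟩⟩
    intro χ hχ
    have hnot : ¬ (p : ℤ) ^ (u + 1) ∣ (charDegree (η : G → ℂ) : ℤ) := by rw [hiff]; omega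
    rw [← hall χ hχ |>.trans (hall η hη).symm, hiff] at hnot
    apply Nat.sub_eq_zero_of_le
    refine le_csInf ⟨u, η, hη, rfl⟩ fun _ ⟨φ, hφ, e⟩ => e ▸ ?_
    have := hmin φ hφ
    have := hmin χ hχ
    dsimp only
    omega
  refine ⟨hheight, X, Y, ?_, Set.disjoint_sdiff_left, ?_, ?_, hagree, δ', σ,
    fun χ hχ => (hcX hχ o).2, hσ, ?_, hcong, ?_⟩
  · ext χ
    exact ⟨fun h => or_iff_not_imp_right.2 fun h' => ⟨h, h'⟩,
      fun h => h.elim (fun h => h.1) fun ⟨k, hk⟩ => hk ▸ hψB k⟩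
  · rw [← hXcard, Nat.card_eq_card_toFinset]
    exact congrArg _ (by ext χ; simp [hX, members])
  · rw [Nat.card_range_of_injective hinjY, Nat.card_fin, R.m_eq]
  · rintro _ ⟨k, rfl⟩ g hg
    rw [hXfin]
    exact hrel k g hg
  · rintro _ ⟨k, rfl⟩ χ hχ
    exact hψdeg k χ hχ

end CfsgLib.CyclicBlock.Data
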