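import Cfsg.Agent.Lib.CyclicBlock.Setup
import Cfsg.Agent.Lib.Blk7.DefectOneBound
import Cfsg.Agent.Lib.Blocks.BlockParts
import Cfsg.Agent.Lib.Blocks.DefectInduced

/-!
# The characters of the block at the subgroup of order `p`

All of them agree at the `p`-regular elements, and an element of the stabiliser outside `K` fixes
exactly one of them.
-/

set_option autoImplicit false
set_option linter.unusedSectionVars false
set_option linter.style.haveILetI false

namespace CfsgLib.CyclicBlock.Data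

open Cfsg CfsgLib.BrauerPairs CfsgLib.Characters CfsgLib.Blocks CfsgLib.Contribution
open scoped ComplexConjugate Classical

universe u

variable {G : Type u} [Group G] [Fintype G] {p : ℕ} [hp : Fact p.Prime] {M : Ideal AlgInt}
  [M.IsMaximal] {hM : IsPModular p M} {B : Set (IrrCharacter G)} (L : Data hM B) [Fintype L.K]

theorem one_le_card_D : 1 < Nat.card L.D := by
  calc 1 < p := hM.1.one_lt
    _ = Nat.card L.Z := L.hZc.symm
    _ ≤ Nat.card L.D := Subgroup.card_le_of_le L.hZD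

theorem blk_defect : p ^ blockDefect p L.blk = Nat.card L.D := by
  rw [← BlockCover.natCard_defect hM L.blk_isPBlock L.blk_defectGroup]
  exact Nat.card_congr (Subgroup.subgroupOfEquivOfLe L.D_le_K).toEquiv

theorem contribInt_self {ξ : IrrCharacter L.K} (hξ : ξ ∈ L.blk) :
    contribInt p L.blk ξ ξ = 1 := by
  letI : Fintype (ConjClasses L.K) := Fintype.ofFinite _
  have hb := L.blk_isPBlock
  have hpos : ∀ η ∈ members L.blk, 1 ≤ contribInt p L.blk η η := by
    intro η hη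
    have h := contribInt_cast hM hb η (mem_members.1 hη)
    rw [contrib, Contribution.regSum] at h
    have h2 : (contribInt p L.blk η η : ℝ) = (p : ℝ) ^ blockDefect p L.blk *
        (Nat.card L.K : ℝ)⁻¹ * ∑ x ∈ Finset.univ.filter (fun x : L.K => ¬ p ∣ orderOf x),
          Complex.normSq ((η : L.K → ℂ) x) := by
      refine Complex.ofReal_injective ?_
      push_cast
      rw [h]
      exact congrArg _ (Finset.sum_congr rfl fun x _ => Complex.mul_conj _)
    have h3 : (0 : ℝ) < (contribInt p L.blk η η : ℝ) := by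
      rw [h2]
      refine mul_pos (mul_pos (pow_pos (by exact_mod_cast hM.1.pos) _)
        (inv_pos.2 (by exact_mod_cast Nat.card_pos))) ?_
      refine Finset.sum_pos' (fun x _ => Complex.normSq_nonneg _) ⟨1,
        Finset.mem_filter.2 ⟨Finset.mem_univ _, ?_⟩, Complex.normSq_pos.2 (irr_one_ne_zero η)⟩
      rw [orderOf_one]; exact hM.1.not_dvd_one
    have h4 : (0 : ℤ) < contribInt p L.blk η η := by exact_mod_cast h3
    omega
  have hsum := DefectOne.sum_contrib_diag hM hb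
  rw [(L.blk_rank_and_card).1, Nat.cast_one, mul_one,
    show (p : ℤ) ^ blockDefect p L.blk = ((members L.blk).card : ℤ) by
      rw [← card_members, (L.blk_rank_and_card).2, ← L.blk_defect]; push_cast; rfl] at hsum
  have h := Finset.sum_eq_sum_iff_of_le (s := members L.blk)
    (f := fun _ => (1 : ℤ)) (g := fun η => contribInt p L.blk η η) hpos
  rw [Finset.sum_const, nsmul_eq_mul, mul_one, hsum] at h
  exact ((h.1 rfl) ξ (mem_members.2 hξ)).symm

/-- The members agree at the regular elements. -/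
theorem regular_eq {ξ η : IrrCharacter L.K} (hξ : ξ ∈ L.blk) (hη : η ∈ L.blk) {g : L.K}
    (hg : ¬ p ∣ orderOf g) : (ξ : L.K → ℂ) g = (η : L.K → ℂ) g := by
  letI : Fintype (ConjClasses L.K) := Fintype.ofFinite _
  have hb := L.blk_isPBlock
  have hp1 : IsPRegular p (1 : L.K) := by
    show ¬ p ∣ orderOf (1 : L.K); rw [orderOf_one]; exact hM.1.not_dvd_one
  set S := Submodule.span ℂ
    ((fun χ : IrrCharacter L.K => pRegularPart p (χ : L.K → ℂ)) '' L.blk)
  have hmem : ∀ ψ ∈ L.blk, pRegularPart p (ψ : L.K → ℂ) ∈ S := fun ψ hψ =>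
    Submodule.subset_span ⟨ψ, hψ, rfl⟩
  have hne : pRegularPart p (η : L.K → ℂ) ≠ 0 := fun h => by
    have := congrFun h 1
    rw [Pi.zero_apply, pRegularPart, if_pos hp1] at this
    exact irr_one_ne_zero η this
  obtain ⟨c, hc⟩ := (finrank_eq_one_iff_of_nonzero' (⟨_, hmem η hη⟩ : S)
    (fun h => hne (congrArg Subtype.val h))).1 L.blk_rank_and_card.1 ⟨_, hmem ξ hξ⟩
  have hc' : ∀ x : L.K, ¬ p ∣ orderOf x → (ξ : L.K → ℂ) x = c * (η : L.K → ℂ) x := fun x hx => by
    have := congrFun (congrArg Subtype.val hc) x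
    simpa [pRegularPart, IsPRegular, hx] using this.symm
  -- `c` is positive of modulus one
  have h1 := hc' 1 hp1
  rw [CharCorr.irr_one_eq_charDegree, CharCorr.irr_one_eq_charDegree] at h1
  have hdη : (0 : ℝ) < charDegree (η : L.K → ℂ) := by
    exact_mod_cast (ClassCount.degree_eq η).2.2
  have hdξ : (0 : ℝ) < charDegree (ξ : L.K → ℂ) := by
    exact_mod_cast (ClassCount.degree_eq ξ).2.2
  set t : ℝ := (charDegree (ξ : L.K → ℂ) : ℝ) / charDegree (η : L.K → ℂ)
  have hct : c = (t : ℂ) := by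
    simp only [t, Complex.ofReal_div, Complex.ofReal_natCast]
    rw [eq_div_iff (by exact_mod_cast hdη.ne'), h1]
  have hq : ((contribInt p L.blk ξ ξ : ℤ) : ℂ) =
      (c * conj c) * (contribInt p L.blk η η : ℂ) := by
    rw [contribInt_cast hM hb ξ hξ, contribInt_cast hM hb η hη, contrib, contrib,
      Contribution.regSum, Contribution.regSum, Finset.mul_sum, Finset.mul_sum, Finset.mul_sum]
    refine Finset.sum_congr rfl fun x hx => ?_
    rw [hc' x (Finset.mem_filter.1 hx).2, map_mul]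
    ring
  rw [L.contribInt_self hξ, L.contribInt_self hη, Int.cast_one, mul_one, hct,
    Complex.conj_ofReal, ← Complex.ofReal_mul] at hq
  have ht : t * t = 1 := by exact_mod_cast hq.symm
  rcases mul_self_eq_one_iff.1 ht with h | h
  · rw [hc' g hg, hct, h, Complex.ofReal_one, one_mul]
  · exact absurd h (by have : 0 < t := div_pos hdξ hdη; linarith)

theorem T₁_conj_iff (n : L.T₁) (k : G) : k ∈ L.K ↔ (n : G)⁻¹ * k * n ∈ L.K :=
  mem_normalizer_conj_iff (normalizer_le_normalizer_cz L.Z n.2.1) k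

/-- The conjugate of a character of `K` by an element of the stabiliser. -/
noncomputable def act (n : L.T₁) (ξ : IrrCharacter L.K) : IrrCharacter L.K :=
  CharCorr.twistIrr (conjEquiv (n : G) (L.T₁_conj_iff n)) ξ

theorem act_apply (n : L.T₁) (ξ : IrrCharacter L.K) (k : L.K) :
    (L.act n ξ : L.K → ℂ) k =
      (ξ : L.K → ℂ) ⟨(n : G)⁻¹ * k * n, (L.T₁_conj_iff n _).1 k.2⟩ := rfl

theorem act_mul (n m : L.T₁) (ξ : IrrCharacter L.K) :
    L.act (n * m) ξ = L.act n (L.act m ξ) := by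
  refine Subtype.ext (funext fun k => ?_)
  rw [L.act_apply, L.act_apply, L.act_apply]
  exact congrArg _ (Subtype.ext (by simp [mul_assoc]))

theorem act_of_mem_K (n : L.T₁) (hn : (n : G) ∈ L.K) (ξ : IrrCharacter L.K) : L.act n ξ = ξ := by
  refine Subtype.ext (funext fun k => ?_)
  rw [L.act_apply, ← irr_isClassFunction ξ k (⟨n, hn⟩ : L.K)⁻¹]
  exact congrArg _ (Subtype.ext (by simp))

theorem act_mem {ξ : IrrCharacter L.K} (n : L.T₁) (hξ : ξ ∈ L.blk) : L.act n ξ ∈ L.blk := by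
  have h := conjA_eA hM (n : G) (L.T₁_conj_iff n) L.blk
  rw [n.2.2] at h
  have h2 := eA_inj hM L.blk_isPBlock (isPBlock_twist _ L.blk_isPBlock) h
  rw [h2]
  exact ⟨ξ, hξ, rfl⟩

theorem act_mem_iff {ξ : IrrCharacter L.K} (n : L.T₁) : L.act n ξ ∈ L.blk ↔ ξ ∈ L.blk := by
  refine ⟨fun h => ?_, L.act_mem n⟩
  have := L.act_mem n⁻¹ h
  rwa [← L.act_mul, inv_mul_cancel, L.act_of_mem_K 1 L.K.one_mem] at this

/-- The `p`-parts of the elements at which the block does not vanish lie in conjugates of `D`. -/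
theorem exists_conj_of_ne_zero {ξ : IrrCharacter L.K} (hξ : ξ ∈ L.blk) {g x : L.K}
    (hx : IsPPart p g x) (hne : (ξ : L.K → ℂ) g ≠ 0) :
    ∃ h : L.K, ((h * x * h⁻¹ : L.K) : G) ∈ L.D := by
  by_contra hcon
  push Not at hcon
  refine hne (apply_eq_zero_of_notMem_defect hM hx fun E hE hxE => ?_)
  rw [← IsPBlock.eq_blockOf hM L.blk_isPBlock hξ] at hE
  have := charP_res hM
  obtain ⟨t, -, ht⟩ := (brSetup_block hM L.blk_isPBlock).isDefect_conj
    ((isDefectGroup_iff hM L.blk_isPBlock E).1 hE)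
    ((isDefectGroup_iff hM L.blk_isPBlock _).1 L.blk_defectGroup)
  exact hcon t (Subgroup.mem_subgroupOf.1 (by rw [ht]; exact ⟨x, hxE, rfl⟩))

/-- An element of the stabiliser outside `K` fixes exactly one member. -/
theorem card_fixed (n : L.T₁) (hn : (n : G) ∉ L.K) :
    ((members L.blk).filter fun ξ => L.act n ξ = ξ).card = 1 := by
  letI : Fintype (ConjClasses L.K) := Fintype.ofFinite _
  have hb := L.blk_isPBlock
  have hcount : (((members L.blk).filter fun ξ => L.act n ξ = ξ).card : ℂ) =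
      ∑ ξ ∈ members L.blk, classInner (L.act n ξ : L.K → ℂ) (ξ : L.K → ℂ) := by
    rw [Finset.card_filter, Nat.cast_sum]
    refine Finset.sum_congr rfl fun ξ _ => ?_
    split_ifs with h
    · rw [h, Nat.cast_one]; exact (classInner_irr_self ξ.2).symm
    · rw [Nat.cast_zero, classInner_irr_ne (L.act n ξ).2 ξ.2 fun h' => h (Subtype.ext h')]
  obtain ⟨ξ₀, hξ₀⟩ := IsPBlock.nonempty hM hb
  have hreg : ∑ k ∈ Finset.univ.filter (fun k : L.K => ¬ p ∣ orderOf k),
      (ξ₀ : L.K → ℂ) k * conj ((ξ₀ : L.K → ℂ) k) =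
      (Nat.card L.K : ℂ) * (Nat.card L.D : ℂ)⁻¹ := by
    have h := contribInt_cast hM hb ξ₀ hξ₀
    rw [L.contribInt_self hξ₀, Int.cast_one, contrib, Contribution.regSum] at h
    rw [← L.blk_defect]
    push_cast
    have h1 : (p : ℂ) ^ blockDefect p L.blk ≠ 0 := pow_ne_zero _ (Nat.cast_ne_zero.2 hM.1.ne_zero)
    have h2 : (Nat.card L.K : ℂ) ≠ 0 := Nat.cast_ne_zero.2 Nat.card_pos.ne'
    field_simp at h ⊢
    linear_combination -h
  have hsing : ∀ k : L.K, p ∣ orderOf k →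
      ∑ ξ ∈ members L.blk, (L.act n ξ : L.K → ℂ) k * conj ((ξ : L.K → ℂ) k) = 0 := by
    intro k hk
    by_cases hall : ∀ ξ ∈ members L.blk, (ξ : L.K → ℂ) k = 0
    · exact Finset.sum_eq_zero fun ξ hξ => by rw [hall ξ hξ, map_zero, mul_zero]
    push Not at hall
    obtain ⟨ξ, hξ, hne⟩ := hall
    obtain ⟨x, hx⟩ := exists_isPPart hM.1 k
    obtain ⟨h, hhD⟩ := L.exists_conj_of_ne_zero (mem_members.1 hξ) hx hne
    set u : G := ((h * x * h⁻¹ : L.K) : G) with hu
    have hu1 : u ≠ 1 := fun h1 => by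
      obtain ⟨y, hy, -, -, hyp⟩ := hx
      have hx1 : x = 1 := conj_eq_one_iff.1 (Subtype.ext h1)
      rw [hx1, one_mul] at hy
      exact hyp (hy ▸ hk)
    -- the conjugate element
    set φ : L.K ≃* L.K := conjEquiv (n : G) (L.T₁_conj_iff n)
    have hxy : IsPPart p (φ k) (φ x) := by
      obtain ⟨y, hy, hc, ⟨j, hj⟩, hyp⟩ := hx
      refine ⟨φ y, by rw [← map_mul, hy], hc.map φ.toMonoidHom, ⟨j, by rw [φ.orderOf_eq, hj]⟩, ?_⟩
      rwa [φ.orderOf_eq]
    have hnc : ¬ IsConj (φ x) x := by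
      intro hconj
      obtain ⟨d, hd⟩ := isConj_iff.1 hconj
      obtain ⟨v, hv, hvn⟩ := L.exists_mem_T n.2
      -- `x = d n⁻¹ x n d⁻¹`
      have hd' : (d : G) * ((n : G)⁻¹ * (x : G) * n) * (d : G)⁻¹ = (x : G) := by
        simpa [φ] using congrArg Subtype.val hd
      set t := v * (n : G)
      have htn : t ∉ L.K := fun ht => hn (by
        have := L.K.mul_mem (L.K.inv_mem hv) ht
        rwa [inv_mul_cancel_left] at this)
      -- move to `u`
      set a : G := (h : G) * (d : G) * (n : G)⁻¹ * (h : G)⁻¹ with ha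
      have hau : a * u * a⁻¹ = u := by
        rw [ha, hu]
        simp only [Subgroup.coe_mul, Subgroup.coe_inv]
        calc (h : G) * d * (n : G)⁻¹ * (h : G)⁻¹ * ((h : G) * x * (h : G)⁻¹) *
              ((h : G) * d * (n : G)⁻¹ * (h : G)⁻¹)⁻¹ =
            (h : G) * ((d : G) * ((n : G)⁻¹ * (x : G) * n) * (d : G)⁻¹) * (h : G)⁻¹ := by group
          _ = _ := by rw [hd']
      have hhK : (t : G) * a ∈ L.K := by
        have hn' : ∀ w ∈ L.K, (n : G) * w * (n : G)⁻¹ ∈ L.K := fun w hw =>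
          (L.T₁_conj_iff n _).2 (by simpa [mul_assoc] using hw)
        have h2 : t * a = v * ((n : G) * ((h : G) * d) * (n : G)⁻¹) * (h : G)⁻¹ := by
          rw [ha]; simp only [t]; group
        rw [h2]
        exact L.K.mul_mem (L.K.mul_mem hv (hn' _ (L.K.mul_mem h.2 d.2))) (L.K.inv_mem h.2)
      refine L.not_conj hvn htn hhD hu1 hhK ?_
      calc t * a * u * (t * a)⁻¹ = t * (a * u * a⁻¹) * t⁻¹ := by group
        _ = _ := by rw [hau]
    have horth := sum_block_eq_zero_of_not_isConj hM hb hxy hx hnc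
    rw [← horth]
    refine Finset.sum_congr rfl fun η _ => ?_
    rw [irr_apply_inv]
    rfl
  have hval : (((members L.blk).filter fun ξ => L.act n ξ = ξ).card : ℂ) = 1 := by
    rw [hcount]
    simp only [classInner, ← Finset.mul_sum]
    rw [Finset.sum_comm, ← Finset.sum_filter_add_sum_filter_not Finset.univ
      (fun k : L.K => ¬ p ∣ orderOf k),
      Finset.sum_eq_zero (s := Finset.univ.filter fun k : L.K => ¬ ¬ p ∣ orderOf k)
        fun k hk => hsing k (not_not.1 (Finset.mem_filter.1 hk).2), add_zero,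
      Finset.sum_congr rfl fun k hk => Finset.sum_congr rfl fun ξ hξ => by
        rw [L.regular_eq (L.act_mem n (mem_members.1 hξ)) hξ₀ (Finset.mem_filter.1 hk).2,
          L.regular_eq (mem_members.1 hξ) hξ₀ (Finset.mem_filter.1 hk).2]]
    simp only [Finset.sum_const, nsmul_eq_mul, ← Finset.mul_sum, hreg]
    rw [← card_members, L.blk_rank_and_card.2]
    have h2 : (Nat.card L.K : ℂ) ≠ 0 := Nat.cast_ne_zero.2 Nat.card_pos.ne'
    have h3 : (Nat.card L.D : ℂ) ≠ 0 := Nat.cast_ne_zero.2 Nat.card_pos.ne'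
    field_simp
  exact_mod_cast hval

/-- Two elements of the stabiliser commute modulo `K`. -/
theorem commutator_mem (n m : L.T₁) : ((n * m * n⁻¹ * m⁻¹ : L.T₁) : G) ∈ L.K := by
  obtain ⟨z, hz, hz1⟩ := L.nontrivial_Z
  have hcz : L.Z = Subgroup.zpowers z := (Subgroup.eq_of_le_of_card_ge (Subgroup.zpowers_le.2 hz) (by
    rw [L.hZc, Nat.card_zpowers]
    refine Nat.le_of_eq ((hM.1.eq_one_or_self_of_dvd _ ?_).resolve_left fun h =>
      hz1 (orderOf_eq_one_iff.1 h)).symm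
    rw [← L.hZc]; exact Subgroup.orderOf_dvd_natCard _ hz)).symm
  have hexp : ∀ g ∈ L.T₁, ∃ r : ℤ, g * z * g⁻¹ = z ^ r := fun g hg => by
    have h := (Subgroup.mem_normalizer_iff.1 hg.1 z).1 hz
    rw [hcz] at h
    obtain ⟨r, hr⟩ := Subgroup.mem_zpowers_iff.1 h
    exact ⟨r, hr.symm⟩
  obtain ⟨r, hr⟩ := hexp n n.2
  obtain ⟨s, hs⟩ := hexp m m.2
  have hr' : ∀ i : ℤ, (n : G) * z ^ i * (n : G)⁻¹ = z ^ (r * i) := fun i => by
    rw [← conj_zpow, hr, zpow_mul]
  have hs' : ∀ i : ℤ, (m : G) * z ^ i * (m : G)⁻¹ = z ^ (s * i) := fun i => by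
    rw [← conj_zpow, hs, zpow_mul]
  set a : G := (n : G) * m
  set b : G := (m : G) * n
  have hab : a * z * a⁻¹ = b * z * b⁻¹ := by
    calc a * z * a⁻¹ = (n : G) * ((m : G) * z * (m : G)⁻¹) * (n : G)⁻¹ := by simp [a, mul_assoc]
      _ = (m : G) * ((n : G) * z * (n : G)⁻¹) * (m : G)⁻¹ := by
        rw [hs, hr', hr, hs', mul_comm]
      _ = _ := by simp [b, mul_assoc]
  have hcomm : a * b⁻¹ * (b * z * b⁻¹) = (b * z * b⁻¹) * (a * b⁻¹) := by
    calc a * b⁻¹ * (b * z * b⁻¹) = (a * z * a⁻¹) * (a * b⁻¹) := by group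
      _ = _ := by rw [hab]
  have hval : ((n * m * n⁻¹ * m⁻¹ : L.T₁) : G) = a * b⁻¹ := by simp [a, b, mul_assoc]
  rw [hval]
  have hbz : b * z * b⁻¹ = z ^ (s * r) := by
    calc b * z * b⁻¹ = (m : G) * ((n : G) * z * (n : G)⁻¹) * (m : G)⁻¹ := by simp [b, mul_assoc]
      _ = _ := by rw [hr, hs']
  show a * b⁻¹ ∈ cz L.Z
  rw [mem_cz]
  intro w hw
  have hgen : Subgroup.zpowers (b * z * b⁻¹) = L.Z := by
    refine Subgroup.eq_of_le_of_card_ge (Subgroup.zpowers_le.2 (by
      rw [hbz]; exact L.Z.zpow_mem hz _)) ?_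
    rw [hcz, Nat.card_zpowers, Nat.card_zpowers,
      show b * z * b⁻¹ = MulAut.conj b z from rfl, MulEquiv.orderOf_eq]
  rw [← hgen] at hw
  obtain ⟨i, rfl⟩ := Subgroup.mem_zpowers_iff.1 hw
  exact ((show Commute (a * b⁻¹) (b * z * b⁻¹) from hcomm).zpow_right i).symm.eq

/-- The member fixed by the whole stabiliser. -/
theorem exists_fixed : ∃ ξ₀ ∈ L.blk, (∀ n, L.act n ξ₀ = ξ₀) ∧
    ∀ n : L.T₁, (n : G) ∉ L.K → ∀ ξ ∈ L.blk, L.act n ξ = ξ → ξ = ξ₀ := by
  by_cases hall : ∀ n : L.T₁, (n : G) ∈ L.K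
  · obtain ⟨ξ₀, hξ₀⟩ := IsPBlock.nonempty hM L.blk_isPBlock
    exact ⟨ξ₀, hξ₀, fun n => L.act_of_mem_K n (hall n) ξ₀, fun n hn => absurd (hall n) hn⟩
  push Not at hall
  obtain ⟨n₀, hn₀⟩ := hall
  obtain ⟨ξ₀, hξ⟩ := Finset.card_eq_one.1 (L.card_fixed n₀ hn₀)
  have hmem := (Finset.ext_iff.1 hξ ξ₀).2 (Finset.mem_singleton_self _)
  obtain ⟨hb, hfix⟩ := Finset.mem_filter.1 hmem
  have hall' : ∀ n, L.act n ξ₀ = ξ₀ := by
    intro n
    refine Finset.mem_singleton.1 ((Finset.ext_iff.1 hξ _).1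
      (Finset.mem_filter.2 ⟨mem_members.2 (L.act_mem n (mem_members.1 hb)), ?_⟩))
    have h := L.act_mul (n₀ * n * n₀⁻¹ * n⁻¹) (n * n₀) ξ₀
    rw [show n₀ * n * n₀⁻¹ * n⁻¹ * (n * n₀) = n₀ * n by group,
      L.act_of_mem_K _ (L.commutator_mem n₀ n), L.act_mul, L.act_mul, hfix] at h
    exact h
  refine ⟨ξ₀, mem_members.1 hb, hall', fun n hn ξ hξb hξfix => ?_⟩
  exact Finset.card_le_one.1 (L.card_fixed n hn).le ξ
    (Finset.mem_filter.2 ⟨mem_members.2 hξb, hξfix⟩) ξ₀ (Finset.mem_filter.2 ⟨hb, hall' n⟩)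

end CfsgLib.CyclicBlock.Data
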