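import Cfsg.Agent.Lib.CyclicBlock.Count
import Cfsg.Agent.Lib.BrauerPairs.Induced

/-!
# The local data from a block of the centraliser inducing the block

A block of `C(D)` inducing `B` gives the data, and its stabiliser in the normaliser of `D` is the
stabiliser of the data.
-/

set_option autoImplicit false
set_option linter.unusedSectionVars false

namespace CfsgLib.CyclicBlock

open Cfsg MonoidAlgebra CfsgLib.BrauerPairs CfsgLib.CharCorr

universe u

variable {G : Type u} [Group G] [Fintype G] {p : ℕ} [hp : Fact p.Prime] {M : Ideal AlgInt}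
  [M.IsMaximal]

/-- Every conjugate of a member lies in the block iff the block is stabilised. -/
theorem forall_conj_mem_iff {K : Subgroup G} {g : G} (hg : g ∈ Subgroup.normalizer (K : Set G))
    (f : Set (IrrCharacter K)) :
    (∀ θ ∈ f, ∀ θ' : IrrCharacter K, (∀ h h' : K, (h' : G) = g * h * g⁻¹ →
      (θ' : K → ℂ) h' = (θ : K → ℂ) h) → θ' ∈ f) ↔ StabilizesBlock K f g := by
  constructor
  · intro h
    exact ⟨hg, fun θ hθ => ⟨twistIrr (conjEquiv g (mem_normalizer_conj_iff hg)) θ,
      h θ hθ _ ((isConjCharOf_iff hg θ _).2 rfl), (isConjCharOf_iff hg θ _).2 rfl⟩⟩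
  · rintro ⟨-, h⟩ θ hθ θ' hθ'
    obtain ⟨θ'', hm, hc⟩ := h θ hθ
    rw [(isConjCharOf_iff hg θ θ').1 hθ', ← (isConjCharOf_iff hg θ θ'').1 hc]
    exact hm

/-- The data from a block inducing `B`. -/
theorem exists_data_of_induced (hM : IsPModular p M) {B : Set (IrrCharacter G)} (hB : IsPBlock M B)
    {D : Subgroup G} (hcyc : IsCyclic D) {a : ℕ} (ha : 1 ≤ a) (hDa : Nat.card D = p ^ a)
    (hBD : IsDefectGroup p M B D) {b : Set (IrrCharacter (Subgroup.centralizer (D : Set G)))}
    (hind : IsInducedBlock M (Subgroup.centralizer (D : Set G)) b B) {T : Subgroup G}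
    (hT : ∀ g : G, g ∈ T ↔ (g ∈ Subgroup.normalizer (D : Set G) ∧ ∀ θ ∈ b,
      ∀ θ' : IrrCharacter (Subgroup.centralizer (D : Set G)),
        (∀ h h' : Subgroup.centralizer (D : Set G), (h' : G) = g * h * g⁻¹ →
          (θ' : Subgroup.centralizer (D : Set G) → ℂ) h' =
            (θ : Subgroup.centralizer (D : Set G) → ℂ) h) → θ' ∈ b)) :
    ∃ L : Data hM B, L.D = D ∧ (Subgroup.centralizer (D : Set G)).relIndex T = (cz L.D).relIndex L.T := by
  have hPp : IsPGroup p D := IsPGroup.of_card hDa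
  obtain ⟨hb, -, hO⟩ := (isBrauerPairOf_iff hM B D b).1 (isBrauerPairOf_of_isInducedBlock hM hPp hind)
  obtain ⟨L, hLD, hLe⟩ := exists_data hB hBD hcyc ha hDa (isBlockIdem_eA hM hb) hO.cover
  refine ⟨L, hLD, ?_⟩
  have hTe : T = pairStab D (eA hM (cz D) b) := by
    ext g
    rw [hT, mem_pairStab]
    refine and_congr_right fun hg => ?_
    exact (forall_conj_mem_iff (normalizer_le_normalizer_cz D hg) b).trans
      (stabilizesBlock_iff_conjA hM (normalizer_le_normalizer_cz D hg) hb)
  subst hLD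
  rw [Data.T, hLe, hTe]

end CfsgLib.CyclicBlock
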