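import Cfsg.Agent.Lib.Blocks.CyclicInertial
import Cfsg.Agent.Lib.BrauerPairs.Inside
import Cfsg.Agent.Lib.BrauerPairs.LocalNilpotent

/-!
# The local data of a block with a cyclic defect group

`(D, e)` is a maximal pair of `B` with `D` cyclic. For a subgroup `Z` of `D` of order `p`, the
block `b` of `K = C(Z)` below the pair has rank one, `|D|` members and defect group `D`; its
stabiliser `T₁` is `T K` with `T ∩ K = C(D)`, and its inertial index is that of `B`.
-/

set_option autoImplicit false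
set_option linter.unusedSectionVars false

namespace CfsgLib.CyclicBlock

open Cfsg MonoidAlgebra CfsgLib.BrauerPairs

universe u

variable {G : Type u} [Group G] [Fintype G] {p : ℕ} [hp : Fact p.Prime] {M : Ideal AlgInt}
  [M.IsMaximal]

/-- A maximal pair on a cyclic defect group, with the subgroup of order `p`. -/
structure Data (hM : IsPModular p M) (B : Set (IrrCharacter G)) where
  D : Subgroup G
  e : MonoidAlgebra (ResK M) G
  Z : Subgroup G
  hB : IsPBlock M B
  hD : IsDefectGroup p M B D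
  hcyc : IsCyclic D
  hZD : Z ≤ D
  hZc : Nat.card Z = p
  he : IsBlockIdem (cz D) e
  hcov : brMap (ResK M) D (eG hM B) * e = e

variable {hM : IsPModular p M} {B : Set (IrrCharacter G)} (L : Data hM B)

namespace Data

/-- The stabiliser of the maximal pair. -/
noncomputable def T : Subgroup G := pairStab L.D L.e

/-- The centraliser of the subgroup of order `p`. -/
def K : Subgroup G := cz L.Z

theorem pgroup : IsPGroup p L.D :=
  ((isDefectGroup_iff hM L.hB L.D).1 L.hD).pgroup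

theorem D_le_czD : L.D ≤ cz L.D := fun a ha => mem_cz.2 fun c hc => by
  have := L.hcyc
  exact congrArg Subtype.val
    ((IsMulCommutative.is_comm (M := L.D)).comm (⟨c, hc⟩ : L.D) ⟨a, ha⟩)

theorem D_le_K : L.D ≤ L.K := L.D_le_czD.trans (cz_anti L.hZD)

theorem czD_le_K : cz L.D ≤ L.K := cz_anti L.hZD

theorem setupT : BrSetup p L.D L.e L.T := by
  refine ⟨L.pgroup, L.he, fun g hg => hg.1, fun g hg => ⟨cz_le_normalizer L.D hg, L.he.fixed g hg⟩,
    fun g hg => ⟨cz_le_normalizer L.D (L.D_le_czD hg), L.he.fixed g (L.D_le_czD hg)⟩, fun g hg => hg.2⟩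

/-- The stabiliser acts freely. -/
theorem free : ∀ g ∈ L.T, ∀ q ∈ L.D, q ≠ 1 → g * q * g⁻¹ = q → g ∈ cz L.D := by
  have := charP_res hM
  refine CyclicDefectBound.free_of_cyclic L.setupT L.D_le_czD
    (isDefect_local hM L.hB L.setupT L.hcov ((isDefectGroup_iff hM L.hB L.D).1 L.hD) L.setupT.le ?_)
    L.hcyc
  rw [brMap_eq_self L.he.supp]
  exact L.he.ne_zero

theorem nontrivial_Z : ∃ z ∈ L.Z, z ≠ 1 := by
  have : L.Z ≠ ⊥ := fun h => hM.1.one_lt.ne' (by rw [← L.hZc, h, Subgroup.card_bot])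
  obtain ⟨⟨z, hz⟩, hz1⟩ := Subgroup.ne_bot_iff_exists_ne_one.1 this
  exact ⟨z, hz, fun h => hz1 (Subtype.ext h)⟩

/-- A conjugate of `Z` inside `D` is `Z`. -/
theorem conj_mem_Z {g z : G} (hz : z ∈ L.Z) (hg : g * z * g⁻¹ ∈ L.D) : g * z * g⁻¹ ∈ L.Z :=
  Subgroup.zpowers_le.2 hz (CyclicDefectBound.mem_zpowers_of_orderOf_eq L.hcyc (L.hZD hz) hg
    ((MulAut.conj g).orderOf_eq z))

theorem normalizer_le (g : G) (hg : g ∈ Subgroup.normalizer (L.D : Set G)) :
    g ∈ Subgroup.normalizer (L.Z : Set G) :=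
  Fusion.mem_normalizer_of_forall fun z hz =>
    L.conj_mem_Z hz ((Subgroup.mem_normalizer_iff.1 hg z).1 (L.hZD hz))

/-- `Z` lies in every nontrivial subgroup of `D`. -/
theorem Z_le_zpowers {u : G} (hu : u ∈ L.D) (hu1 : u ≠ 1) : L.Z ≤ Subgroup.zpowers u := by
  obtain ⟨k, hk⟩ := IsPGroup.iff_orderOf.1 L.pgroup ⟨u, hu⟩
  rw [Subgroup.orderOf_mk] at hk
  obtain ⟨j, rfl⟩ : ∃ j, k = j + 1 := Nat.exists_eq_succ_of_ne_zero fun h0 => hu1
    (orderOf_eq_one_iff.1 (by rw [hk, h0, pow_zero]))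
  set v := u ^ p ^ j with hv
  have hvo : orderOf v = p := by
    rw [hv, orderOf_pow' _ (pow_ne_zero _ hM.1.ne_zero), hk,
      Nat.gcd_eq_right (pow_dvd_pow p j.le_succ), pow_succ, Nat.mul_div_cancel_left _ (pow_pos hM.1.pos _)]
  intro z hz
  by_cases hz1 : z = 1
  · rw [hz1]; exact Subgroup.one_mem _
  · have hzo : orderOf z = p := by
      refine (hM.1.eq_one_or_self_of_dvd _ ?_).resolve_left fun h => hz1 (orderOf_eq_one_iff.1 h)
      rw [← L.hZc]; exact Subgroup.orderOf_dvd_natCard _ hz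
    exact (Subgroup.zpowers_le.2 (Subgroup.pow_mem _ (Subgroup.mem_zpowers u) _))
      (CyclicDefectBound.mem_zpowers_of_orderOf_eq L.hcyc (L.D.pow_mem hu _) (L.hZD hz)
        (hzo.trans hvo.symm))

theorem centralizer_le_K {u : G} (hu : u ∈ L.D) (hu1 : u ≠ 1) :
    Subgroup.centralizer ({u} : Set G) ≤ L.K := by
  rw [CyclicDefectBound.centralizer_singleton_eq]
  exact cz_anti (L.Z_le_zpowers hu hu1)

theorem T_inf_K {g : G} (hg : g ∈ L.T) (hgK : g ∈ L.K) : g ∈ cz L.D := by
  obtain ⟨z, hz, hz1⟩ := L.nontrivial_Z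
  exact L.free g hg z (L.hZD hz) hz1 (by rw [← mem_cz.1 hgK z hz, mul_inv_cancel_right])

/-- An element of `D` and its conjugate by an element of `K` and of `T` agree only trivially. -/
theorem not_conj {n h u : G} (hn : n ∈ L.T) (hnK : n ∉ L.K) (hu : u ∈ L.D) (hu1 : u ≠ 1)
    (hh : h ∈ L.K) : h * u * h⁻¹ ≠ n * u * n⁻¹ := by
  intro he
  have hnu : n * u * n⁻¹ ∈ L.D := (Subgroup.mem_normalizer_iff.1 hn.1 u).1 hu
  obtain ⟨r, hr⟩ := Subgroup.mem_zpowers_iff.1
    (CyclicDefectBound.mem_zpowers_of_orderOf_eq L.hcyc hu hnu ((MulAut.conj n).orderOf_eq u))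
  obtain ⟨z, hz, hz1⟩ := L.nontrivial_Z
  obtain ⟨i, hi⟩ := Subgroup.mem_zpowers_iff.1 (L.Z_le_zpowers hu hu1 hz)
  -- `h` fixes `z`, so `n` does
  refine hnK (L.czD_le_K (L.free n hn z (L.hZD hz) hz1 ?_))
  have h1 : n * z * n⁻¹ = h * z * h⁻¹ := by rw [← hi, ← conj_zpow, ← conj_zpow, he]
  rw [h1, ← mem_cz.1 hh z hz, mul_inv_cancel_right]

end Data

/-- The data exist for every block with a nontrivial cyclic defect group and a pair on it. -/
theorem exists_data (hB : IsPBlock M B) {D : Subgroup G} (hD : IsDefectGroup p M B D)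
    (hcyc : IsCyclic D) {a : ℕ} (ha : 1 ≤ a) (hDa : Nat.card D = p ^ a)
    {e : MonoidAlgebra (ResK M) G} (he : IsBlockIdem (cz D) e)
    (hcov : brMap (ResK M) D (eG hM B) * e = e) :
    ∃ L : Data hM B, L.D = D ∧ L.e = e := by
  obtain ⟨z, hz⟩ := exists_prime_orderOf_dvd_card' (G := D) p (by
    rw [hDa]; exact dvd_pow_self p (by omega))
  exact ⟨⟨D, e, Subgroup.zpowers (z : G), hB, hD, hcyc, Subgroup.zpowers_le.2 z.2,
    by rw [Nat.card_zpowers, Subgroup.orderOf_coe, hz], he, hcov⟩, rfl, rfl⟩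

namespace Data

/-- The block of `K` below the maximal pair. -/
theorem exists_blk [Fintype L.K] : ∃ b : Set (IrrCharacter L.K),
    IsPBlock M b ∧ IsInducedBlock M L.K b B ∧
    PairLE p (L.Z, eA hM L.K b) (L.D, L.e) ∧
    brMap (ResK M) L.Z (eG hM B) * eA hM L.K b = eA hM L.K b ∧
    IsDefectGroup p M b (L.D.subgroupOf L.K) ∧
    IsDefect p L.Z (eA hM L.K b) L.K L.D ∧
    OverPair p L.Z (eA hM L.K b) L.K L.D L.e := by
  obtain ⟨f, h1, h2, h3, h4, h5, h6, h7⟩ := CyclicDefectBound.exists_local_block (K := L.K) hM L.hB L.hD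
    L.D_le_czD L.he L.hcov L.hZD rfl
  exact ⟨f, h1, h4, h2, h3, h6, h5, h7⟩

/-- The block of `K`. -/
noncomputable def blk [Fintype L.K] : Set (IrrCharacter L.K) := L.exists_blk.choose

variable [Fintype L.K]

theorem blk_isPBlock : IsPBlock M L.blk := L.exists_blk.choose_spec.1

theorem blk_induced : IsInducedBlock M L.K L.blk B := L.exists_blk.choose_spec.2.1

theorem blk_le : PairLE p (L.Z, eA hM L.K L.blk) (L.D, L.e) := L.exists_blk.choose_spec.2.2.1

theorem blk_cover : brMap (ResK M) L.Z (eG hM B) * eA hM L.K L.blk = eA hM L.K L.blk :=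
  L.exists_blk.choose_spec.2.2.2.1

theorem blk_defectGroup : IsDefectGroup p M L.blk (L.D.subgroupOf L.K) :=
  L.exists_blk.choose_spec.2.2.2.2.1

theorem blk_isDefect : IsDefect p L.Z (eA hM L.K L.blk) L.K L.D :=
  L.exists_blk.choose_spec.2.2.2.2.2.1

theorem blk_over : OverPair p L.Z (eA hM L.K L.blk) L.K L.D L.e :=
  L.exists_blk.choose_spec.2.2.2.2.2.2

/-- The stabiliser of the block of `K`. -/
noncomputable def T₁ : Subgroup G := pairStab L.Z (eA hM L.K L.blk)

theorem blk_idem : IsBlockIdem (cz L.Z) (eA hM L.K L.blk) := isBlockIdem_eA hM L.blk_isPBlock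

theorem setupK : BrSetup p L.Z (eA hM L.K L.blk) L.K :=
  ⟨L.pgroup.to_le L.hZD, L.blk_idem, cz_le_normalizer L.Z, le_rfl, L.hZD.trans L.D_le_K,
    L.blk_idem.fixed⟩

theorem K_le_T₁ : L.K ≤ L.T₁ := fun g hg => ⟨cz_le_normalizer L.Z hg, L.blk_idem.fixed g hg⟩

theorem T_le_T₁ : L.T ≤ L.T₁ := by
  intro g hg
  have := charP_res hM
  refine ⟨L.normalizer_le g hg.1,
    pairLE_unique (hasBlocks hM) (b := (L.D, L.e)) L.he L.pgroup ?_ L.blk_le⟩
  have h' := L.blk_le.conj g
  rwa [show conjPair g (L.Z, eA hM L.K L.blk) = (L.Z, conjA g (eA hM L.K L.blk)) from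
      Prod.ext (map_conj_eq_self (L.normalizer_le g hg.1)) rfl,
    show conjPair g (L.D, L.e) = (L.D, L.e) from
      Prod.ext (map_conj_eq_self hg.1) hg.2] at h'

/-- Every element of the stabiliser is one of `T` up to `K`. -/
theorem exists_mem_T {g : G} (hg : g ∈ L.T₁) : ∃ v ∈ L.K, v * g ∈ L.T := by
  have := charP_res hM
  obtain ⟨hgN, hgf⟩ := hg
  have hmapZ : L.Z.map (MulAut.conj g).toMonoidHom = L.Z := map_conj_eq_self hgN
  have hO' : OverPair p L.Z (eA hM L.K L.blk) L.K (L.D.map (MulAut.conj g).toMonoidHom)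
      (conjA g L.e) := by
    refine ⟨L.pgroup.map _, hmapZ ▸ Subgroup.map_mono L.hZD, ?_, ?_, ?_⟩
    · rintro _ ⟨z, hz, rfl⟩
      exact (Subgroup.mem_normalizer_iff.1 (normalizer_le_normalizer_cz L.Z hgN) z).1 (L.D_le_K hz)
    · rw [cz_map_conj]; exact L.he.conjA g
    · conv_lhs => rw [← hgf]
      rw [← conjA_brMap, ← conjA_mul, L.blk_over.cover]
  obtain ⟨v, hv, hvle⟩ := L.setupK.exists_conj_le (hasBlocks hM) hO' L.blk_isDefect L.blk_over
  have hcard : (conjPair v (L.D.map (MulAut.conj g).toMonoidHom, conjA g L.e)).1 = L.D :=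
    Subgroup.eq_of_le_of_card_ge hvle.le (by
      show Nat.card L.D ≤ Nat.card ((L.D.map (MulAut.conj g).toMonoidHom).map
        (MulAut.conj v).toMonoidHom : Subgroup G)
      rw [Subgroup.card_map_of_injective (MulAut.conj v).injective,
        Subgroup.card_map_of_injective (MulAut.conj g).injective])
  have heq : conjPair (v * g) (L.D, L.e) = (L.D, L.e) := by
    rw [conjPair_mul]
    refine Prod.ext hcard (pairLE_unique (hasBlocks hM) (b := (L.D, L.e)) (Q := L.D) L.he L.pgroup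
      ?_ Relation.ReflTransGen.refl)
    have h' := hvle
    rw [show conjPair v (L.D.map (MulAut.conj g).toMonoidHom, conjA g L.e) =
      (L.D, (conjPair v (L.D.map (MulAut.conj g).toMonoidHom, conjA g L.e)).2) from
        Prod.ext hcard rfl] at h'
    exact h'
  exact ⟨v, hv, Fusion.mem_normalizer_of_forall fun z hz =>
    (show L.D.map (MulAut.conj (v * g)).toMonoidHom = L.D from congrArg Prod.fst heq).le ⟨z, hz, rfl⟩,
    congrArg Prod.snd heq⟩

/-- The inertial index is the same at `Z`. -/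
theorem relIndex_T₁ : L.K.relIndex L.T₁ = (cz L.D).relIndex L.T := by
  have hnorm : L.T ≤ Subgroup.normalizer ((L.K : Subgroup G) : Set G) := fun g hg =>
    normalizer_le_normalizer_cz L.Z (L.normalizer_le g hg.1)
  have heq : L.T₁ = L.T ⊔ L.K := by
    refine le_antisymm (fun g hg => ?_) (sup_le L.T_le_T₁ L.K_le_T₁)
    obtain ⟨v, hv, hvg⟩ := L.exists_mem_T hg
    rw [← inv_mul_cancel_left v g]
    exact Subgroup.mul_mem _ (Subgroup.mem_sup_right (L.K.inv_mem hv)) (Subgroup.mem_sup_left hvg)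
  haveI : (L.K.subgroupOf L.T).Normal := Subgroup.normal_subgroupOf_of_le_normalizer hnorm
  haveI : (L.K.subgroupOf (L.T ⊔ L.K)).Normal :=
    Subgroup.normal_subgroupOf_of_le_normalizer (sup_le hnorm Subgroup.le_normalizer)
  have h1 : L.K.relIndex (L.T ⊔ L.K) = L.K.relIndex L.T :=
    Nat.card_congr (QuotientGroup.quotientInfEquivProdNormalizerQuotient L.T L.K hnorm).toEquiv.symm
  rw [heq, h1, ← Subgroup.inf_relIndex_right L.K L.T, ← Subgroup.inf_relIndex_right (cz L.D) L.T]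
  congr 1
  exact le_antisymm (fun g hg => ⟨L.T_inf_K hg.2 hg.1, hg.2⟩) (inf_le_inf_right _ L.czD_le_K)

/-- The inertial index is prime to `p`. -/
theorem not_dvd_relIndex : ¬ p ∣ (cz L.D).relIndex L.T := by
  have := charP_res hM
  refine Cfsg.Agent.S4633.not_dvd_relIndex_of_trace L.setupT L.D_le_czD
    (isDefect_local hM L.hB L.setupT L.hcov ((isDefectGroup_iff hM L.hB L.D).1 L.hD) L.setupT.le ?_)
  rw [brMap_eq_self L.he.supp]
  exact L.he.ne_zero

theorem blk_rank_and_card : blockRank p L.blk = 1 ∧ Nat.card L.blk = Nat.card L.D := by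
  classical
  have := charP_res hM
  letI : ∀ H : Subgroup G, Fintype H := fun H => Fintype.ofFinite H
  obtain ⟨c, hc, hce⟩ := exists_eA_eq hM (K := cz L.D) L.he
  have hKmem := fun x : L.K => mem_cz_subgroupOf L.D_le_K x
  have hc0 := isPBlock_twist (M := M) (inEquiv L.czD_le_K hKmem) hc
  set e' := eA hM (cz (L.D.subgroupOf L.K)) (CharCorr.twistIrr (inEquiv L.czD_le_K hKmem) '' c)
  have hincl : inclA (ResK M) L.K e' = L.e := (inclA_eA hM L.czD_le_K hKmem c).trans hce
  have hcov' : brMap (ResK M) (L.D.subgroupOf L.K) (eG hM L.blk) * e' = e' := by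
    refine inclA_injective L.K ?_
    rw [map_mul, inclA_brMap, Subgroup.map_subgroupOf_eq_of_le L.D_le_K, inclA_eG, hincl]
    exact L.blk_over.cover
  have hcyc : IsCyclic (L.D.subgroupOf L.K) := by
    have := L.hcyc
    exact isCyclic_of_injective (Subgroup.subgroupOfEquivOfLe L.D_le_K).toMonoidHom
      (Subgroup.subgroupOfEquivOfLe L.D_le_K).injective
  have h := CyclicDefectBound.rank_and_card hM L.blk_isPBlock L.blk_defectGroup hcyc
    (isBlockIdem_eA hM hc0) hcov' fun g hgN hge => by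
      refine (hKmem g).2 (L.T_inf_K ⟨?_, ?_⟩ g.2)
      · refine Fusion.mem_normalizer_of_forall fun z hz => ?_
        exact Subgroup.mem_subgroupOf.1
          ((Subgroup.mem_normalizer_iff.1 hgN ⟨z, L.D_le_K hz⟩).1 (Subgroup.mem_subgroupOf.2 hz))
      · rw [← hincl, conjA_inclA, hge]
  exact ⟨h.1, h.2.trans (Nat.card_congr (Subgroup.subgroupOfEquivOfLe L.D_le_K).toEquiv)⟩

end Data

end CfsgLib.CyclicBlock
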