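import Mathlib.Algebra.Polynomial.AlgebraMap
import Mathlib.Algebra.Polynomial.RingDivision
import Mathlib.LinearAlgebra.Matrix.ToLin
import Mathlib.LinearAlgebra.Dimension.Constructions
import Mathlib.LinearAlgebra.FiniteDimensional.Basic
import Mathlib.RingTheory.Ideal.Basic
import Mathlib.RingTheory.Ideal.Operations
import Mathlib.Data.Matrix.Basis
import Mathlib.Tactic

/-!
# Blocks that are matrices over a truncated polynomial ring

A central idempotent corner of a finite dimensional algebra with one simple module of dimension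
`s`, a central nilpotent element `η` with `η ^ (n - 1) ≠ 0` and dimension at most `n s ^ 2` is
the matrix ring over `k[η]`: there are matrix units, and the corner of one of them is spanned by
the powers of `η`.
-/

set_option autoImplicit false

namespace CfsgLib.CyclicBlock

open Matrix

universe u v

variable {k : Type u} [Field k] {R : Type v} [Ring R] [Algebra k R]

/-- An idempotent congruent to an element whose defect from idempotence is nilpotent. -/
theorem exists_idem_poly (X : R) (h : IsNilpotent (X * X - X)) :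
    ∃ e : R, e * e = e ∧ ∀ {S : Type u} [Ring S] [Algebra k S] (φ : R →ₐ[k] S),
      φ X * φ X = φ X → φ e = φ X := by
  obtain ⟨N, hN⟩ := h
  set T : Polynomial k := Polynomial.X
  set P : Polynomial k := 1 - (1 - T ^ (N + 1)) ^ (N + 1) with hP
  have h1 : T ^ (N + 1) ∣ P := by
    rw [hP]
    have := sub_dvd_pow_sub_pow (1 : Polynomial k) (1 - T ^ (N + 1)) (N + 1)
    simpa using this
  have h2 : (1 - T) ^ (N + 1) ∣ 1 - P := by
    rw [hP, sub_sub_cancel]
    exact pow_dvd_pow_of_dvd (by simpa using sub_dvd_pow_sub_pow (1 : Polynomial k) T (N + 1)) _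
  refine ⟨Polynomial.aeval X P, ?_, fun {S} _ _ φ hX => ?_⟩
  · obtain ⟨Q, hQ⟩ := mul_dvd_mul h1 h2
    have h3 : P - P * P = (T - T * T) ^ (N + 1) * Q := by
      rw [show T - T * T = T * (1 - T) by ring, mul_pow, ← hQ]; ring
    have h4 := congrArg (Polynomial.aeval X) h3
    have hXT : Polynomial.aeval X T = X := Polynomial.aeval_X X
    generalize P = P' at h4 ⊢
    simp only [map_mul, map_pow, map_sub, hXT] at h4
    rw [show (X - X * X) ^ (N + 1) = 0 by
      rw [← neg_sub, neg_pow, pow_succ (X * X - X), hN, zero_mul, mul_zero], zero_mul,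
      sub_eq_zero] at h4
    exact h4.symm
  · have hpow : ∀ j, (φ X) ^ (j + 1) = φ X := fun j => by
      induction j with
      | zero => simp
      | succ j ih => rw [pow_succ, ih, hX]
    have hpow' : ∀ j, (1 - φ X) ^ (j + 1) = 1 - φ X := fun j => by
      induction j with
      | zero => simp
      | succ j ih => rw [pow_succ, ih, sub_mul, one_mul, mul_sub, mul_one, hX, sub_self, sub_zero]
    rw [← Polynomial.aeval_algHom_apply, hP, map_sub, map_one, map_pow, map_sub, map_one, map_pow,
      show Polynomial.aeval (φ X) T = φ X from Polynomial.aeval_X _, hpow, hpow', sub_sub_cancel]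

/-- Matrix units for the corner `f R` over the powers of `η`. -/
structure Split (f η : R) (n : ℕ) {s : ℕ} (o : Fin s) (π : R →ₐ[k] Matrix (Fin s) (Fin s) k) where
  i : R
  a : Fin s → R
  c : Fin s → R
  i_idem : i * i = i
  i_f : i * f = i
  i_c : ∀ p, i * c p = c p
  a_i : ∀ p, a p * i = a p
  c_a : ∀ p q, c p * a q = if p = q then i else 0
  sum_eq : ∑ p, a p * c p = f
  π_i : π i = Matrix.single o o 1
  π_a : ∀ p, π (a p) = Matrix.single p o 1
  π_c : ∀ p, π (c p) = Matrix.single o p 1
  corner : ∀ x, ∃ l : Fin n → k, i * x * i = ∑ j, l j • (η ^ (j : ℕ) * i)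
  eta_pow : η ^ n = 0
  eta_pow_ne : η ^ (n - 1) * i ≠ 0

variable [FiniteDimensional k R]

theorem mem_pow_of_mem {J : Ideal R} [J.IsTwoSided] {m : ℕ} {s : ℕ} {X : Matrix (Fin s) (Fin s) R}
    (hX : ∀ p q, X p q ∈ J) : ∀ p q, (X ^ m) p q ∈ J ^ m := by
  induction m with
  | zero => intro p q; simp [Submodule.pow_zero, Ideal.one_eq_top]
  | succ m ih =>
    intro p q
    rw [pow_succ, Matrix.mul_apply, Submodule.pow_succ]
    exact Ideal.sum_mem _ fun r _ => Ideal.mul_mem_mul (ih p r) (hX r q)

/-- The matrix units exist. -/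
theorem exists_split {f η : R} {n : ℕ} {s : ℕ} (o : Fin s)
    (π : R →ₐ[k] Matrix (Fin s) (Fin s) k) (hπ : Function.Surjective π)
    (hf : f * f = f) (hfc : ∀ x, f * x = x * f) (hπf : π f = 1)
    {J : Ideal R} [J.IsTwoSided] {M : ℕ} (hJ : J ^ M = ⊥)
    (hker : ∀ x, x * f = x → π x = 0 → x ∈ J)
    (hηc : ∀ x, η * x = x * η) (hηf : η * f = η) (hη : IsNilpotent η)
    (hn : 0 < n) (hne : η ^ (n - 1) ≠ 0)
    (hdim : Module.finrank k (LinearMap.range (LinearMap.mulLeft k f)) ≤ n * s ^ 2) :
    Nonempty (Split f η n o π) := by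
  classical
  have hnil : ∀ x, x * f = x → π x = 0 → IsNilpotent x := by
    intro x h1 h2
    refine ⟨M, ?_⟩
    have := Ideal.pow_mem_pow (hker x h1 h2) M
    rwa [hJ, Ideal.mem_bot] at this
  -- a lifted idempotent
  obtain ⟨X₀, hX₀⟩ := hπ (Matrix.single o o 1)
  set X := X₀ * f
  have hπX : π X = Matrix.single o o 1 := by rw [map_mul, hX₀, hπf, mul_one]
  obtain ⟨i₀, hi₀, hi₀'⟩ := exists_idem_poly (k := k) X (hnil _ (by
    rw [sub_mul, mul_assoc, show X * f = X by rw [mul_assoc, hf]]) (by
    rw [map_sub, map_mul, hπX, Matrix.single_mul_single_same, mul_one, sub_self]))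
  set i := i₀ * f with hidef
  have hπi : π i = Matrix.single o o 1 := by
    rw [map_mul, hi₀' π (by rw [hπX, Matrix.single_mul_single_same, mul_one]), hπX, hπf, mul_one]
  have hii : i * i = i := by
    rw [hidef, mul_assoc, ← mul_assoc f, hfc i₀, mul_assoc, hf, ← mul_assoc, hi₀]
  have hif : i * f = i := by rw [hidef, mul_assoc, hf]
  have hfi : f * i = i := by rw [hfc, hif]
  -- approximate matrix units
  choose la hla using fun p => hπ (Matrix.single p o (1 : k))
  choose lc hlc using fun p => hπ (Matrix.single o p (1 : k))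
  set a : Fin s → R := fun p => la p * i with hadef
  set c₀ : Fin s → R := fun p => i * lc p with hcdef
  have hπa : ∀ p, π (a p) = Matrix.single p o 1 := fun p => by
    rw [map_mul, hla, hπi, Matrix.single_mul_single_same, mul_one]
  have hπc₀ : ∀ p, π (c₀ p) = Matrix.single o p 1 := fun p => by
    rw [map_mul, hlc, hπi, Matrix.single_mul_single_same, one_mul]
  set D : Matrix (Fin s) (Fin s) R := Matrix.diagonal fun _ => i with hD
  set N : Matrix (Fin s) (Fin s) R := Matrix.of fun p q => c₀ p * a q with hN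
  have hentry : ∀ p q, (N - D) p q ∈ J ∧ (N - D) p q * i = (N - D) p q := by
    intro p q
    have hi' : (N - D) p q * i = (N - D) p q := by
      simp only [hN, hD, Matrix.sub_apply, Matrix.of_apply, sub_mul, hadef, mul_assoc, hii]
      by_cases h : p = q
      · subst h; rw [Matrix.diagonal_apply_eq, hii]
      · rw [Matrix.diagonal_apply_ne _ h, zero_mul]
    refine ⟨hker _ ?_ ?_, hi'⟩
    · rw [← hi', mul_assoc, hif]
    · simp only [hN, hD, Matrix.sub_apply, Matrix.of_apply, map_sub, map_mul, hπc₀, hπa]
      by_cases h : p = q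
      · subst h; rw [Matrix.diagonal_apply_eq, hπi, Matrix.single_mul_single_same, mul_one, sub_self]
      · rw [Matrix.diagonal_apply_ne _ h, map_zero, sub_zero, Matrix.single_mul_single_of_ne (h := h)]
  set Y := N - D with hY
  have hYD : Y * D = Y := by
    ext p q
    rw [hD, Matrix.mul_diagonal, (hentry p q).2]
  have hYM : Y ^ M = 0 := by
    ext p q
    have := mem_pow_of_mem (m := M) (fun p q => (hentry p q).1) p q
    rw [hJ, Ideal.mem_bot] at this
    simpa using this
  obtain ⟨W, hW⟩ : ∃ W : Matrix (Fin s) (Fin s) R, W * (1 + Y) = 1 :=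
    (IsNilpotent.isUnit_one_add ⟨M, hYM⟩).exists_left_inv
  have hWN : W * N = D := by
    rw [show N = (1 + Y) * D by rw [add_mul, one_mul, hYD, hY]; abel, ← mul_assoc, hW, one_mul]
  set c : Fin s → R := fun p => i * ∑ r, W p r * c₀ r with hc
  have hca : ∀ p q, c p * a q = if p = q then i else 0 := by
    intro p q
    have h := congrFun (congrFun hWN p) q
    rw [hN, hD, Matrix.mul_apply] at h
    simp only [Matrix.of_apply] at h
    rw [hc]
    simp only [mul_assoc, Finset.sum_mul]
    rw [h]
    by_cases hpq : p = q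
    · subst hpq; rw [Matrix.diagonal_apply_eq, if_pos rfl, hii]
    · rw [Matrix.diagonal_apply_ne _ hpq, if_neg hpq, mul_zero]
  have hic : ∀ p, i * c p = c p := fun p => by simp only [hc, ← mul_assoc, hii]
  have hai : ∀ p, a p * i = a p := fun p => by simp only [hadef, mul_assoc, hii]
  have hπc : ∀ p, π (c p) = Matrix.single o p 1 := by
    intro p
    have h1 : π (c p) = Matrix.single o o 1 * π (c p) := by rw [← hπi, ← map_mul, hic]
    ext x y
    have h2 := congrFun (congrFun (congrArg π (hca p y)) x) o
    rw [map_mul, hπa, Matrix.mul_single_apply_same, mul_one] at h2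
    rw [h2]
    by_cases hpy : p = y
    · subst hpy; rw [if_pos rfl, hπi, Matrix.single_apply, Matrix.single_apply]; simp
    · rw [if_neg hpy, map_zero, Matrix.single_apply]; simp [hpy]
  clear_value a c i
  have hfE : ∑ p, a p * c p = f := by
    set E := ∑ p, a p * c p
    have hEf : E * f = E := by
      simp only [E, Finset.sum_mul]
      refine Finset.sum_congr rfl fun p _ => ?_
      rw [← hai p, mul_assoc (a p) i, mul_assoc, mul_assoc i, ← hfc (c p), ← mul_assoc i f, hif]
    have hEE : E * E = E := by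
      simp only [E, Finset.sum_mul, Finset.mul_sum]
      refine Finset.sum_congr rfl fun p _ => ?_
      rw [Finset.sum_eq_single p]
      · rw [mul_assoc, ← mul_assoc (c p), hca, if_pos rfl, hic]
      · intro q _ hq
        rw [mul_assoc, ← mul_assoc (c q), hca, if_neg hq, zero_mul, mul_zero]
      · simp
    have hd : (f - E) * (f - E) = f - E := by
      rw [sub_mul, mul_sub, mul_sub, hf, hfc E, hEf, hEE, sub_self, sub_zero]
    obtain ⟨j, hj⟩ := hnil (f - E) (by rw [sub_mul, hf, hEf]) (by
      rw [map_sub, hπf, map_sum]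
      simp only [map_mul, hπa, hπc, Matrix.single_mul_single_same, mul_one]
      ext x y
      simp [Matrix.sub_apply, Matrix.sum_apply, Matrix.one_apply, Matrix.single_apply, ite_and])
    have hp : ∀ m : ℕ, (f - E) ^ (m + 1) = f - E := fun m => by
      induction m with
      | zero => simp
      | succ m ih => rw [pow_succ, ih, hd]
    have h0 := hp j
    rw [pow_succ, hj, zero_mul] at h0
    exact (sub_eq_zero.1 h0.symm).symm
  -- the corner of `i`
  set C : Submodule k R := LinearMap.range ((LinearMap.mulLeft k i).comp (LinearMap.mulRight k i))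
  have hmemC : ∀ x, i * x * i ∈ C := fun x => ⟨x, by simp [mul_assoc]⟩
  have hCfix : ∀ y ∈ C, i * y * i = y := by
    rintro _ ⟨x, rfl⟩
    simp only [LinearMap.coe_comp, Function.comp_apply, LinearMap.mulLeft_apply,
      LinearMap.mulRight_apply]
    rw [← mul_assoc i i, hii, mul_assoc i (x * i) i, mul_assoc x, hii]
  have hCdim : Module.finrank k C ≤ n := by
    let Φ : Matrix (Fin s) (Fin s) C →ₗ[k] LinearMap.range (LinearMap.mulLeft k f) :=
      { toFun := fun y => ⟨∑ p, ∑ q, a p * (y p q : R) * c q, ∑ p, ∑ q, a p * (y p q : R) * c q, by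
          simp only [LinearMap.mulLeft_apply, Finset.mul_sum]
          refine Finset.sum_congr rfl fun p _ => Finset.sum_congr rfl fun q _ => ?_
          rw [← mul_assoc, ← mul_assoc, hfc (a p), ← hai p, mul_assoc (a p) i, hif, hai]⟩
        map_add' := fun y z => Subtype.ext (by
          simp [mul_add, add_mul, Finset.sum_add_distrib])
        map_smul' := fun r y => Subtype.ext (by
          simp [mul_smul_comm, smul_mul_assoc, Finset.smul_sum]) }
    have hinj : Function.Injective Φ := by
      refine (injective_iff_map_eq_zero Φ).2 fun y hy => ?_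
      ext p q
      have h : c p * (Φ y : R) * a q = 0 := by rw [hy]; simp
      simp only [Φ, LinearMap.coe_mk, AddHom.coe_mk, Finset.mul_sum, Finset.sum_mul] at h
      rw [Finset.sum_eq_single p, Finset.sum_eq_single q] at h
      · rw [← mul_assoc, ← mul_assoc, hca, if_pos rfl, mul_assoc, hca, if_pos rfl,
          hCfix _ (y p q).2] at h
        simpa using h
      · intro r _ hr
        rw [mul_assoc, mul_assoc, hca, if_neg hr, mul_zero, mul_zero]
      · simp
      · intro r _ hr
        refine Finset.sum_eq_zero fun t _ => ?_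
        rw [← mul_assoc, ← mul_assoc, hca, if_neg (Ne.symm hr), zero_mul, zero_mul, zero_mul]
      · simp
    have h := (LinearMap.finrank_le_finrank_of_injective hinj).trans hdim
    rw [Module.finrank_matrix, Fintype.card_fin] at h
    exact Nat.le_of_mul_le_mul_left (by linarith [h, sq s]) (mul_pos o.pos o.pos)
  -- the powers of `η`
  obtain ⟨L, hL⟩ := hη
  have hex : ∃ j, η ^ j * i = 0 := ⟨L, by rw [hL, zero_mul]⟩
  set L₀ := Nat.find hex
  have hcomm : ∀ j x, η ^ j * x = x * η ^ j := fun j x => ((show Commute η x from hηc x).pow_left j).eq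
  have hzero : ∀ j, η ^ j * i = 0 → η ^ j * f = 0 := by
    intro j hj
    rw [← hfE, Finset.mul_sum]
    refine Finset.sum_eq_zero fun p _ => ?_
    rw [← hai p, ← mul_assoc, ← mul_assoc, hcomm j (a p), mul_assoc (a p), hj, mul_zero, zero_mul]
  have hpowf : ∀ j, 0 < j → η ^ j * f = η ^ j := fun j hj => by
    obtain ⟨j, rfl⟩ := Nat.exists_eq_succ_of_ne_zero hj.ne'
    rw [pow_succ, mul_assoc, hηf]
  have hnei : η ^ (n - 1) * i ≠ 0 := by
    intro h0
    rcases Nat.eq_zero_or_pos (n - 1) with h | h
    · rw [h, pow_zero, one_mul] at h0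
      have := congrArg π h0
      rw [hπi, map_zero] at this
      simpa using congrFun (congrFun this o) o
    · exact hne (by rw [← hpowf _ h, hzero _ h0])
  have hL₀ : n ≤ L₀ := by
    by_contra hlt
    push Not at hlt
    refine hnei ?_
    obtain ⟨d, hd⟩ := Nat.exists_eq_add_of_le (show L₀ ≤ n - 1 by omega)
    rw [hd, add_comm, pow_add, mul_assoc, Nat.find_spec hex, mul_zero]
  have hmemη : ∀ j, η ^ j * i ∈ C := fun j => by
    have := hmemC (η ^ j)
    rwa [← hcomm j i, mul_assoc, hii] at this
  set v : Fin L₀ → C := fun j => ⟨η ^ (j : ℕ) * i, hmemη j⟩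
  have hli : LinearIndependent k v := by
    rw [Fintype.linearIndependent_iff]
    intro l hl
    have hl' : ∑ j, l j • (η ^ (j : ℕ) * i) = 0 := by
      simpa [v, Submodule.coe_sum] using congrArg Subtype.val hl
    intro j
    induction hm : (j : ℕ) using Nat.strong_induction_on generalizing j with
    | _ m ih =>
      have h := congrArg (η ^ (L₀ - 1 - m) * ·) hl'
      simp only [Finset.mul_sum, mul_zero, mul_smul_comm, ← mul_assoc, ← pow_add] at h
      rw [Finset.sum_eq_single j] at h
      · refine (smul_eq_zero.1 h).resolve_right ?_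
        have := j.isLt
        exact Nat.find_min hex (by omega)
      · intro t _ ht
        rcases lt_or_gt_of_ne (fun h' => ht (Fin.ext h') : (t : ℕ) ≠ (j : ℕ)) with h' | h'
        · rw [ih t (by omega) t rfl, zero_smul]
        · obtain ⟨d, hd⟩ := Nat.exists_eq_add_of_le (show L₀ ≤ L₀ - 1 - m + (t : ℕ) by omega)
          rw [hd, add_comm, pow_add, mul_assoc, Nat.find_spec hex, mul_zero, smul_zero]
      · simp
  have hcard : L₀ ≤ n := by
    have := hli.fintype_card_le_finrank
    rw [Fintype.card_fin] at this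
    omega
  have heq : L₀ = n := le_antisymm hcard hL₀
  have hspan : Submodule.span k (Set.range v) = ⊤ := by
    refine Submodule.eq_top_of_finrank_eq (le_antisymm (Submodule.finrank_le _) ?_)
    rw [finrank_span_eq_card hli, Fintype.card_fin]
    omega
  refine ⟨⟨i, a, c, hii, hif, hic, hai, hca, hfE, hπi, hπa, hπc, fun x => ?_, ?_, hnei⟩⟩
  · obtain ⟨l, hl⟩ := (Submodule.mem_span_range_iff_exists_fun k).1
      (hspan ▸ Submodule.mem_top : (⟨_, hmemC x⟩ : C) ∈ Submodule.span k (Set.range v))
    refine ⟨fun j => l (Fin.cast heq.symm j), ?_⟩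
    have h := congrArg Subtype.val hl
    simp only [v, Submodule.coe_sum, Submodule.coe_smul] at h
    rw [← h]
    exact Fintype.sum_equiv (finCongr heq) _ _ fun j => by simp
  · rw [← hpowf n hn, hzero n (heq ▸ Nat.find_spec hex)]

namespace Split

variable {f η : R} {n : ℕ} {s : ℕ} {o : Fin s} {π : R →ₐ[k] Matrix (Fin s) (Fin s) k}
  (S : Split f η n o π)

include S

theorem expand {x : R} (hfx : f * x = x) (hxf : x * f = x) :
    x = ∑ p, ∑ q, S.a p * (S.i * (S.c p * x * S.a q) * S.i) * S.c q := by
  have h : ∀ p q, S.a p * (S.i * (S.c p * x * S.a q) * S.i) * S.c q =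
      S.a p * S.c p * x * (S.a q * S.c q) := by
    intro p q
    rw [← mul_assoc S.i, ← mul_assoc S.i, S.i_c, mul_assoc (S.c p * x) (S.a q), S.a_i]
    simp only [mul_assoc]
  simp only [h, ← Finset.mul_sum, ← Finset.sum_mul, S.sum_eq, hfx, hxf]

theorem map_eta (hηc : ∀ x, η * x = x * η) (hπ : Function.Surjective π) : π η = 0 := by
  have hn : IsNilpotent (π η) := ⟨n, by rw [← map_pow, S.eta_pow, map_zero]⟩
  have hc : ∀ y, Commute (π η) y := fun y => by
    obtain ⟨x, rfl⟩ := hπ y
    show _ * _ = _ * _
    rw [← map_mul, ← map_mul, hηc]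
  obtain ⟨r, hr⟩ := Matrix.mem_range_scalar_iff_commute_single.2 fun p q _ => (hc _).symm
  rw [← hr] at hn ⊢
  obtain ⟨m, hm⟩ := hn
  rw [← map_pow] at hm
  have h := congrFun (congrFun hm o) o
  simp only [Matrix.scalar_apply, Matrix.diagonal_apply_eq, Matrix.zero_apply] at h
  rw [show r = 0 from eq_zero_of_pow_eq_zero h, map_zero]

/-- The kernel of `η` on the corner is the image of its largest power. -/
theorem exists_of_eta_mul_eq_zero (hηc : ∀ x, η * x = x * η) {x : R} (hfx : f * x = x)
    (hxf : x * f = x) (hx : η * x = 0) : ∃ y, x = η ^ (n - 1) * y := by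
  classical
  have hcomm : ∀ j x, η ^ j * x = x * η ^ j := fun j x => ((show Commute η x from hηc x).pow_left j).eq
  choose l hl using fun p q => S.corner (S.c p * x * S.a q)
  have hlast : ∀ p q (j : Fin n), (j : ℕ) ≠ n - 1 → l p q j = 0 := by
    intro p q
    have hsum : ∑ j, l p q j • (η ^ ((j : ℕ) + 1) * S.i) = 0 := by
      have h : η * (S.i * (S.c p * x * S.a q) * S.i) = 0 := by
        simp only [← mul_assoc, hηc S.i]
        rw [mul_assoc S.i η, hηc (S.c p), ← mul_assoc S.i, mul_assoc _ η x, hx, mul_zero,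
          zero_mul, zero_mul]
      rw [hl, Finset.mul_sum] at h
      simpa [mul_smul_comm, pow_succ', mul_assoc] using h
    intro j hj
    induction hm : (j : ℕ) using Nat.strong_induction_on generalizing j with
    | _ m ih =>
      have h := congrArg (η ^ (n - 2 - m) * ·) hsum
      simp only [Finset.mul_sum, mul_zero, mul_smul_comm, ← mul_assoc, ← pow_add] at h
      have := j.isLt
      rw [Finset.sum_eq_single j] at h
      · refine (smul_eq_zero.1 h).resolve_right ?_
        rw [show n - 2 - m + ((j : ℕ) + 1) = n - 1 by omega]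
        exact S.eta_pow_ne
      · intro t _ ht
        rcases lt_or_gt_of_ne (fun h' => ht (Fin.ext h') : (t : ℕ) ≠ (j : ℕ)) with h' | h'
        · rw [ih t (by omega) t (by omega) rfl, zero_smul]
        · obtain ⟨d, hd⟩ := Nat.exists_eq_add_of_le (show n ≤ n - 2 - m + ((t : ℕ) + 1) by omega)
          rw [hd, pow_add, S.eta_pow, zero_mul, zero_mul, smul_zero]
      · simp
  refine ⟨∑ p, ∑ q, ∑ j, l p q j • (S.a p * S.i * S.c q), ?_⟩
  conv_lhs => rw [S.expand hfx hxf]
  simp only [Finset.mul_sum, mul_smul_comm]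
  refine Finset.sum_congr rfl fun p _ => Finset.sum_congr rfl fun q _ => ?_
  rw [hl, Finset.mul_sum, Finset.sum_mul]
  refine Finset.sum_congr rfl fun j _ => ?_
  by_cases hj : (j : ℕ) = n - 1
  · rw [mul_smul_comm, smul_mul_assoc, hj, ← mul_assoc (S.a p), ← hcomm _ (S.a p)]
    simp only [mul_assoc]
  · rw [hlast p q j hj, zero_smul, zero_smul, mul_zero, zero_mul]

/-- The kernel of `π` on the corner is generated by `η`. -/
theorem exists_of_map_eq_zero (hηc : ∀ x, η * x = x * η) (hπ : Function.Surjective π) {x : R}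
    (hfx : f * x = x) (hxf : x * f = x) (hx : π x = 0) : ∃ y, x = η * y := by
  classical
  have hη0 := S.map_eta hηc hπ
  choose l hl using fun p q => S.corner (S.c p * x * S.a q)
  have hzero : ∀ p q (j : Fin n), (j : ℕ) = 0 → l p q j = 0 := by
    intro p q j hj
    have h := congrArg π (hl p q)
    simp only [map_mul, map_sum, map_smul, map_pow, hx, hη0, mul_zero, zero_mul] at h
    rw [Finset.sum_eq_single j] at h
    · rw [hj, pow_zero, one_mul, S.π_i] at h
      simpa using (congrFun (congrFun h o) o).symm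
    · intro t _ ht
      rw [zero_pow (fun h' => ht (Fin.ext (h'.trans hj.symm))), zero_mul, smul_zero]
    · simp
  refine ⟨∑ p, ∑ q, ∑ j : Fin n, l p q j • (S.a p * (η ^ ((j : ℕ) - 1) * S.i) * S.c q), ?_⟩
  conv_lhs => rw [S.expand hfx hxf]
  simp only [Finset.mul_sum, mul_smul_comm]
  refine Finset.sum_congr rfl fun p _ => Finset.sum_congr rfl fun q _ => ?_
  rw [hl, Finset.mul_sum, Finset.sum_mul]
  refine Finset.sum_congr rfl fun j _ => ?_
  by_cases hj : (j : ℕ) = 0
  · rw [hzero p q j hj, zero_smul, zero_smul, mul_zero, zero_mul]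
  · obtain ⟨d, hd⟩ := Nat.exists_eq_succ_of_ne_zero hj
    rw [mul_smul_comm, smul_mul_assoc, hd, Nat.succ_sub_one, pow_succ' η, ← mul_assoc η,
      ← mul_assoc η, hηc (S.a p)]
    simp only [mul_assoc]

end Split

end CfsgLib.CyclicBlock
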