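import Cfsg.Agent.Lib.CyclicBlock.Split
import Cfsg.Agent.Lib.BrauerPairs.Setup
import Mathlib.LinearAlgebra.Eigenspace.Triangularizable
import Mathlib.LinearAlgebra.Dual.Lemmas
import Mathlib.Algebra.MonoidAlgebra.Basic

/-!
# Simple modules against the modules of a local stabiliser

For a block `f` of `K` that is a matrix ring over `k[η]`, with stabiliser `T₁`, a simple module
of `G` receives maps that do not fall into the image of `η ^ (n - 1)` from at most one extension
to `T₁` of the simple module of `f`.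
-/

set_option autoImplicit false
set_option linter.unusedSectionVars false

namespace CfsgLib.CyclicBlock

open MonoidAlgebra CfsgLib.BrauerPairs
open scoped Matrix

universe u v w

variable {k : Type u} [Field k] {G : Type v} [Group G]

/-- The local situation. -/
structure Local (k : Type u) [Field k] (G : Type v) [Group G] where
  D : Subgroup G
  K : Subgroup G
  T : Subgroup G
  N : Subgroup G
  hDK : D ≤ K
  hKT : K ≤ T
  hTN : T ≤ N
  hKn : T ≤ Subgroup.normalizer (K : Set G)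
  f : suppAlg k K
  η : suppAlg k K
  hfix : (f : MonoidAlgebra k G) ∈ fixAlg k T
  hf : f * f = f
  hηfix : (η : MonoidAlgebra k G) ∈ fixAlg k K
  hηf : η * f = η
  n : ℕ
  hn : 2 ≤ n
  s : ℕ
  o : Fin s
  π : suppAlg k K →ₐ[k] Matrix (Fin s) (Fin s) k
  hπ : Function.Surjective π
  hπf : π f = 1
  S : Split f η n o π
  w : MonoidAlgebra k G
  hw : w ∈ fixAlg k D
  hwf : relTr k D K w = (f : MonoidAlgebra k G)
  orth : ∀ q ∈ N, q ∉ T → conjA q (f : MonoidAlgebra k G) * (f : MonoidAlgebra k G) = 0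
  free : ∀ q, q ∉ N → ∀ d ∈ D, q⁻¹ * d * q ∈ D → d = 1
  he : ((K.relIndex T : ℕ) : k) ≠ 0

/-- The algebra map of a representation. -/
noncomputable abbrev act {V : Type w} [AddCommGroup V] [Module k V] (ρ : G →* Module.End k V) :
    MonoidAlgebra k G →ₐ[k] Module.End k V :=
  MonoidAlgebra.lift k (Module.End k V) G ρ

variable {V : Type w} [AddCommGroup V] [Module k V] (ρ : G →* Module.End k V)

theorem act_single (x : G) : act ρ (single x (1 : k)) = ρ x := by simp [act]

theorem rho_mul_inv (x : G) : ρ x * ρ x⁻¹ = 1 := by rw [← map_mul, mul_inv_cancel, map_one]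

theorem rho_inv_mul (x : G) : ρ x⁻¹ * ρ x = 1 := by rw [← map_mul, inv_mul_cancel, map_one]

/-- Conjugation of an endomorphism by the image of a group element. -/
def conjE (x : G) (h : Module.End k V) : Module.End k V := ρ x * h * ρ x⁻¹

theorem conjE_one (h : Module.End k V) : conjE ρ 1 h = h := by simp [conjE]

theorem conjE_mul (x y : G) (h : Module.End k V) :
    conjE ρ (x * y) h = conjE ρ x (conjE ρ y h) := by
  simp only [conjE, map_mul, mul_inv_rev, mul_assoc]

theorem conjE_act (x : G) (a : MonoidAlgebra k G) : conjE ρ x (act ρ a) = act ρ (conjA x a) := by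
  rw [conjE, conjA, map_mul, map_mul, act_single, act_single]

theorem conjE_mul' (x : G) (h h' : Module.End k V) :
    conjE ρ x (h * h') = conjE ρ x h * conjE ρ x h' := by
  rw [conjE, conjE, conjE]
  calc ρ x * (h * h') * ρ x⁻¹ = ρ x * h * (ρ x⁻¹ * ρ x) * h' * ρ x⁻¹ := by
        rw [rho_inv_mul, mul_one]; simp only [mul_assoc]
    _ = _ := by simp only [mul_assoc]

theorem conjE_sum {ι : Type*} (x : G) (S : Finset ι) (h : ι → Module.End k V) :
    conjE ρ x (∑ i ∈ S, h i) = ∑ i ∈ S, conjE ρ x (h i) := by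
  simp only [conjE, Finset.mul_sum, Finset.sum_mul]

theorem conjE_smul (x : G) (c : k) (h : Module.End k V) :
    conjE ρ x (c • h) = c • conjE ρ x h := by
  simp only [conjE, mul_smul_comm, smul_mul_assoc]

theorem conjE_eq_self_iff (x : G) (h : Module.End k V) :
    conjE ρ x h = h ↔ ρ x * h = h * ρ x := by
  constructor
  · intro e
    conv_rhs => rw [← e, conjE, mul_assoc, rho_inv_mul, mul_one]
  · intro e
    rw [conjE, e, mul_assoc, rho_mul_inv, mul_one]

/-- No invariant subspaces. -/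
def IsSimpleMod : Prop :=
  Nontrivial V ∧ ∀ W : Submodule k V, (∀ g, ∀ v ∈ W, ρ g v ∈ W) → W = ⊥ ∨ W = ⊤

theorem schur [IsAlgClosed k] [FiniteDimensional k V] (hs : IsSimpleMod ρ) {F : Module.End k V}
    (hF : ∀ g, conjE ρ g F = F) : ∃ c : k, F = c • 1 := by
  have := hs.1
  obtain ⟨c, hc⟩ := Module.End.exists_eigenvalue F
  refine ⟨c, ?_⟩
  have hinv : ∀ g, ∀ v ∈ F.eigenspace c, ρ g v ∈ F.eigenspace c := by
    intro g v hv
    rw [Module.End.mem_eigenspace_iff] at hv ⊢
    rw [← Module.End.mul_apply, ← (conjE_eq_self_iff ρ g F).1 (hF g), Module.End.mul_apply, hv,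
      map_smul]
  have htop := (hs.2 _ hinv).resolve_left hc
  ext v
  have := Module.End.mem_eigenspace_iff.1 (htop ▸ Submodule.mem_top : v ∈ F.eigenspace c)
  simpa using this

namespace Local

variable (L : Local k G)

theorem comm_K {a : MonoidAlgebra k G} (ha : a ∈ fixAlg k L.K) (x : suppAlg k L.K) :
    (x : MonoidAlgebra k G) * a = a * x := commute_of_supp_fix x.2 ha

theorem f_comm (x : suppAlg k L.K) : L.f * x = x * L.f :=
  Subtype.ext (L.comm_K (fixAlg_anti L.hKT L.hfix) x).symm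

theorem η_comm (x : suppAlg k L.K) : L.η * x = x * L.η :=
  Subtype.ext (L.comm_K L.hηfix x).symm

theorem f_a (p : Fin L.s) : L.f * L.S.a p = L.S.a p := by
  rw [L.f_comm, ← L.S.a_i p, mul_assoc, L.S.i_f]

theorem c_f (p : Fin L.s) : L.S.c p * L.f = L.S.c p := by
  rw [← L.S.i_c p, mul_assoc, ← L.f_comm, ← mul_assoc, L.S.i_f]

/-- A central nilpotent element acts as zero on the simple module. -/
theorem π_eq_zero {x : suppAlg k L.K} (hx : ∀ y, x * y = y * x) (hn : IsNilpotent x) :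
    L.π x = 0 := by
  obtain ⟨r, hr⟩ := Matrix.mem_range_scalar_iff_commute_single.2
    (fun p q _ => show Commute (Matrix.single p q (1 : k)) (L.π x) by
      obtain ⟨y, hy⟩ := L.hπ (Matrix.single p q 1)
      rw [← hy]
      show _ * _ = _ * _
      rw [← map_mul, ← map_mul, hx])
  obtain ⟨m, hm⟩ := hn.map L.π
  rw [← hr] at hm ⊢
  rw [← map_pow] at hm
  have h := congrFun (congrFun hm L.o) L.o
  simp only [Matrix.scalar_apply, Matrix.diagonal_apply_eq, Matrix.zero_apply] at h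
  rw [show r = 0 from eq_zero_of_pow_eq_zero h, map_zero]

theorem π_c_mulVec (p : Fin L.s) (v : Fin L.s → k) :
    L.π (L.S.c p) *ᵥ v = v p • Pi.single L.o (1 : k) := by
  funext q
  rw [L.S.π_c]
  simp [Matrix.mulVec, dotProduct, Matrix.single_apply, Pi.single_apply, eq_comm, ite_and]

theorem π_η : L.π L.η = 0 := L.π_eq_zero L.η_comm ⟨L.n, L.S.eta_pow⟩

/-- A conjugate of `η` is a multiple of it. -/
theorem exists_conj_eta [Fintype G] {t : G} (ht : t ∈ L.T) :
    ∃ y : suppAlg k L.K, conjA t (L.η : MonoidAlgebra k G) = (L.η : MonoidAlgebra k G) * y := by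
  have hmap := map_conj_eq_self (L.hKn ht)
  have hs : conjA t (L.η : MonoidAlgebra k G) ∈ suppAlg k L.K := by
    have := conjA_mem_suppAlg L.η.2 t
    rwa [hmap] at this
  have hfx : conjA t (L.η : MonoidAlgebra k G) ∈ fixAlg k L.K := by
    have := conjA_mem_fixAlg L.hηfix t
    rwa [hmap] at this
  set x : suppAlg k L.K := ⟨_, hs⟩
  have hxf : x * L.f = x := Subtype.ext (by
    show conjA t (L.η : MonoidAlgebra k G) * L.f = _
    rw [← L.hfix t ht, ← conjA_mul]
    exact congrArg (conjA t) (congrArg Subtype.val L.hηf))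
  have hxc : ∀ y, x * y = y * x := fun y => Subtype.ext (L.comm_K hfx y).symm
  have hπx : L.π x = 0 := L.π_eq_zero hxc ⟨L.n, Subtype.ext (by
    show (conjA t (L.η : MonoidAlgebra k G)) ^ L.n = 0
    rw [← conjA_pow, show ((L.η : MonoidAlgebra k G)) ^ L.n = 0 from congrArg Subtype.val L.S.eta_pow,
      conjA_zero])⟩
  obtain ⟨y, hy⟩ := L.S.exists_of_map_eq_zero L.η_comm L.hπ (by rw [L.f_comm, hxf]) hxf hπx
  exact ⟨y, congrArg Subtype.val hy⟩

/-- The action of an element of `k[K]`. -/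
noncomputable def A (x : suppAlg k L.K) : Module.End k V := act ρ (x : MonoidAlgebra k G)

theorem A_mul (x y : suppAlg k L.K) : L.A ρ (x * y) = L.A ρ x * L.A ρ y := map_mul (act ρ) _ _

theorem A_pow (x : suppAlg k L.K) (m : ℕ) : L.A ρ (x ^ m) = L.A ρ x ^ m := map_pow (act ρ) _ _

theorem A_add (x y : suppAlg k L.K) : L.A ρ (x + y) = L.A ρ x + L.A ρ y := map_add (act ρ) _ _

theorem A_smul (c : k) (x : suppAlg k L.K) : L.A ρ (c • x) = c • L.A ρ x := map_smul (act ρ) _ _

theorem A_sum {ι : Type*} (S : Finset ι) (x : ι → suppAlg k L.K) :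
    L.A ρ (∑ i ∈ S, x i) = ∑ i ∈ S, L.A ρ (x i) := by
  simp only [A, AddSubmonoidClass.coe_finsetSum, map_sum]

theorem A_zero : L.A ρ (0 : suppAlg k L.K) = 0 := map_zero (act ρ)

/-- The image of the largest power of `η`. -/
noncomputable def top : Submodule k V := LinearMap.range (L.A ρ (L.η ^ (L.n - 1)))

theorem rho_eta_pow [Fintype G] {t : G} (ht : t ∈ L.T) (m : ℕ) :
    ∃ Y : Module.End k V, ρ t * L.A ρ (L.η ^ m) = L.A ρ (L.η ^ m) * Y * ρ t := by
  obtain ⟨y, hy⟩ := L.exists_conj_eta ht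
  refine ⟨L.A ρ (y ^ m), ?_⟩
  have h : conjE ρ t (L.A ρ (L.η ^ m)) = L.A ρ (L.η ^ m) * L.A ρ (y ^ m) := by
    rw [← A_mul]
    show conjE ρ t (act ρ _) = act ρ _
    rw [conjE_act]
    rw [Subalgebra.coe_pow, conjA_pow, hy,
      show ((L.η ^ m * y ^ m : suppAlg k L.K) : MonoidAlgebra k G) =
        ((L.η * y) ^ m : suppAlg k L.K) by rw [(show Commute L.η y from L.η_comm y).mul_pow]]
    rfl
  rw [← h, conjE, mul_assoc, rho_inv_mul, mul_one]

theorem top_stable [Fintype G] {t : G} (ht : t ∈ L.T) {v : V} (hv : v ∈ L.top ρ) :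
    ρ t v ∈ L.top ρ := by
  obtain ⟨y, rfl⟩ := hv
  obtain ⟨Y, hY⟩ := L.rho_eta_pow ρ ht (L.n - 1)
  exact ⟨Y (ρ t y), (LinearMap.congr_fun hY y).symm⟩

theorem ker_stable [Fintype G] {t : G} (ht : t ∈ L.T) {v : V} (hv : L.A ρ L.η v = 0) :
    L.A ρ L.η (ρ t v) = 0 := by
  obtain ⟨y, hy⟩ := L.exists_conj_eta (Subgroup.inv_mem _ ht)
  have h : ρ t⁻¹ * L.A ρ L.η = L.A ρ (y * L.η) * ρ t⁻¹ := by
    rw [← L.η_comm, A, A, Subalgebra.coe_mul, ← hy, ← conjE_act, conjE, mul_assoc _ (ρ t⁻¹⁻¹),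
      ← map_mul ρ, inv_inv, mul_inv_cancel, map_one, mul_one]
  have h2 := LinearMap.congr_fun h (ρ t v)
  simp only [Module.End.mul_apply] at h2
  rw [← Module.End.mul_apply (ρ t⁻¹) (ρ t), rho_inv_mul, Module.End.one_apply, A_mul,
    Module.End.mul_apply, hv, map_zero] at h2
  calc L.A ρ L.η (ρ t v) = (ρ t * ρ t⁻¹) (L.A ρ L.η (ρ t v)) := by rw [rho_mul_inv]; rfl
    _ = 0 := by rw [Module.End.mul_apply, h2, map_zero]

/-- A trace from the trivial subgroup to `K` maps the kernel of `η` into the top. -/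
theorem trace_mem_top [Fintype G] [Fintype L.K] [FiniteDimensional k V] (h : Module.End k V)
    {v : V} (hfv : L.A ρ L.f v = v) (hηv : L.A ρ L.η v = 0) :
    (∑ x : L.K, conjE ρ (x : G) h) v ∈ L.top ρ := by
  classical
  set b := Module.finBasis k V
  -- the coordinates
  set X : Fin (Module.finrank k V) → V →ₗ[k] MonoidAlgebra k G := fun j =>
    ∑ x : L.K, (MonoidAlgebra.lsingle (x : G)).comp ((b.coord j).comp (h * ρ (x : G)⁻¹)) with hX
  have hXapp : ∀ j u, X j u = ∑ x : L.K, single (x : G) (b.coord j (h (ρ (x : G)⁻¹ u))) :=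
    fun j u => by simp [X, LinearMap.sum_apply]
  clear_value X
  have hXs : ∀ j u, X j u ∈ suppAlg k L.K := fun j u => by
    rw [hXapp]; exact Subalgebra.sum_mem _ fun x _ => single_mem_suppAlg x.2 _
  have hequiv : ∀ j (y : suppAlg k L.K) u, (y : MonoidAlgebra k G) * X j u = X j (L.A ρ y u) := by
    intro j y u
    have hsingle : ∀ g ∈ L.K, single g (1 : k) * X j u = X j (ρ g u) := by
      intro g hg
      rw [hXapp, hXapp, Finset.mul_sum]
      refine Fintype.sum_equiv (Equiv.mulLeft (⟨g, hg⟩ : L.K)) _ _ fun x => ?_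
      simp only [single_mul_single, one_mul, Equiv.coe_mulLeft, Subgroup.coe_mul, mul_inv_rev,
        map_mul, Module.End.mul_apply]
      rw [← Module.End.mul_apply (ρ g⁻¹) (ρ g), rho_inv_mul, Module.End.one_apply]
    have hy : (y : MonoidAlgebra k G) = ∑ g ∈ (y : MonoidAlgebra k G).coeff.support,
        (y : MonoidAlgebra k G).coeff g • single g (1 : k) := by
      conv_lhs => rw [← sum_coeff_single (y : MonoidAlgebra k G)]
      exact Finset.sum_congr rfl fun g _ => by simp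
    rw [A, hy, Finset.sum_mul, map_sum, LinearMap.sum_apply, map_sum]
    refine Finset.sum_congr rfl fun g hg => ?_
    rw [smul_mul_assoc, hsingle g (y.2 g (Finsupp.mem_support_iff.1 hg)), map_smul, act_single,
      LinearMap.smul_apply, map_smul]
  have hres : (∑ x : L.K, conjE ρ (x : G) h) v = ∑ j, act ρ (X j v) (b j) := by
    simp only [hXapp, map_sum, LinearMap.sum_apply]
    rw [Finset.sum_comm]
    refine Finset.sum_congr rfl fun x _ => ?_
    rw [conjE, Module.End.mul_apply, Module.End.mul_apply]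
    conv_lhs => rw [← b.sum_repr (h (ρ (x : G)⁻¹ v)), map_sum]
    refine Finset.sum_congr rfl fun j _ => ?_
    rw [map_smul, MonoidAlgebra.lift_single]
    rfl
  rw [hres]
  refine Submodule.sum_mem _ fun j _ => ?_
  set x : suppAlg k L.K := ⟨X j v, hXs j v⟩
  have hfx : L.f * x = x := Subtype.ext (by
    show (L.f : MonoidAlgebra k G) * X j v = X j v
    rw [hequiv, hfv])
  obtain ⟨y, hy⟩ := L.S.exists_of_eta_mul_eq_zero L.η_comm hfx (by rw [← L.f_comm, hfx])
    (Subtype.ext (by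
      show (L.η : MonoidAlgebra k G) * X j v = 0
      rw [hequiv, hηv, map_zero]))
  refine ⟨L.A ρ y (b j), ?_⟩
  rw [← Module.End.mul_apply, ← A_mul, ← hy]
  rfl

/-- A stable endomorphism of the local part of a simple module is a scalar. -/
theorem stable_scalar [Fintype G] [IsAlgClosed k] [FiniteDimensional k V] (hs : IsSimpleMod ρ)
    {g : Module.End k V} (hg : ∀ t ∈ L.T, ρ t * g = g * ρ t) (hfg : L.A ρ L.f * g = g)
    (hgf : g * L.A ρ L.f = g) :
    ∃ c : k, ∀ v, L.A ρ L.f v = v → L.A ρ L.η v = 0 → g v - c • v ∈ L.top ρ := by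
  classical
  set P := act ρ L.w with hP
  set Q := L.A ρ L.f with hQ
  have hDT : L.D ≤ L.T := L.hDK.trans L.hKT
  have hgE : ∀ t ∈ L.T, conjE ρ t g = g := fun t ht => (conjE_eq_self_iff ρ t g).2 (hg t ht)
  have hPE : ∀ d ∈ L.D, conjE ρ d P = P := fun d hd => by rw [hP, conjE_act, L.hw d hd]
  have hQE : ∀ t ∈ L.T, conjE ρ t Q = Q := fun t ht => by rw [hQ, A, conjE_act, L.hfix t ht]
  set g' := g * P
  have hg'E : ∀ d ∈ L.D, conjE ρ d g' = g' := fun d hd => by
    rw [conjE_mul', hgE d (hDT hd), hPE d hd]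
  have hwell : ∀ (x : G), conjE ρ (((QuotientGroup.mk x : G ⧸ L.D)).out) g' = conjE ρ x g' := by
    intro x
    obtain ⟨⟨d, hd⟩, hx⟩ := QuotientGroup.mk_out_eq_mul L.D x
    rw [hx, conjE_mul, hg'E d hd]
  letI : Fintype (G ⧸ L.D) := Fintype.ofFinite _
  set F := ∑ q : G ⧸ L.D, conjE ρ q.out g'
  have hF : ∀ x, conjE ρ x F = F := by
    intro x
    rw [conjE_sum]
    refine Fintype.sum_equiv (MulAction.toPerm x) _ _ fun q => ?_
    obtain ⟨y, rfl⟩ := QuotientGroup.mk_surjective q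
    rw [MulAction.toPerm_apply, MulAction.Quotient.smul_mk, smul_eq_mul, hwell, hwell, conjE_mul]
  obtain ⟨c, hc⟩ := schur ρ hs hF
  set H : G ⧸ L.D → Module.End k V := fun q => Q * conjE ρ q.out g' * Q
  have hH : c • Q = ∑ q, H q := by
    have h1 : Q * F * Q = ∑ q, H q := by simp only [F, H, Finset.mul_sum, Finset.sum_mul]
    rw [← h1, hc, mul_smul_comm, mul_one, smul_mul_assoc, hQ, ← A_mul, L.hf]
  -- the cosets in `T`
  have hmem : ∀ (x : G) {S : Subgroup G}, L.D ≤ S →
      (((QuotientGroup.mk x : G ⧸ L.D)).out ∈ S ↔ x ∈ S) := by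
    intro x S hS
    obtain ⟨⟨d, hd⟩, hx⟩ := QuotientGroup.mk_out_eq_mul L.D x
    rw [hx, Subgroup.mul_mem_cancel_right _ (hS hd)]
  have hTsum : ∑ q ∈ Finset.univ.filter (fun q : G ⧸ L.D => q.out ∈ L.T), H q =
      ((L.K.relIndex L.T : ℕ) : k) • g := by
    have hval : ∀ t ∈ L.T, Q * conjE ρ t g' * Q = g * act ρ (conjA t L.w) * Q := fun t ht => by
      rw [conjE_mul', hgE t ht, ← mul_assoc Q, hfg, hP, conjE_act]
    have h1 : ∑ q ∈ Finset.univ.filter (fun q : G ⧸ L.D => q.out ∈ L.T), H q =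
        g * act ρ (relTr k L.D L.T L.w) * Q := by
      rw [relTr_eq_sum, map_sum, Finset.mul_sum, Finset.sum_mul]
      symm
      refine Finset.sum_bij (fun q _ => QuotientGroup.mk ((q.out : L.T) : G)) (fun q _ => ?_)
        (fun q _ q' _ h => ?_) (fun q hq => ?_) (fun q _ => ?_)
      · exact Finset.mem_filter.2 ⟨Finset.mem_univ _, (hmem _ hDT).2 (q.out).2⟩
      · rw [← q.out_eq', ← q'.out_eq', QuotientGroup.eq, Subgroup.mem_subgroupOf]
        exact QuotientGroup.eq.1 h
      · obtain ⟨-, hq⟩ := Finset.mem_filter.1 hq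
        refine ⟨QuotientGroup.mk ⟨q.out, hq⟩, Finset.mem_univ _, ?_⟩
        obtain ⟨⟨d, hd⟩, hx⟩ := QuotientGroup.mk_out_eq_mul (L.D.subgroupOf L.T) (⟨q.out, hq⟩ : L.T)
        conv_rhs => rw [← q.out_eq']
        rw [hx, QuotientGroup.eq]
        simpa using L.D.inv_mem (Subgroup.mem_subgroupOf.1 hd)
      · show _ = Q * _ * Q
        rw [hwell, hval _ (q.out).2]
    rw [h1, ← relTr_relTr L.hDK L.hKT L.hw, L.hwf, relTr_of_fixed L.hfix, map_smul, mul_smul_comm,
      smul_mul_assoc]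
    show _ • (g * Q * Q) = _
    rw [hgf, hgf]
  -- the cosets outside
  set X := Finset.univ.filter (fun q : G ⧸ L.D => q.out ∉ L.N)
  have hsplit : ∑ q, H q = ((L.K.relIndex L.T : ℕ) : k) • g + ∑ q ∈ X, H q := by
    rw [← hTsum, ← Finset.sum_filter_add_sum_filter_not Finset.univ
      (fun q : G ⧸ L.D => q.out ∈ L.T)]
    congr 1
    symm
    refine Finset.sum_subset (fun q hq => Finset.mem_filter.2 ⟨Finset.mem_univ _, fun h =>
      (Finset.mem_filter.1 hq).2 (L.hTN h)⟩) fun q hq hqX => ?_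
    obtain ⟨-, hqT⟩ := Finset.mem_filter.1 hq
    have hqN : q.out ∈ L.N := not_not.1 fun h => hqX (Finset.mem_filter.2 ⟨Finset.mem_univ _, h⟩)
    have hz : Q * ρ q.out * Q = 0 := by
      have h0 := L.orth q.out⁻¹ (L.N.inv_mem hqN) (fun h => hqT (inv_inv q.out ▸ L.T.inv_mem h))
      have h1 : Q * ρ q.out = ρ q.out * act ρ (conjA q.out⁻¹ (L.f : MonoidAlgebra k G)) := by
        rw [← conjE_act, conjE, inv_inv, ← mul_assoc, ← mul_assoc, rho_mul_inv, one_mul]
        rfl
      rw [h1, mul_assoc, hQ, A, ← map_mul, h0, map_zero, mul_zero]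
    show Q * (ρ q.out * (g * P) * ρ q.out⁻¹) * Q = 0
    rw [← hfg]
    simp only [← mul_assoc]
    rw [hz, zero_mul, zero_mul, zero_mul, zero_mul]
  -- a transversal for the action of `D`
  let rep : G ⧸ L.D → G ⧸ L.D := fun q => Quotient.out (Quotient.mk (MulAction.orbitRel L.D (G ⧸ L.D)) q)
  set h := ∑ q ∈ X.filter (fun q => rep q = q), H q
  have hHd : ∀ (d : L.D) q, conjE ρ (d : G) (H q) = H (d • q) := by
    intro d q
    obtain ⟨y, rfl⟩ := QuotientGroup.mk_surjective q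
    show conjE ρ (d : G) (Q * _ * Q) = Q * _ * Q
    rw [show d • (QuotientGroup.mk y : G ⧸ L.D) = QuotientGroup.mk ((d : G) * y) from rfl, hwell,
      hwell, conjE_mul', conjE_mul', hQE _ (hDT d.2), conjE_mul]
  have hXd : ∀ (d : L.D) q, q ∈ X → d • q ∈ X := by
    intro d q hq
    obtain ⟨y, rfl⟩ := QuotientGroup.mk_surjective q
    obtain ⟨-, hy⟩ := Finset.mem_filter.1 hq
    refine Finset.mem_filter.2 ⟨Finset.mem_univ _, ?_⟩
    rw [show d • (QuotientGroup.mk y : G ⧸ L.D) = QuotientGroup.mk ((d : G) * y) from rfl]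
    rwa [hmem _ (hDT.trans L.hTN), Subgroup.mul_mem_cancel_left _ (L.hTN (hDT d.2)),
      ← hmem _ (hDT.trans L.hTN)]
  have hfree : ∀ q ∈ X, ∀ d : L.D, d • q = q → d = 1 := by
    intro q hq d hd
    obtain ⟨y, rfl⟩ := QuotientGroup.mk_surjective q
    rw [show d • (QuotientGroup.mk y : G ⧸ L.D) = QuotientGroup.mk ((d : G) * y) from rfl,
      QuotientGroup.eq] at hd
    refine Subtype.ext (inv_eq_one.1 (L.free y ?_ _ (L.D.inv_mem d.2) ?_))
    · exact fun h => (Finset.mem_filter.1 hq).2 ((hmem _ (hDT.trans L.hTN)).2 h)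
    · simpa [mul_assoc] using hd
  have hrep : ∀ q, ∃ d : L.D, d • rep q = q := fun q => by
    have hr : MulAction.orbitRel L.D (G ⧸ L.D) q (rep q) :=
      Quotient.exact (Quotient.out_eq (Quotient.mk (MulAction.orbitRel L.D (G ⧸ L.D)) q)).symm
    exact MulAction.mem_orbit_iff.1 hr
  have hrepd : ∀ (d : L.D) q, rep (d • q) = rep q := fun d q =>
    congrArg Quotient.out (Quotient.sound (s := MulAction.orbitRel L.D (G ⧸ L.D))
      (MulAction.mem_orbit q d))
  have hXsum : ∑ q ∈ X, H q = ∑ d : L.D, conjE ρ (d : G) h := by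
    simp only [h, conjE_sum, hHd]
    rw [← Finset.sum_product']
    symm
    refine Finset.sum_bij (fun (a : L.D × (G ⧸ L.D)) _ => a.1 • a.2) (fun a ha => ?_)
      (fun a ha b hb hab => ?_) (fun q hq => ?_) (fun a _ => rfl)
    · exact hXd _ _ (Finset.mem_filter.1 (Finset.mem_product.1 ha).2).1
    · obtain ⟨haX, har⟩ := Finset.mem_filter.1 (Finset.mem_product.1 ha).2
      obtain ⟨-, hbr⟩ := Finset.mem_filter.1 (Finset.mem_product.1 hb).2
      have h2 : a.2 = b.2 := by rw [← har, ← hbr, ← hrepd a.1 a.2, ← hrepd b.1 b.2, hab]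
      refine Prod.ext ?_ h2
      have h3 : (b.1⁻¹ * a.1) • a.2 = a.2 := by rw [mul_smul, hab, inv_smul_smul, h2]
      exact (inv_mul_eq_one.1 (hfree _ haX _ h3)).symm
    · obtain ⟨d, hd⟩ := hrep q
      refine ⟨(d, rep q), Finset.mem_product.2 ⟨Finset.mem_univ _, Finset.mem_filter.2 ⟨?_, ?_⟩⟩, hd⟩
      · have := hXd d⁻¹ q hq
        rwa [← hd, inv_smul_smul] at this
      · exact (hrepd d (rep q)).symm.trans (congrArg rep hd)
  set e := ((L.K.relIndex L.T : ℕ) : k)
  set c' := c * e⁻¹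
  set h' := -(e⁻¹) • h
  have hXeq : g - c' • Q = ∑ d : L.D, conjE ρ (d : G) h' := by
    simp only [h', conjE_smul, ← Finset.smul_sum, ← hXsum]
    have h1 : ∑ q ∈ X, H q = c • Q - e • g := by rw [hH, hsplit]; abel
    rw [h1, smul_sub, smul_smul, smul_smul, neg_mul, neg_mul, inv_mul_cancel₀ (show e ≠ 0 from L.he), neg_smul, neg_smul,
      one_smul, mul_comm e⁻¹ c]
    abel
  refine ⟨c', fun v hfv hηv => ?_⟩
  letI : Fintype L.K := Fintype.ofFinite _
  have key : g - c' • Q = ∑ x : L.K, conjE ρ (x : G) (P * h') := by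
    have hXK : ∀ x ∈ L.K, conjE ρ x (g - c' • Q) = g - c' • Q := fun x hx => by
      rw [conjE, mul_sub, sub_mul, mul_smul_comm, smul_mul_assoc]
      show conjE ρ x g - c' • conjE ρ x Q = _
      rw [hgE x (L.hKT hx), hQE x (L.hKT hx)]
    calc g - c' • Q = Q * (g - c' • Q) := by
          rw [mul_sub, hfg, mul_smul_comm, hQ, ← A_mul, L.hf]
      _ = ∑ q : L.K ⧸ L.D.subgroupOf L.K, conjE ρ ((q.out : L.K) : G) P * (g - c' • Q) := by
          rw [hQ, A, ← L.hwf, relTr_eq_sum, map_sum, Finset.sum_mul]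
          exact Finset.sum_congr rfl fun q _ => by rw [hP, conjE_act]
      _ = ∑ q : L.K ⧸ L.D.subgroupOf L.K, ∑ d : L.D,
            conjE ρ (((q.out : L.K) : G) * (d : G)) (P * h') := by
          refine Finset.sum_congr rfl fun q _ => ?_
          conv_lhs => rw [← hXK _ (q.out).2, ← conjE_mul', hXeq, Finset.mul_sum, conjE_sum]
          refine Finset.sum_congr rfl fun d _ => ?_
          rw [conjE_mul, conjE_mul' ρ (d : G) P h', hPE _ d.2]
      _ = _ := by
          rw [← Fintype.sum_prod_type']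
          refine Fintype.sum_bijective
            (fun a : (L.K ⧸ L.D.subgroupOf L.K) × L.D => a.1.out * (⟨a.2, L.hDK a.2.2⟩ : L.K)) ?_ _ _
            (fun a => rfl)
          constructor
          · rintro ⟨q, d⟩ ⟨q', d'⟩ hqd
            have h1 : q = q' := by
              rw [← q.out_eq', ← q'.out_eq', QuotientGroup.eq, Subgroup.mem_subgroupOf]
              have hv : ((q.out : L.K) : G) * d = ((q'.out : L.K) : G) * d' :=
                congrArg Subtype.val hqd
              have : ((q.out : L.K) : G)⁻¹ * (q'.out : L.K) = (d : G) * (d' : G)⁻¹ := by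
                rw [eq_mul_inv_iff_mul_eq, mul_assoc, ← hv, inv_mul_cancel_left]
              simp only [Subgroup.coe_mul, Subgroup.coe_inv, this]
              exact L.D.mul_mem d.2 (L.D.inv_mem d'.2)
            subst h1
            refine Prod.ext rfl (Subtype.ext ?_)
            exact mul_left_cancel (congrArg Subtype.val hqd)
          · intro x
            obtain ⟨⟨d, hd⟩, hx⟩ := QuotientGroup.mk_out_eq_mul (L.D.subgroupOf L.K) x
            refine ⟨(QuotientGroup.mk x, ⟨(d : G)⁻¹, L.D.inv_mem (Subgroup.mem_subgroupOf.1 hd)⟩), ?_⟩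
            refine Subtype.ext ?_
            show ((((QuotientGroup.mk x : L.K ⧸ L.D.subgroupOf L.K).out : L.K)) : G) * (d : G)⁻¹ = x
            rw [hx]
            simp
  have h2 := L.trace_mem_top ρ (P * h') hfv hηv
  rw [← key, LinearMap.sub_apply, LinearMap.smul_apply, hQ, hfv] at h2
  exact h2

/-- An equivariant map from an extension of the simple module. -/
structure IsHom (τ : L.T →* Matrix (Fin L.s) (Fin L.s) k) (σ : (Fin L.s → k) →ₗ[k] V) : Prop where
  equivariant : ∀ (t : L.T) v, ρ (t : G) (σ v) = σ (τ t *ᵥ v)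

/-- An extension of the simple module. -/
def IsExt (τ : L.T →* Matrix (Fin L.s) (Fin L.s) k) : Prop :=
  ∀ (x : L.T) (hx : (x : G) ∈ L.K), τ x = L.π ⟨single (x : G) 1, single_mem_suppAlg hx 1⟩

variable {L} {τ τ' : L.T →* Matrix (Fin L.s) (Fin L.s) k} {σ σ' : (Fin L.s → k) →ₗ[k] V}

theorem IsHom.act (hτ : L.IsExt τ) (hσ : L.IsHom ρ τ σ) (y : suppAlg k L.K) (v : Fin L.s → k) :
    L.A ρ y (σ v) = σ (L.π y *ᵥ v) := by
  classical
  have hy : y = ∑ g ∈ (y : MonoidAlgebra k G).coeff.support.attach,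
      (y : MonoidAlgebra k G).coeff g.1 • (⟨single g.1 (1 : k),
        single_mem_suppAlg (y.2 g.1 (Finsupp.mem_support_iff.1 g.2)) 1⟩ : suppAlg k L.K) := by
    refine Subtype.ext ?_
    simp only [AddSubmonoidClass.coe_finsetSum, Subalgebra.coe_smul]
    rw [Finset.sum_attach _ (fun g => (y : MonoidAlgebra k G).coeff g • single g (1 : k))]
    conv_lhs => rw [← sum_coeff_single (y : MonoidAlgebra k G)]
    exact Finset.sum_congr rfl fun g _ => by simp
  rw [hy, A_sum, map_sum, LinearMap.sum_apply, Matrix.sum_mulVec, map_sum]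
  refine Finset.sum_congr rfl fun g _ => ?_
  have hgK := y.2 g.1 (Finsupp.mem_support_iff.1 g.2)
  rw [A_smul, map_smul, LinearMap.smul_apply, Matrix.smul_mulVec, map_smul]
  congr 1
  show CfsgLib.CyclicBlock.act ρ (single g.1 (1 : k)) (σ v) = _
  rw [act_single, ← hτ ⟨g.1, L.hKT hgK⟩ hgK]
  exact hσ.equivariant ⟨g.1, L.hKT hgK⟩ v

theorem IsHom.f_apply (hτ : L.IsExt τ) (hσ : L.IsHom ρ τ σ) (v : Fin L.s → k) :
    L.A ρ L.f (σ v) = σ v := by rw [hσ.act ρ hτ, L.hπf, Matrix.one_mulVec]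

theorem IsHom.η_apply (hτ : L.IsExt τ) (hσ : L.IsHom ρ τ σ) (v : Fin L.s → k) :
    L.A ρ L.η (σ v) = 0 := by rw [hσ.act ρ hτ, L.π_η, Matrix.zero_mulVec, map_zero]

theorem IsHom.first_notMem (hτ : L.IsExt τ) (hσ : L.IsHom ρ τ σ) (hne : ∃ v, σ v ∉ L.top ρ) :
    σ (Pi.single L.o 1) ∉ L.top ρ := by
  intro h
  obtain ⟨v, hv⟩ := hne
  obtain ⟨y, hy⟩ := h
  refine hv ?_
  rw [show v = ∑ p, v p • (L.π (L.S.a p) *ᵥ Pi.single L.o 1) by
    funext q; simp [L.S.π_a, Finset.sum_apply, Matrix.single_apply, ite_and, Pi.single_apply],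
    map_sum]
  refine Submodule.sum_mem _ fun p _ => ?_
  rw [map_smul]
  refine Submodule.smul_mem _ _ ⟨L.A ρ (L.S.a p) y, ?_⟩
  rw [← Module.End.mul_apply, ← A_mul, (show Commute L.η (L.S.a p) from L.η_comm _).pow_left _,
    A_mul, Module.End.mul_apply, hy, hσ.act ρ hτ]

theorem IsHom.injective (hτ : L.IsExt τ) (hσ : L.IsHom ρ τ σ) (hne : ∃ v, σ v ∉ L.top ρ) :
    Function.Injective σ := by
  refine (injective_iff_map_eq_zero σ).2 fun v hv => ?_
  funext p
  have h : σ (L.π (L.S.c p) *ᵥ v) = 0 := by rw [← hσ.act ρ hτ, hv, map_zero]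
  rw [L.π_c_mulVec, map_smul] at h
  exact (smul_eq_zero.1 h).resolve_right fun h0 =>
    hσ.first_notMem ρ hτ hne (h0 ▸ Submodule.zero_mem _)

/-- An endomorphism over `k[K]` projecting the kernel of `η` onto the image of the map. -/
theorem exists_psi [FiniteDimensional k V] (hτ : L.IsExt τ) (hσ : L.IsHom ρ τ σ)
    (hne : ∃ v, σ v ∉ L.top ρ) :
    ∃ ψ : Module.End k V, (∀ x : suppAlg k L.K, L.A ρ x * ψ = ψ * L.A ρ x) ∧
      L.A ρ L.f * ψ = ψ ∧ ψ * L.A ρ L.f = ψ ∧ (∀ v, ψ (σ v) = σ v) ∧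
      ∀ v, L.A ρ L.η v = 0 → ψ v ∈ LinearMap.range σ := by
  classical
  set w₀ := σ (Pi.single L.o 1) with hw₀
  have hw₀η : L.A ρ L.η w₀ = 0 := hσ.η_apply ρ hτ _
  have hw₀top := hσ.first_notMem ρ hτ hne
  have hex : ∃ j, w₀ ∉ LinearMap.range (L.A ρ (L.η ^ j)) := ⟨L.n - 1, hw₀top⟩
  set m := Nat.find hex with hm
  have hm1 : 1 ≤ m := Nat.one_le_iff_ne_zero.2 fun h0 => by
    have := Nat.find_spec hex
    rw [← hm, h0, pow_zero] at this
    exact this ⟨w₀, by rw [show L.A ρ (1 : suppAlg k L.K) = 1 from map_one (act ρ)]; rfl⟩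
  obtain ⟨y, hy⟩ : w₀ ∈ LinearMap.range (L.A ρ (L.η ^ (m - 1))) :=
    not_not.1 (Nat.find_min hex (show m - 1 < m by omega))
  have hi₀ : L.A ρ L.S.i w₀ = w₀ := by
    rw [hw₀, hσ.act ρ hτ, L.S.π_i]
    congr 1
    funext q
    simp [Matrix.single_apply, Pi.single_apply, ite_and, eq_comm]
  set x := L.A ρ L.S.i y with hx
  have hpow : ∀ j, L.η ^ j * L.S.i = L.S.i * L.η ^ j := fun j =>
    (show Commute L.η L.S.i from L.η_comm _).pow_left j
  have hxw : L.A ρ (L.η ^ (m - 1)) x = w₀ := by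
    rw [hx, ← Module.End.mul_apply, ← A_mul, hpow, A_mul, Module.End.mul_apply, hy, hi₀]
  have hxm : L.A ρ (L.η ^ m) x = 0 := by
    obtain ⟨j, hj⟩ := Nat.exists_eq_add_of_le hm1
    have h1 : L.η ^ m = L.η * L.η ^ (m - 1) := by
      rw [← pow_succ', Nat.sub_add_cancel hm1]
    rw [h1, A_mul, Module.End.mul_apply, hxw, hw₀η]
  obtain ⟨l₀, hl₀, hl₀'⟩ := Submodule.exists_dual_map_eq_bot_of_notMem
    (p := LinearMap.range (L.A ρ (L.η ^ m))) (Nat.find_spec hex) inferInstance
  set l : Module.Dual k V := ((l₀ w₀)⁻¹ • l₀).comp (L.A ρ L.S.i) with hl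
  have hl1 : l w₀ = 1 := by simp [l, hi₀, inv_mul_cancel₀ hl₀]
  have hli : ∀ u, l (L.A ρ L.S.i u) = l u := fun u => by
    simp only [l, LinearMap.comp_apply]
    rw [← Module.End.mul_apply (L.A ρ L.S.i), ← A_mul, L.S.i_idem]
  have hlm : ∀ u, l (L.A ρ (L.η ^ m) u) = 0 := fun u => by
    have : l₀ (L.A ρ L.S.i (L.A ρ (L.η ^ m) u)) = 0 := by
      rw [← Module.End.mul_apply, ← A_mul, ← hpow, A_mul, Module.End.mul_apply]
      have h := Submodule.mem_map_of_mem (f := l₀)
        (LinearMap.mem_range_self (L.A ρ (L.η ^ m)) (L.A ρ L.S.i u))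
      rwa [hl₀', Submodule.mem_bot] at h
    simp [l, this]
  set φ : Module.End k V := ∑ h ∈ Finset.range m,
    (l.comp (L.A ρ (L.η ^ (m - 1 - h)))).smulRight (L.A ρ (L.η ^ h) x) with hφ
  have hφapp : ∀ u, φ u = ∑ h ∈ Finset.range m,
      l (L.A ρ (L.η ^ (m - 1 - h)) u) • L.A ρ (L.η ^ h) x := fun u => by
    simp [φ, LinearMap.sum_apply]
  have hφη : ∀ u, φ (L.A ρ L.η u) = L.A ρ L.η (φ u) := by
    intro u
    rw [hφapp, hφapp, map_sum]
    obtain ⟨j, hj⟩ : ∃ j, m = j + 1 := ⟨m - 1, by omega⟩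
    rw [hj, Finset.sum_range_succ', Finset.sum_range_succ (fun h =>
      L.A ρ L.η (l (L.A ρ (L.η ^ (j + 1 - 1 - h)) u) • L.A ρ (L.η ^ h) x)) j]
    have h0 : l (L.A ρ (L.η ^ (j + 1 - 1 - 0)) (L.A ρ L.η u)) = 0 := by
      rw [← Module.End.mul_apply, ← A_mul, ← pow_succ, show j + 1 - 1 - 0 + 1 = m by omega, hlm]
    have hlast : L.A ρ L.η (l (L.A ρ (L.η ^ (j + 1 - 1 - j)) u) • L.A ρ (L.η ^ j) x) = 0 := by
      rw [map_smul, ← Module.End.mul_apply, ← A_mul, ← pow_succ', ← hj, hxm, smul_zero]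
    rw [h0, zero_smul, hlast, add_zero, add_zero]
    refine Finset.sum_congr rfl fun h hh => ?_
    have := Finset.mem_range.1 hh
    rw [map_smul, ← Module.End.mul_apply (L.A ρ L.η), ← A_mul, ← pow_succ',
      ← Module.End.mul_apply (L.A ρ _) (L.A ρ L.η), ← A_mul, ← pow_succ,
      show j + 1 - 1 - (h + 1) + 1 = j + 1 - 1 - h by omega]
  have hφpow : ∀ j u, φ (L.A ρ (L.η ^ j) u) = L.A ρ (L.η ^ j) (φ u) := by
    intro j
    induction j with
    | zero => intro u; simp [show L.A ρ (1 : suppAlg k L.K) = 1 from map_one (act ρ)]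
    | succ j ih =>
      intro u
      rw [pow_succ', A_mul, Module.End.mul_apply, Module.End.mul_apply, hφη, ih]
  have hφi : ∀ u, L.A ρ L.S.i (φ u) = φ u := by
    intro u
    rw [hφapp, map_sum]
    refine Finset.sum_congr rfl fun h _ => ?_
    rw [map_smul]
    congr 1
    rw [← Module.End.mul_apply, ← A_mul, ← hpow, hx, ← Module.End.mul_apply, ← A_mul, mul_assoc,
      L.S.i_idem, A_mul, Module.End.mul_apply]
  have hφker : ∀ u, L.A ρ L.η u = 0 → φ u = l u • w₀ := by
    intro u hu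
    rw [hφapp, Finset.sum_eq_single (m - 1)]
    · rw [hxw, Nat.sub_self, pow_zero, show L.A ρ (1 : suppAlg k L.K) = 1 from map_one (act ρ)]
      rfl
    · intro h hh hne'
      obtain ⟨j, hj⟩ : ∃ j, m - 1 - h = j + 1 :=
        ⟨m - 1 - h - 1, by have := Finset.mem_range.1 hh; omega⟩
      rw [hj, pow_succ, A_mul, Module.End.mul_apply, hu, map_zero, map_zero, zero_smul]
    · intro h; exact absurd (Finset.mem_range.2 (by omega)) h
  clear_value φ
  set ψ : Module.End k V := ∑ p, L.A ρ (L.S.a p) * φ * L.A ρ (L.S.c p) with hψ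
  have hcomm : ∀ z : suppAlg k L.K, L.A ρ z * ψ = ψ * L.A ρ z := by
    intro z
    have hlin : ∀ q p, φ * L.A ρ (L.S.i * (L.S.c q * z * L.S.a p) * L.S.i) =
        L.A ρ (L.S.i * (L.S.c q * z * L.S.a p) * L.S.i) * φ := by
      intro q p
      obtain ⟨lam, hlam⟩ := L.S.corner (L.S.c q * z * L.S.a p)
      rw [hlam, A_sum, Finset.mul_sum, Finset.sum_mul]
      refine Finset.sum_congr rfl fun j _ => ?_
      rw [A_smul, mul_smul_comm, smul_mul_assoc]
      congr 1
      refine LinearMap.ext fun u => ?_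
      simp only [A_mul, Module.End.mul_apply]
      rw [hφpow, hφi]
      congr 1
      rw [hφapp, hφapp]
      refine Finset.sum_congr rfl fun h _ => ?_
      congr 1
      have h1 : l (L.A ρ (L.η ^ (m - 1 - h)) (L.A ρ L.S.i u)) =
          l (L.A ρ L.S.i (L.A ρ (L.η ^ (m - 1 - h)) u)) := by
        rw [← Module.End.mul_apply, ← A_mul, hpow, A_mul, Module.End.mul_apply]
      exact h1.trans (hli _)
    have hza : ∀ p, z * L.S.a p = ∑ q, L.S.a q * (L.S.i * (L.S.c q * z * L.S.a p) * L.S.i) := by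
      intro p
      have hfza : L.f * (z * L.S.a p) = z * L.S.a p := by
        rw [L.f_comm, mul_assoc, ← L.f_comm, L.f_a]
      conv_lhs => rw [← hfza]
      refine (congrArg (· * (z * L.S.a p)) L.S.sum_eq.symm).trans ?_
      show (∑ q, L.S.a q * L.S.c q) * _ = _
      rw [Finset.sum_mul]
      refine Finset.sum_congr rfl fun q _ => ?_
      rw [← mul_assoc L.S.i, ← mul_assoc L.S.i, L.S.i_c, mul_assoc (L.S.c q * z), L.S.a_i]
      simp only [mul_assoc]
    have hcz : ∀ q, L.S.c q * z = ∑ p, (L.S.i * (L.S.c q * z * L.S.a p) * L.S.i) * L.S.c p := by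
      intro q
      have hfcz : (L.S.c q * z) * L.f = L.S.c q * z := by
        rw [mul_assoc, ← L.f_comm, ← mul_assoc, L.c_f]
      conv_lhs => rw [← hfcz]
      refine (congrArg (L.S.c q * z * ·) L.S.sum_eq.symm).trans ?_
      show _ * (∑ p, L.S.a p * L.S.c p) = _
      rw [Finset.mul_sum]
      refine Finset.sum_congr rfl fun p _ => ?_
      rw [← mul_assoc L.S.i, ← mul_assoc L.S.i, L.S.i_c, mul_assoc (L.S.c q * z), L.S.a_i]
      simp only [mul_assoc]
    calc L.A ρ z * ψ = ∑ p, ∑ q, L.A ρ (L.S.a q) *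
          (L.A ρ (L.S.i * (L.S.c q * z * L.S.a p) * L.S.i) * φ) * L.A ρ (L.S.c p) := by
          rw [hψ, Finset.mul_sum]
          refine Finset.sum_congr rfl fun p _ => ?_
          rw [← mul_assoc, ← mul_assoc, ← A_mul, hza, A_sum, Finset.sum_mul, Finset.sum_mul]
          exact Finset.sum_congr rfl fun q _ => by rw [A_mul, mul_assoc (L.A ρ (L.S.a q))]
      _ = ∑ q, ∑ p, L.A ρ (L.S.a q) * φ *
          L.A ρ ((L.S.i * (L.S.c q * z * L.S.a p) * L.S.i) * L.S.c p) := by
          rw [Finset.sum_comm]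
          refine Finset.sum_congr rfl fun q _ => Finset.sum_congr rfl fun p _ => ?_
          rw [← hlin]
          simp only [A_mul, mul_assoc]
      _ = ψ * L.A ρ z := by
          rw [hψ, Finset.sum_mul]
          refine Finset.sum_congr rfl fun q _ => ?_
          rw [mul_assoc _ (L.A ρ (L.S.c q)), ← A_mul]
          conv_rhs => rw [hcz q, A_sum, Finset.mul_sum]
  have hfψ : L.A ρ L.f * ψ = ψ := by
    rw [hψ, Finset.mul_sum]
    refine Finset.sum_congr rfl fun p _ => ?_
    rw [← mul_assoc, ← mul_assoc, ← A_mul, L.f_a]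
  refine ⟨ψ, hcomm, hfψ, by rw [← hcomm, hfψ], fun v => ?_, fun v hv => ?_⟩
  · have hc : ∀ p, L.A ρ (L.S.c p) (σ v) = v p • w₀ := fun p => by
      rw [hσ.act ρ hτ, L.π_c_mulVec, map_smul]
    have hw : φ w₀ = w₀ := by rw [hφker w₀ hw₀η, hl1, one_smul]
    simp only [hψ, LinearMap.sum_apply, Module.End.mul_apply, hc, map_smul, hw]
    rw [show v = ∑ p, v p • (L.π (L.S.a p) *ᵥ Pi.single L.o 1) by
      funext q; simp [L.S.π_a, Finset.sum_apply, Matrix.single_apply, ite_and, Pi.single_apply],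
      map_sum]
    refine Finset.sum_congr rfl fun p _ => ?_
    rw [map_smul, ← hσ.act ρ hτ]
    simp [w₀, Finset.sum_apply, L.S.π_a, Matrix.single_apply, ite_and, Pi.single_apply]
  · rw [hψ, LinearMap.sum_apply]
    refine Submodule.sum_mem _ fun p _ => ?_
    have h1 : L.A ρ L.η (L.A ρ (L.S.c p) v) = 0 := by
      rw [← Module.End.mul_apply, ← A_mul, L.η_comm, A_mul, Module.End.mul_apply, hv, map_zero]
    rw [Module.End.mul_apply, Module.End.mul_apply, hφker _ h1, map_smul]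
    refine Submodule.smul_mem _ _ ⟨L.π (L.S.a p) *ᵥ Pi.single L.o 1, ?_⟩
    rw [← hσ.act ρ hτ]

/-- A simple module takes such maps from one extension at most. -/
theorem eq_of_two_homs [Fintype G] [IsAlgClosed k] [FiniteDimensional k V] (hs : IsSimpleMod ρ)
    (hτ : L.IsExt τ) (hτ' : L.IsExt τ') (hσ : L.IsHom ρ τ σ) (hσ' : L.IsHom ρ τ' σ')
    (hne : ∃ v, σ v ∉ L.top ρ) (hne' : ∃ v, σ' v ∉ L.top ρ) : τ = τ' := by
  classical
  obtain ⟨ψ, hψK, hfψ, hψf, hψσ, hψker⟩ := exists_psi ρ hτ hσ hne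
  have hψE : ∀ x ∈ L.K, conjE ρ x ψ = ψ := fun x hx => by
    have h := hψK ⟨single x 1, single_mem_suppAlg hx 1⟩
    rw [A, act_single] at h
    exact (conjE_eq_self_iff ρ x ψ).2 h
  set K' := L.K.subgroupOf L.T
  letI : Fintype (L.T ⧸ K') := Fintype.ofFinite _
  have hwell : ∀ x : L.T, conjE ρ ((((QuotientGroup.mk x : L.T ⧸ K')).out : L.T) : G) ψ =
      conjE ρ (x : G) ψ := by
    intro x
    obtain ⟨⟨d, hd⟩, hx⟩ := QuotientGroup.mk_out_eq_mul K' x
    rw [hx, Subgroup.coe_mul, conjE_mul, hψE _ (Subgroup.mem_subgroupOf.1 hd)]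
  set e := ((L.K.relIndex L.T : ℕ) : k) with he
  set g := e⁻¹ • ∑ q : L.T ⧸ K', conjE ρ ((q.out : L.T) : G) ψ with hg
  have hgT : ∀ t ∈ L.T, ρ t * g = g * ρ t := by
    intro t ht
    rw [← conjE_eq_self_iff, hg, conjE_smul, conjE_sum]
    congr 1
    refine Fintype.sum_equiv (MulAction.toPerm (⟨t, ht⟩ : L.T)) _ _ fun q => ?_
    obtain ⟨y, rfl⟩ := QuotientGroup.mk_surjective q
    rw [MulAction.toPerm_apply, MulAction.Quotient.smul_mk, smul_eq_mul, hwell, hwell,
      Subgroup.coe_mul, conjE_mul]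
  have hQE : ∀ t ∈ L.T, conjE ρ t (L.A ρ L.f) = L.A ρ L.f := fun t ht => by
    rw [A, conjE_act, L.hfix t ht]
  have hfg : L.A ρ L.f * g = g := by
    rw [hg, mul_smul_comm, Finset.mul_sum]
    congr 1
    exact Finset.sum_congr rfl fun q _ => by
      conv_lhs => rw [← hQE _ (q.out).2, ← conjE_mul', hfψ]
  have hgf : g * L.A ρ L.f = g := by
    rw [hg, smul_mul_assoc, Finset.sum_mul]
    congr 1
    exact Finset.sum_congr rfl fun q _ => by
      conv_lhs => rw [← hQE _ (q.out).2, ← conjE_mul', hψf]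
  have hcard : (Fintype.card (L.T ⧸ K') : k) = e := by
    rw [he, Subgroup.relIndex, Subgroup.index_eq_card, Nat.card_eq_fintype_card]
  have hgσ : ∀ v, g (σ v) = σ v := by
    intro v
    have h : ∀ q : L.T, conjE ρ (q : G) ψ (σ v) = σ v := fun q => by
      rw [conjE, Module.End.mul_apply, Module.End.mul_apply, ← Subgroup.coe_inv,
        hσ.equivariant q⁻¹, hψσ, hσ.equivariant q, Matrix.mulVec_mulVec, ← map_mul, mul_inv_cancel,
        map_one, Matrix.one_mulVec]
    rw [hg, LinearMap.smul_apply, LinearMap.sum_apply, Finset.sum_congr rfl fun q _ => h _,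
      Finset.sum_const, Finset.card_univ, ← Nat.cast_smul_eq_nsmul k, hcard, smul_smul,
      inv_mul_cancel₀ L.he, one_smul]
  have hgker : ∀ v, L.A ρ L.η v = 0 → g v ∈ LinearMap.range σ := by
    intro v hv
    rw [hg, LinearMap.smul_apply, LinearMap.sum_apply]
    refine Submodule.smul_mem _ _ (Submodule.sum_mem _ fun q _ => ?_)
    obtain ⟨u, hu⟩ := hψker _ (L.ker_stable ρ (L.T.inv_mem (q.out).2) hv)
    refine ⟨τ q.out *ᵥ u, ?_⟩
    rw [← hσ.equivariant, conjE, Module.End.mul_apply, Module.End.mul_apply, hu]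
  obtain ⟨c, hc⟩ := L.stable_scalar ρ hs hgT hfg hgf
  obtain ⟨v, hv⟩ := hne
  have hc1 : c = 1 := by
    by_contra hne1
    have h := hc (σ v) (hσ.f_apply ρ hτ v) (hσ.η_apply ρ hτ v)
    rw [hgσ, show σ v - c • σ v = (1 - c) • σ v by rw [sub_smul, one_smul]] at h
    exact hv ((Submodule.smul_mem_iff _ (sub_ne_zero.2 (Ne.symm hne1))).1 h)
  subst hc1
  have hinj := hσ.injective ρ hτ ⟨v, hv⟩
  set inv := (LinearEquiv.ofInjective σ hinj).symm
  set h : Module.End k (Fin L.s → k) := inv.toLinearMap.comp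
    ((g.comp σ').codRestrict (LinearMap.range σ) fun u => hgker _ (hσ'.η_apply ρ hτ' u)) with hh
  have hσh : ∀ u, σ (h u) = g (σ' u) := fun u => by
    have := congrArg Subtype.val ((LinearEquiv.ofInjective σ hinj).apply_symm_apply
      ⟨g (σ' u), hgker _ (hσ'.η_apply ρ hτ' u)⟩)
    simpa [h, inv] using this
  have hint : ∀ (t : L.T) u, h (τ' t *ᵥ u) = τ t *ᵥ h u := fun t u => hinj (by
    rw [hσh, ← hσ'.equivariant, ← Module.End.mul_apply g, ← hgT _ t.2, Module.End.mul_apply, ← hσh,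
      hσ.equivariant])
  set N := LinearMap.toMatrix' h
  have hN : ∀ t, N * τ' t = τ t * N := fun t => by
    apply Matrix.ext_iff_mulVec.2
    intro u
    rw [← Matrix.mulVec_mulVec, ← Matrix.mulVec_mulVec, LinearMap.toMatrix'_mulVec,
      LinearMap.toMatrix'_mulVec, hint]
  obtain ⟨r, hr⟩ := Matrix.mem_range_scalar_iff_commute_single.2
    (fun p q _ => show Commute (Matrix.single p q (1 : k)) N by
      obtain ⟨z, hz⟩ := L.hπ (Matrix.single p q 1)
      have h1 : ∀ u, σ (h (L.π z *ᵥ u)) = σ (L.π z *ᵥ h u) := fun u => by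
        rw [hσh, ← hσ'.act ρ hτ', ← hσ.act ρ hτ, hσh]
        have hzg : g * L.A ρ z = L.A ρ z * g := by
          have hzK : ∀ q : L.T, conjE ρ (q : G) ψ * L.A ρ z = L.A ρ z * conjE ρ (q : G) ψ := by
            intro q
            have hzs : conjA (q : G)⁻¹ (z : MonoidAlgebra k G) ∈ suppAlg k L.K := by
              have := conjA_mem_suppAlg z.2 (q : G)⁻¹
              rwa [map_conj_eq_self (L.hKn (L.T.inv_mem q.2))] at this
            have h2 : conjE ρ (q : G) (L.A ρ ⟨_, hzs⟩) = L.A ρ z := by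
              rw [A, conjE_act, A]
              congr 1
              rw [← conjA_mul_left, mul_inv_cancel, conjA_one_left]
            rw [← h2, ← conjE_mul', ← conjE_mul', hψK]
          rw [hg, smul_mul_assoc, mul_smul_comm, Finset.sum_mul, Finset.mul_sum]
          congr 1
          exact Finset.sum_congr rfl fun q _ => hzK _
        exact LinearMap.congr_fun hzg (σ' u)
      show _ * _ = _ * _
      apply Matrix.ext_iff_mulVec.2
      intro u
      rw [← Matrix.mulVec_mulVec, ← Matrix.mulVec_mulVec, LinearMap.toMatrix'_mulVec,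
        LinearMap.toMatrix'_mulVec, ← hz]
      exact (hinj (h1 u)).symm)
  have hr0 : r ≠ 0 := fun h0 => by
    obtain ⟨u, hu⟩ := hne'
    have hz : h u = 0 := by
      rw [← LinearMap.toMatrix'_mulVec h u]
      show N *ᵥ u = 0
      rw [← hr, h0, map_zero, Matrix.zero_mulVec]
    have h1 := hc (σ' u) (hσ'.f_apply ρ hτ' u) (hσ'.η_apply ρ hτ' u)
    rw [← hσh, hz, map_zero, one_smul, zero_sub] at h1
    exact hu ((Submodule.neg_mem_iff _).1 h1)
  refine MonoidHom.ext fun t => ?_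
  have h1 := hN t
  rw [← hr] at h1
  simp only [Matrix.scalar_apply, ← Matrix.smul_one_eq_diagonal, smul_mul_assoc, one_mul,
    mul_smul_comm, mul_one] at h1
  exact (smul_right_injective _ hr0 h1).symm

end Local

end CfsgLib.CyclicBlock
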